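import Groth.Statements.S9558
import Mathlib
import Groth.Agent.Lib.Helper6.EtLocUnr3
-- import your own Groth.Agent.* helpers here

set_option autoImplicit false
universe u
open EtLocal

namespace Groth.Agent.S9558

open AlgebraicGeometry CategoryTheory Limits in
/-- Let f : X ⟶ S be a separated morphism of schemes, s a point of S and x_1, …, x_n pairwise distinct
points of X over s such that f is étale at each x_i (the restriction of f to some open neighbourhood
of x_i is étale). Then there are an étale morphism g : U ⟶ S, a point u of U over s, and a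
decomposition of X_U = X ×_S U into pairwise disjoint open subschemes W and finitely many V_k which
together cover X_U, such that each V_k ⟶ U is an isomorphism and no point of W over u maps to any of
the x_i. -/
theorem result {X S : Scheme.{u}} (f : X ⟶ S)
    [IsSeparated f] (s : S)
    {ι : Type} [Finite ι] (x : ι → ↑X) (hinj : Function.Injective x) (hs : ∀ i, f (x i) = s)
    (hx : ∀ i, ∃ W : X.Opens, x i ∈ W ∧ Etale (W.ι ≫ f)) :
    ∃ (U : Scheme.{u}) (g : U ⟶ S) (u : U), Etale g ∧ g u = s ∧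
      ∃ (K : Type) (_ : Finite K) (W : (pullback f g).Opens) (V : K → (pullback f g).Opens),
        W ⊔ (⨆ k, V k) = ⊤ ∧ (∀ k, Disjoint W (V k)) ∧ (∀ k k', k ≠ k' → Disjoint (V k) (V k')) ∧
        (∀ k, IsIso ((V k).ι ≫ pullback.snd f g)) ∧
        (∀ (w : ↑(pullback f g)) (i : ι), w ∈ W → pullback.snd f g w = u → pullback.fst f g w ≠ x i) := by
  classical
  choose W hxW hEt using hx
  obtain ⟨U, g, u, hg, hu, K, hK, lab, V, v, hV, hinjv, hex, hsep⟩ :=
    Groth.Agent.Lib.Helper6.EtLoc.exists_etale_nbhd_unramified_at_points f s x hinj hs W hxW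
      (fun i => haveI := hEt i; inferInstance) (fun i => haveI := hEt i; inferInstance)
  replace hsep := hsep inferInstance
  have hcl : IsClosed (⋃ k, (V k : Set ↑(Limits.pullback f g))) :=
    isClosed_iUnion_of_finite hsep.1
  let W' : (Limits.pullback f g).Opens := ⟨(⋃ k, (V k : Set ↑(Limits.pullback f g)))ᶜ,
    hcl.isOpen_compl⟩
  have hW' : ∀ p, p ∈ W' ↔ ∀ k, p ∉ V k := fun p => by
    change p ∈ (⋃ k, (V k : Set ↑(Limits.pullback f g)))ᶜ ↔ _
    simp
  refine ⟨U, g, u, hg, hu, K, hK, W', V, ?_, ?_, ?_, fun k => (hV k).2.2.1 hEt, ?_⟩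
  · refine top_le_iff.mp fun p _ => ?_
    by_cases hp : ∃ k, p ∈ V k
    · obtain ⟨k, hk⟩ := hp
      exact (le_sup_right : (⨆ k, V k) ≤ W' ⊔ ⨆ k, V k) (TopologicalSpace.Opens.mem_iSup.mpr ⟨k, hk⟩)
    · exact (le_sup_left : W' ≤ W' ⊔ ⨆ k, V k) ((hW' p).mpr (not_exists.mp hp))
  · intro k
    refine TopologicalSpace.Opens.coe_disjoint.mp (Set.disjoint_left.mpr fun p hp hp' => ?_)
    exact (hW' p).mp hp k hp'
  · intro k k' hkk'
    refine TopologicalSpace.Opens.coe_disjoint.mp (Set.disjoint_left.mpr fun p hp hp' => ?_)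
    exact hkk' (hsep.2 k k' ⟨p, hp, hp'⟩)
  · intro w i hwW h1 h2
    obtain ⟨k, hk, rfl⟩ := hex w i h1 h2
    exact (hW' _).mp hwW k (hV k).1

end Groth.Agent.S9558
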