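import Groth.Statements.S9562
import Mathlib
import Groth.Agent.Lib.Helper9.ComplUnram

set_option autoImplicit false
universe u
open EtLocal

namespace Groth.Agent.S9562

/-- Let A → B be a local homomorphism of Noetherian local rings with B essentially of finite type over
A, and let ψ be the induced map between the completions of A and B at their maximal ideals (a ring
map of the completions whose composite with A → A^ is A → B → B^; such a map is unique). Then A → B
is an étale homomorphism of local rings, i.e. B is flat over A, m_A B = m_B and the residue field of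
B is a finite separable extension of that of A, if and only if ψ is an étale ring map; moreover in
that case the completion of B is, through ψ, a free module of finite positive rank over the
completion of A. (The published statement lists a third equivalent condition, that ψ is itself an
étale homomorphism of local rings; this row keeps the two outer ones.) -/
theorem result (A B : Type u) [CommRing A] [CommRing B]
    [IsLocalRing A] [IsLocalRing B] [IsNoetherianRing A] [IsNoetherianRing B] [Algebra A B]
    [IsLocalHom (algebraMap A B)] [Algebra.EssFiniteType A B]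
    (ψ : AdicCompletion (IsLocalRing.maximalIdeal A) A →+* AdicCompletion (IsLocalRing.maximalIdeal B) B)
    (hψ : ψ.comp (algebraMap A (AdicCompletion (IsLocalRing.maximalIdeal A) A)) =
      (algebraMap B (AdicCompletion (IsLocalRing.maximalIdeal B) B)).comp (algebraMap A B)) :
    ((Module.Flat A B ∧ (IsLocalRing.maximalIdeal A).map (algebraMap A B) = IsLocalRing.maximalIdeal B ∧
        Module.Finite (IsLocalRing.ResidueField A) (IsLocalRing.ResidueField B) ∧
        Algebra.IsSeparable (IsLocalRing.ResidueField A) (IsLocalRing.ResidueField B)) ↔ ψ.Etale) ∧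
      (ψ.Etale →
        letI := ψ.toAlgebra
        ∃ n : ℕ, 0 < n ∧
          Nonempty ((Fin n → AdicCompletion (IsLocalRing.maximalIdeal A) A) ≃ₗ[AdicCompletion (IsLocalRing.maximalIdeal A) A]
            AdicCompletion (IsLocalRing.maximalIdeal B) B)) := by
  have nA : IsNoetherianRing (AdicCompletion (IsLocalRing.maximalIdeal A) A) :=
    Groth.Agent.Lib.Helper21.isNoetherianRing_adicCompletion_of_fg _ (IsNoetherian.noetherian _)
  -- étale ⟹ the four conditions
  have key : ψ.Etale → (Module.Flat A B ∧
      (IsLocalRing.maximalIdeal A).map (algebraMap A B) = IsLocalRing.maximalIdeal B ∧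
      Module.Finite (IsLocalRing.ResidueField A) (IsLocalRing.ResidueField B) ∧
      Algebra.IsSeparable (IsLocalRing.ResidueField A) (IsLocalRing.ResidueField B)) := by
    intro h
    have hflat : ψ.Flat := by
      let algψ : Algebra (AdicCompletion (IsLocalRing.maximalIdeal A) A)
        (AdicCompletion (IsLocalRing.maximalIdeal B) B) := ψ.toAlgebra
      have he : Algebra.Etale (AdicCompletion (IsLocalRing.maximalIdeal A) A)
        (AdicCompletion (IsLocalRing.maximalIdeal B) B) := h
      show Module.Flat (AdicCompletion (IsLocalRing.maximalIdeal A) A)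
        (AdicCompletion (IsLocalRing.maximalIdeal B) B)
      infer_instance
    have hft : ψ.FiniteType := by
      let algψ : Algebra (AdicCompletion (IsLocalRing.maximalIdeal A) A)
        (AdicCompletion (IsLocalRing.maximalIdeal B) B) := ψ.toAlgebra
      have he : Algebra.Etale (AdicCompletion (IsLocalRing.maximalIdeal A) A)
        (AdicCompletion (IsLocalRing.maximalIdeal B) B) := h
      show Algebra.FiniteType (AdicCompletion (IsLocalRing.maximalIdeal A) A)
        (AdicCompletion (IsLocalRing.maximalIdeal B) B)
      infer_instance
    have hfu : ψ.FormallyUnramified := by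
      let algψ : Algebra (AdicCompletion (IsLocalRing.maximalIdeal A) A)
        (AdicCompletion (IsLocalRing.maximalIdeal B) B) := ψ.toAlgebra
      have he : Algebra.Etale (AdicCompletion (IsLocalRing.maximalIdeal A) A)
        (AdicCompletion (IsLocalRing.maximalIdeal B) B) := h
      show Algebra.FormallyUnramified (AdicCompletion (IsLocalRing.maximalIdeal A) A)
        (AdicCompletion (IsLocalRing.maximalIdeal B) B)
      infer_instance
    have hAB : Module.Flat A B :=
      RingHom.flat_algebraMap_iff.mp ((Groth.Agent.S9231.result A B ψ hψ).mp hflat)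
    exact ⟨hAB, Groth.Agent.Lib.Helper9.ComplUnram.of_unramified A B ψ hψ hft hfu⟩
  -- the four conditions ⟹ finite, flat, unramified
  have key2 : (Module.Flat A B ∧
      (IsLocalRing.maximalIdeal A).map (algebraMap A B) = IsLocalRing.maximalIdeal B ∧
      Module.Finite (IsLocalRing.ResidueField A) (IsLocalRing.ResidueField B) ∧
      Algebra.IsSeparable (IsLocalRing.ResidueField A) (IsLocalRing.ResidueField B)) →
      ψ.Finite ∧ ψ.Flat ∧ ψ.FormallyUnramified := by
    rintro ⟨hfl, hm, hfin, hsep⟩
    obtain ⟨h1, h2⟩ := Groth.Agent.Lib.Helper9.ComplUnram.finite_and_unramified A B ψ hψ hm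
    exact ⟨h1, (Groth.Agent.S9231.result A B ψ hψ).mpr (RingHom.flat_algebraMap_iff.mpr hfl), h2⟩
  refine ⟨⟨fun h => ?_, key⟩, fun h => ?_⟩
  · obtain ⟨h1, h2, h3⟩ := key2 h
    let algψ : Algebra (AdicCompletion (IsLocalRing.maximalIdeal A) A)
      (AdicCompletion (IsLocalRing.maximalIdeal B) B) := ψ.toAlgebra
    have i1 : Module.Finite (AdicCompletion (IsLocalRing.maximalIdeal A) A)
      (AdicCompletion (IsLocalRing.maximalIdeal B) B) := h1
    have i2 : Module.Flat (AdicCompletion (IsLocalRing.maximalIdeal A) A)
      (AdicCompletion (IsLocalRing.maximalIdeal B) B) := h2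
    have i3 : Algebra.FormallyUnramified (AdicCompletion (IsLocalRing.maximalIdeal A) A)
      (AdicCompletion (IsLocalRing.maximalIdeal B) B) := h3
    have i4 : Algebra.FinitePresentation (AdicCompletion (IsLocalRing.maximalIdeal A) A)
      (AdicCompletion (IsLocalRing.maximalIdeal B) B) :=
      Algebra.FinitePresentation.of_finiteType.mp inferInstance
    show Algebra.Etale (AdicCompletion (IsLocalRing.maximalIdeal A) A)
      (AdicCompletion (IsLocalRing.maximalIdeal B) B)
    exact Algebra.Etale.of_formallyUnramified_of_flat
  · obtain ⟨h1, h2, h3⟩ := key2 (key h)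
    let algψ : Algebra (AdicCompletion (IsLocalRing.maximalIdeal A) A)
      (AdicCompletion (IsLocalRing.maximalIdeal B) B) := ψ.toAlgebra
    have i1 : Module.Finite (AdicCompletion (IsLocalRing.maximalIdeal A) A)
      (AdicCompletion (IsLocalRing.maximalIdeal B) B) := h1
    have i2 : Module.Flat (AdicCompletion (IsLocalRing.maximalIdeal A) A)
      (AdicCompletion (IsLocalRing.maximalIdeal B) B) := h2
    have i5 : Module.Free (AdicCompletion (IsLocalRing.maximalIdeal A) A)
      (AdicCompletion (IsLocalRing.maximalIdeal B) B) := Module.free_of_flat_of_isLocalRing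
    let b := Module.finBasis (AdicCompletion (IsLocalRing.maximalIdeal A) A)
      (AdicCompletion (IsLocalRing.maximalIdeal B) B)
    refine ⟨_, ?_, ⟨b.equivFun.symm⟩⟩
    by_contra hn
    have h0 : Module.finrank (AdicCompletion (IsLocalRing.maximalIdeal A) A)
      (AdicCompletion (IsLocalRing.maximalIdeal B) B) = 0 := by omega
    have : IsEmpty (Fin (Module.finrank (AdicCompletion (IsLocalRing.maximalIdeal A) A)
      (AdicCompletion (IsLocalRing.maximalIdeal B) B))) := by
      rw [h0]; infer_instance
    have hs : Subsingleton (AdicCompletion (IsLocalRing.maximalIdeal B) B) :=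
      b.equivFun.toEquiv.subsingleton
    exact not_subsingleton _ hs

end Groth.Agent.S9562
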