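import Groth.Statements.S9564
import Groth.Agent.Lib.Helper26.LocalStructure

set_option autoImplicit false
universe u
open EtLocal

namespace Groth.Agent.S9564

open Groth.Agent.Lib.Helper26

/-- Let A → B be an unramified homomorphism of Noetherian local rings, i.e. a local homomorphism with B
essentially of finite type over A, m_A B = m_B, and residue field of B finite separable over that of
A. Then there are a standard étale A-algebra B' = A[t]_g/(f) (f monic and f' invertible in B'), a
prime 𝔮 of B' and an ideal I of the localization of B' at 𝔮 such that B is isomorphic as an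
A-algebra to the quotient of that localization by I (existence of an isomorphism). -/
theorem result (A B : Type u) [CommRing A] [CommRing B]
    [IsLocalRing A] [IsLocalRing B] [IsNoetherianRing A] [IsNoetherianRing B] [Algebra A B]
    [IsLocalHom (algebraMap A B)] [Algebra.EssFiniteType A B]
    (hm : (IsLocalRing.maximalIdeal A).map (algebraMap A B) = IsLocalRing.maximalIdeal B)
    [Module.Finite (IsLocalRing.ResidueField A) (IsLocalRing.ResidueField B)]
    [Algebra.IsSeparable (IsLocalRing.ResidueField A) (IsLocalRing.ResidueField B)] :
    ∃ (P : StandardEtalePair A) (𝔮 : Ideal P.Ring) (_ : 𝔮.IsPrime) (I : Ideal (Localization.AtPrime 𝔮)),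
      Nonempty (B ≃ₐ[A] (Localization.AtPrime 𝔮 ⧸ I)) := by
  classical
  let C := Algebra.EssFiniteType.subalgebra A B
  let 𝔯 := essPrime A B
  have hunr : Algebra.FormallyUnramified A B := Algebra.FormallyUnramified.of_map_maximalIdeal hm
  have : Algebra.IsUnramifiedAt A 𝔯 := by
    let e : B ≃ₐ[C] Localization.AtPrime 𝔯 := IsLocalization.algEquiv 𝔯.primeCompl B _
    exact Algebra.FormallyUnramified.of_equiv (e.restrictScalars A)
  obtain ⟨f, hf𝔯, P, φ, hφ⟩ :=
    Algebra.IsUnramifiedAt.exists_hasStandardEtaleSurjectionOn (R := A) 𝔯
  exact ⟨P, (exists_algEquiv_of_surjective_away f hf𝔯 φ hφ).1⟩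

end Groth.Agent.S9564
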