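import Groth.Statements.S9570
-- import your own Groth.Agent.* helpers here
import Groth.Agent.Lib.Helper29.ProjIdealPull
import Groth.Agent.Lib.Helper29.TwistPn
import Groth.Agent.S3563

set_option autoImplicit false
universe u
open CategoryTheory CategoryTheory.Limits AlgebraicGeometry TopologicalSpace Opposite
open Constr

namespace Groth.Agent.S9570

/-- Let R be a ring and i : Z → P^n_R a closed immersion. For d ≥ 0 let I_d be the kernel of the map
from the degree-d forms of R[T_0, …, T_n] to the global sections of i^*O(d), sending a form F to the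
inverse image of the global section F of O(d). Then I = ⊕ I_d is a graded ideal and Z is the closed
subscheme Proj(R[T_0, …, T_n]/I) of P^n_R: for every surjective homomorphism of graded rings φ from
R[T_0, …, T_n] onto a graded ring B whose kernel in each degree d is exactly I_d, there is an
isomorphism Z ≅ Proj B whose composite with the morphism Proj B → P^n_R induced by φ is i. -/
theorem result {R : Type u} [CommRing R] (n : ℕ)
    {Z : Scheme.{u}} (i : Z ⟶ CohB1.ProjSpace n R) [IsClosedImmersion i]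
    {B : Type u} [CommRing B] [Algebra R B] (ℬ : ℕ → Submodule R B) [GradedAlgebra ℬ]
    (φ : CohB1.polyGrading n R →+*ᵍ ℬ) (hφs : Function.Surjective φ)
    (hker : ∀ (d : ℕ) (F : MvPolynomial (Fin (n + 1)) R) (hF : F ∈ CohB1.polyGrading n R d),
      φ F = 0 ↔ ProjUP.pullSec i (Twist.twistProjSpace n R d) (Twist.globalOf (CohB1.polyGrading n R) ⟨F, hF⟩) = 0)
    (hφ : HomogeneousIdeal.irrelevant ℬ ≤ (HomogeneousIdeal.irrelevant (CohB1.polyGrading n R)).map φ) :
    ∃ e : Z ≅ Proj ℬ, e.hom ≫ Proj.map φ hφ = i := by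
  classical
  let ι : Type u := ULift.{u} (Fin (n + 1))
  let f : ι → CohB1.polyGrading n R 1 := fun j => Groth.Agent.Lib.Helper29.QCoh.Xi n R j.down
  have hcov : ∀ x : Proj (CohB1.polyGrading n R),
      ∃ j, x ∈ Groth.Agent.Lib.Helper29.QCoh.Dp (CohB1.polyGrading n R) f j := by
    intro x
    obtain ⟨j, hj⟩ := Groth.Agent.Lib.Helper29.QCoh.exists_mem_basicOpen_X n R x
    exact ⟨⟨j⟩, hj⟩
  haveI : Finite ι := Finite.of_fintype _
  obtain ⟨i', hi'⟩ : ∃ i' : Z ⟶ Proj (CohB1.polyGrading n R), i' = i := ⟨i, rfl⟩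
  haveI : IsClosedImmersion i' := by rw [hi']; assumption
  haveI : IsClosedImmersion (Proj.map φ hφ) :=
    Groth.Agent.S3563.result (CohB1.polyGrading n R) ℬ φ hφs hφ
  have hkerEq : (Proj.map φ hφ).ker = i'.ker :=
    Groth.Agent.Lib.Helper29.QCoh.ker_map_eq_ker_of_pullSect (CohB1.polyGrading n R) f
      i' hcov ℬ φ hφ (fun d a => by rw [hi']; exact hker d a.1 a.2)
  haveI := IsClosedImmersion.isIso_lift (Proj.map φ hφ) i' hkerEq
  refine ⟨asIso (IsClosedImmersion.lift (Proj.map φ hφ) i' hkerEq.le), ?_⟩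
  rw [← hi']
  exact IsClosedImmersion.lift_fac _ _ _

end Groth.Agent.S9570
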