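import Groth.Statements.S9571
import Mathlib

set_option autoImplicit false
universe u
open CategoryTheory CategoryTheory.Limits AlgebraicGeometry TopologicalSpace Opposite
open Constr

namespace Groth.Agent.S9571


section
variable {R A : Type u} [CommRing R] [CommRing A] [Algebra R A] (𝒜 : ℕ → Submodule R A) [GradedAlgebra 𝒜]

/-- key: in `Loc`, span of `f/1` over `A0` equals `twistAt` iff `f ∉ p` -/
theorem span_eq_twistAt_iff {d : ℕ} {i j : ℕ} {a b : A} (ha : a ∈ 𝒜 i) (hb : b ∈ 𝒜 j) (hij : i = j + d)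
    (p : ProjectiveSpectrum 𝒜) (hp : a * b ∉ p.asHomogeneousIdeal)
    {n : ℕ} (f : 𝒜 (n * d)) :
    (f : A) ∉ p.asHomogeneousIdeal ↔
      Submodule.span (Twist.A0 𝒜 p) {((Twist.globalOf 𝒜 f).1 ⟨p, trivial⟩ : Twist.Loc 𝒜 p)} =
        Twist.twistAt 𝒜 ((n * d : ℕ) : ℤ) p := by
  have hone : (1 : A) ∉ p.asHomogeneousIdeal :=
    fun h => p.isPrime.ne_top ((Ideal.eq_top_iff_one _).mpr h)
  have hval : ((Twist.globalOf 𝒜 f).1 ⟨p, trivial⟩ : Twist.Loc 𝒜 p) =
      Localization.mk (f : A) ⟨1, hone⟩ := rfl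
  rw [hval]
  constructor
  · intro hf
    apply le_antisymm
    · rw [Submodule.span_le, Set.singleton_subset_iff]
      exact Submodule.subset_span ⟨n * d, 0, f, ⟨1, SetLike.GradedOne.one_mem⟩, hone, by simp, rfl⟩
    · unfold Twist.twistAt
      rw [Submodule.span_le]
      rintro _ ⟨i', j', c, t, ht, hdeg, rfl⟩
      rw [SetLike.mem_coe, Submodule.mem_span_singleton]
      have hdeg' : i' = j' + n * d := by exact_mod_cast hdeg
      have htf : (t : A) * (f : A) ∉ p.asHomogeneousIdeal := fun h =>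
        (p.isPrime.mem_or_mem h).elim ht hf
      refine ⟨HomogeneousLocalization.mk ⟨i', c, ⟨(t : A) * (f : A), hdeg' ▸ SetLike.mul_mem_graded t.2 f.2⟩, htf⟩, ?_⟩
      rw [Algebra.smul_def, HomogeneousLocalization.algebraMap_apply, HomogeneousLocalization.val_mk,
        Localization.mk_mul, Localization.mk_eq_mk_iff, Localization.r_iff_exists]
      refine ⟨1, ?_⟩
      simp only [OneMemClass.coe_one, one_mul, Submonoid.coe_mul, mul_one]
      ring
  · intro h hf
    have hab : a ∉ p.asHomogeneousIdeal ∧ b ∉ p.asHomogeneousIdeal :=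
      ⟨fun h' => hp (Ideal.mul_mem_right _ _ h'), fun h' => hp (Ideal.mul_mem_left _ _ h')⟩
    have hbn : b ^ n ∉ p.asHomogeneousIdeal := fun h' => hab.2 (p.isPrime.mem_of_pow_mem n h')
    have hmem : Localization.mk (a ^ n) ⟨b ^ n, hbn⟩ ∈ Twist.twistAt 𝒜 ((n * d : ℕ) : ℤ) p := by
      refine Submodule.subset_span ⟨n * i, n * j, ⟨a ^ n, ?_⟩, ⟨b ^ n, ?_⟩, hbn, ?_, rfl⟩
      · simpa using SetLike.pow_mem_graded n ha
      · simpa using SetLike.pow_mem_graded n hb
      · subst hij; push_cast; ring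
    rw [← h, Submodule.mem_span_singleton] at hmem
    obtain ⟨r, hr⟩ := hmem
    rw [Algebra.smul_def, HomogeneousLocalization.algebraMap_apply, HomogeneousLocalization.eq_num_div_den,
      Localization.mk_mul, Localization.mk_eq_mk_iff, Localization.r_iff_exists] at hr
    obtain ⟨c, hc⟩ := hr
    simp only [Submonoid.coe_mul, OneMemClass.coe_one, mul_one] at hc
    -- hc : c * (b^n * (r.num * f)) = c * (r.den * a^n)
    have h1 : (c : A) * (r.den * a ^ n) ∈ p.asHomogeneousIdeal.toIdeal := by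
      rw [← hc]
      exact Ideal.mul_mem_left _ _ (Ideal.mul_mem_left _ _ (Ideal.mul_mem_left _ _ hf))
    have hcp : (c : A) ∉ p.asHomogeneousIdeal.toIdeal := c.2
    have hdp : r.den ∉ p.asHomogeneousIdeal.toIdeal := r.den_mem
    rcases p.isPrime.mem_or_mem h1 with h2 | h2
    · exact hcp h2
    · rcases p.isPrime.mem_or_mem h2 with h3 | h3
      · exact hdp h3
      · exact hab.1 (p.isPrime.mem_of_pow_mem n h3)

end

theorem span_subtype_eq_top_iff {S M : Type*} [Semiring S] [AddCommMonoid M] [Module S M]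
    (N : Submodule S M) (g : N) :
    Submodule.span S {g} = ⊤ ↔ Submodule.span S {(g : M)} = N := by
  rw [← (Submodule.map_injective_of_injective N.injective_subtype).eq_iff, Submodule.map_span,
    Set.image_singleton, Submodule.map_subtype_top]
  rfl

theorem result' {R A : Type u} [CommRing R] [CommRing A] [Algebra R A] (𝒜 : ℕ → Submodule R A) [GradedAlgebra 𝒜]
    {d : ℕ} (hd : 0 < d) {i j : ℕ} {a b : A} (ha : a ∈ 𝒜 i) (hb : b ∈ 𝒜 j) (hij : i = j + d)
    (p : ProjectiveSpectrum 𝒜) (hp : p ∈ ProjectiveSpectrum.basicOpen 𝒜 (a * b))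
    {n : ℕ} (hn : 0 < n) (f : 𝒜 (n * d)) :
    p ∈ ProjectiveSpectrum.basicOpen 𝒜 (f : A) ↔
      Submodule.span (Twist.A0 𝒜 p) {(Twist.globalOf 𝒜 f).1 ⟨p, trivial⟩} = ⊤ := by
  rw [span_subtype_eq_top_iff, ProjectiveSpectrum.mem_basicOpen]
  rw [ProjectiveSpectrum.mem_basicOpen] at hp
  exact span_eq_twistAt_iff 𝒜 ha hb hij p hp f

/-- Let S be a graded ring, X = Proj S and d ≥ 1; let W_d be the union of the opens D_+(ab) over pairs
of homogeneous a, b with deg a = deg b + d (the open over which the twisting sheaves O_X(nd) are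
invertible with compatible multiplications). For n ≥ 1 and f homogeneous of degree nd, with s the
section of O_X(nd) over W_d defined by f, the non-vanishing locus (W_d)_s equals D_+(f) ∩ W_d.
Pointwise: for p in some D_+(ab) as above, p ∈ D_+(f) if and only if the value f/1 of s at p
generates the module of degree-nd fractions at p (the span of the fractions c/t with t ∉ p and deg c
= deg t + nd, over the degree-zero local ring at p). -/
theorem result {R A : Type u} [CommRing R] [CommRing A] [Algebra R A] (𝒜 : ℕ → Submodule R A) [GradedAlgebra 𝒜]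
    {d : ℕ} (hd : 0 < d) {i j : ℕ} {a b : A} (ha : a ∈ 𝒜 i) (hb : b ∈ 𝒜 j) (hij : i = j + d)
    (p : ProjectiveSpectrum 𝒜) (hp : p ∈ ProjectiveSpectrum.basicOpen 𝒜 (a * b))
    {n : ℕ} (hn : 0 < n) (f : 𝒜 (n * d)) :
    p ∈ ProjectiveSpectrum.basicOpen 𝒜 (f : A) ↔
      Submodule.span (Twist.A0 𝒜 p) {(Twist.globalOf 𝒜 f).1 ⟨p, trivial⟩} = ⊤ := by
  exact result' 𝒜 hd ha hb hij p hp hn f

end Groth.Agent.S9571
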