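import Groth.Statements.S9572
import Groth.Agent.Lib.Helper3.TwistEv
import Groth.Agent.S3596

set_option autoImplicit false
universe u
open CategoryTheory CategoryTheory.Limits AlgebraicGeometry TopologicalSpace Opposite
open Constr

namespace Groth.Agent.S9572
open Groth.Agent.Lib.Helper3

/-- Let ψ : A → B be a homomorphism of graded rings such that A_d → B_d is bijective for all d ≥ d₀. Let
U(ψ) ⊆ Proj B be the union of the opens D_+(ψ f) over homogeneous f of positive degree, and r_ψ :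
U(ψ) → Proj A the morphism whose restriction to each chart Spec B_(ψ f) is Spec of the induced map
A_(f) → B_(ψ f) followed by the chart of Proj A. Then U(ψ) = Proj B and r_ψ is an isomorphism. (Here
r_ψ is any morphism with that chart description; it is unique.) -/
theorem result {R A : Type u} [CommRing R] [CommRing A] [Algebra R A] (𝒜 : ℕ → Submodule R A) [GradedAlgebra 𝒜]
    {B : Type u} [CommRing B] [Algebra R B] (ℬ : ℕ → Submodule R B) [GradedAlgebra ℬ] (ψ : 𝒜 →+*ᵍ ℬ)
    (d₀ : ℕ) (hbij : ∀ d : ℕ, d₀ ≤ d → Set.BijOn ψ (𝒜 d) (ℬ d))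
    (r : (PCone.dom ψ : Scheme.{u}) ⟶ Proj 𝒜)
    (hr : ∀ (d : ℕ) (f : A) (hd : 0 < d) (hf : f ∈ 𝒜 d),
      PCone.chart ψ hf hd ≫ r =
        Spec.map (CommRingCat.ofHom (HomogeneousLocalization.Away.map ψ f)) ≫ Proj.awayι 𝒜 f hf hd) :
    PCone.dom ψ = ⊤ ∧ IsIso r := by
  have hbijAway : ∀ (d : ℕ) (f : A) (hd : 0 < d) (hf : f ∈ 𝒜 d),
      Function.Bijective (HomogeneousLocalization.Away.map ψ f) := fun d f hd hf =>
    Groth.Agent.Lib.Helper3.TwistEv.away_map_bijective_of_eventually 𝒜 ℬ ψ d₀ hbij hd f hf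
  have hdom : PCone.dom ψ = ⊤ := by
    rw [eq_top_iff]
    intro y _
    by_contra hy
    apply y.not_irrelevant_le
    rw [HomogeneousIdeal.irrelevant_le]
    intro i hi x hx
    have hmem : x ^ (d₀ + 1) ∈ ℬ ((d₀ + 1) • i) := SetLike.pow_mem_graded _ hx
    have hdeg : d₀ ≤ (d₀ + 1) • i := by
      have : d₀ ≤ (d₀ + 1) * i := by nlinarith
      simpa only [smul_eq_mul] using this
    have hpos : 0 < (d₀ + 1) • i := by
      simp only [smul_eq_mul]; positivity
    obtain ⟨a, ha, hae⟩ := (hbij _ hdeg).surjOn hmem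
    have hin : ψ a ∈ y.asHomogeneousIdeal := by
      by_contra hn
      apply hy
      exact Opens.mem_iSup.mpr ⟨⟨a, _, hpos, ha⟩, hn⟩
    rw [hae] at hin
    exact y.isPrime.mem_of_pow_mem _ hin
  refine ⟨hdom, ?_⟩
  rw [← MorphismProperty.isomorphisms.iff,
    IsZariskiLocalAtTarget.iff_of_openCover (P := MorphismProperty.isomorphisms Scheme)
      (Proj.affineOpenCover 𝒜).openCover]
  intro i
  have hmain : ∀ (d : ℕ) (f : A) (hd : 0 < d) (hf : f ∈ 𝒜 d),
      IsIso (pullback.snd r (Proj.awayι 𝒜 f hf hd)) := by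
    intro d f hd hf
    have hO := Groth.Agent.S3596.isOpenImmersion_chart 𝒜 ℬ ψ hf hd
    have hpb : IsPullback (Spec.map (CommRingCat.ofHom (HomogeneousLocalization.Away.map ψ f)))
        (PCone.chart ψ hf hd) (Proj.awayι 𝒜 f hf hd) r := by
      apply IsOpenImmersion.isPullback _ _ _ _ (hr _ _ hd hf)
      rw [Proj.opensRange_awayι, Groth.Agent.S3596.preimage_basicOpen 𝒜 ℬ ψ r hr hf hd,
        Groth.Agent.S3596.opensRange_chart]
    have hiso : IsIso (Spec.map (CommRingCat.ofHom (HomogeneousLocalization.Away.map ψ f))) := by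
      have : IsIso (CommRingCat.ofHom (HomogeneousLocalization.Away.map ψ f)) :=
        (ConcreteCategory.isIso_iff_bijective _).mpr (hbijAway _ _ hd hf)
      infer_instance
    have h2 := hpb.flip.isoPullback_hom_snd
    have h3 : pullback.snd r (Proj.awayι 𝒜 f hf hd) = hpb.flip.isoPullback.inv ≫
        Spec.map (CommRingCat.ofHom (HomogeneousLocalization.Away.map ψ f)) := by
      exact (Iso.eq_inv_comp _).mpr h2
    rw [h3]
    infer_instance
  exact hmain _ _ i.1.2 i.2.2

end Groth.Agent.S9572
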