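import Groth.Statements.S9597
import Mathlib.RingTheory.Ideal.AssociatedPrime.Localization
import Mathlib.RingTheory.Ideal.Quotient.Noetherian

set_option autoImplicit false
universe u
open CAlg

namespace Groth.Agent.S9597

open Submodule in
/-- The pullback of an associated prime of `R ⧸ Ann M` (as a module over itself) is an
associated prime of `M`. -/
theorem comap_mem_associatedPrimes {R : Type u} [CommRing R] [IsNoetherianRing R] (M : Type u)
    [AddCommGroup M] [Module R M] [Module.Finite R M]
    (p : Ideal (R ⧸ Module.annihilator R M))
    (hp : p ∈ associatedPrimes (R ⧸ Module.annihilator R M) (R ⧸ Module.annihilator R M)) :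
    p.comap (Ideal.Quotient.mk (Module.annihilator R M)) ∈ associatedPrimes R M := by
  rw [AssociatedPrimes.mem_iff, isAssociatedPrime_iff] at hp
  obtain ⟨hpp, x, hx⟩ := hp
  obtain ⟨x, rfl⟩ := Ideal.Quotient.mk_surjective x
  obtain ⟨s, hs⟩ := (Module.Finite.fg_top : (⊤ : Submodule R M).FG)
  have hpp' : (p.comap (Ideal.Quotient.mk (Module.annihilator R M))).IsPrime := inferInstance
  have key : p.comap (Ideal.Quotient.mk (Module.annihilator R M)) =
      s.inf (fun m => (⊥ : Submodule R M).colon {x • m}) := by
    ext r
    rw [Ideal.mem_comap, hx, mem_colon_singleton, Submodule.mem_finsetInf]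
    simp only [mem_colon_singleton, mem_bot, smul_eq_mul]
    rw [← map_mul, Ideal.Quotient.eq_zero_iff_mem, Module.mem_annihilator]
    constructor
    · intro h m _
      rw [smul_smul]
      exact h m
    · intro h m
      have hm : m ∈ span R (s : Set M) := hs ▸ mem_top
      induction hm using span_induction with
      | mem m hm => rw [← smul_smul]; exact h m hm
      | zero => simp
      | add a b _ _ ha hb => rw [smul_add, ha, hb, add_zero]
      | smul c a _ ha => rw [smul_comm, ha, smul_zero]
  rw [key] at hpp'
  obtain ⟨m, _, hm⟩ := Ideal.eq_inf_of_isPrime_inf hpp'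
  rw [AssociatedPrimes.mem_iff, isAssociatedPrime_iff, key, ← hm]
  exact ⟨hm ▸ hpp', x • m, rfl⟩

/-- Let R be a Noetherian ring, M a finite R-module whose associated primes are pairwise incomparable
under inclusion (M has no embedded associated primes), and I the annihilator of M. Then the
associated primes of R/I, viewed as a module over itself, are again pairwise incomparable: R/I has
no embedded primes either. -/
theorem result {R : Type u} [CommRing R] [IsNoetherianRing R] (M : Type u) [AddCommGroup M] [Module R M] [Module.Finite R M] (hM : ∀ p ∈ associatedPrimes R M, ∀ q ∈ associatedPrimes R M, p ≤ q → p = q) :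
    ∀ p ∈ associatedPrimes (R ⧸ Module.annihilator R M) (R ⧸ Module.annihilator R M), ∀ q ∈ associatedPrimes (R ⧸ Module.annihilator R M) (R ⧸ Module.annihilator R M), p ≤ q → p = q := by
  intro p hp q hq hpq
  have h := hM _ (comap_mem_associatedPrimes M p hp) _ (comap_mem_associatedPrimes M q hq)
    (Ideal.comap_mono hpq)
  exact Ideal.comap_injective_of_surjective _ Ideal.Quotient.mk_surjective h

end Groth.Agent.S9597
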