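import Groth.Statements.S9598
import Mathlib.RingTheory.Ideal.AssociatedPrime.Finiteness
import Mathlib.RingTheory.Jacobson.Ring
import Mathlib.RingTheory.KrullDimension.Basic
import Mathlib.RingTheory.FiniteType

set_option autoImplicit false
universe u
open CAlg

namespace Groth.Agent.S9598

/-- For a field k and a finite type k-algebra S with dim S > 0, some element of S is a nonzerodivisor
and a nonunit. -/
theorem result {k S : Type u} [Field k] [CommRing S] [Algebra k S] [Algebra.FiniteType k S] (hdim : 0 < ringKrullDim S) :
    ∃ f : S, f ∈ nonZeroDivisors S ∧ ¬ IsUnit f := by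
  by_contra! h
  have : IsNoetherianRing S := Algebra.FiniteType.isNoetherianRing k S
  have : IsJacobsonRing S := isJacobsonRing_of_finiteType (A := k)
  have hfin := associatedPrimes.finite S S
  -- every maximal ideal is associated
  have hmax : ∀ m : Ideal S, m.IsMaximal → m ∈ associatedPrimes S S := by
    intro m hm
    have hsub : (m : Set S) ⊆ ⋃ p ∈ associatedPrimes S S, (p : Set S) := by
      rw [biUnion_associatedPrimes_eq_compl_nonZeroDivisors]
      intro x hx hx'
      exact hm.ne_top (Ideal.eq_top_of_isUnit_mem _ hx (h x hx'))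
    have := (Ideal.subset_union_prime (s := hfin.toFinset) (f := id) ⊥ ⊥
      (fun i hi _ _ => ((Set.Finite.mem_toFinset hfin).mp hi).isPrime)).mp
      (by simpa using hsub)
    obtain ⟨p, hp, hmp⟩ := this
    have hp' : p ∈ associatedPrimes S S := by simpa using hp
    have := hm.eq_of_le hp'.isPrime.ne_top hmp
    exact this ▸ hp'
  -- all primes are maximal
  have hK : Ring.KrullDimLE 0 S := by
    rw [Ring.krullDimLE_zero_iff]
    intro P hP
    have hJ : P.jacobson = P := IsJacobsonRing.out ‹_› hP.isRadical
    have hT : {J : Ideal S | P ≤ J ∧ J.IsMaximal}.Finite :=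
      hfin.subset (fun J hJ => hmax J hJ.2)
    have hinf : hT.toFinset.inf id ≤ P := by
      rw [Finset.inf_id_eq_sInf, Set.Finite.coe_toFinset]
      exact hJ.le
    obtain ⟨J, hJT, hJP⟩ := hP.inf_le'.mp hinf
    rw [Set.Finite.mem_toFinset] at hJT
    have : J = P := le_antisymm hJP hJT.1
    exact this ▸ hJT.2
  rw [Ring.krullDimLE_iff] at hK
  exact absurd hdim (not_lt.mpr (by simpa using hK))

end Groth.Agent.S9598
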