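import Groth.Statements.S9600
import Groth.Agent.Lib.Helper26.AdicExact

set_option autoImplicit false
universe u
open CAlg

namespace Groth.Agent.S9600

open Groth.Agent.Lib.Helper26

/-- A module killed by a power of `I` is `I`-adically complete. -/
theorem isAdicComplete_of_pow_smul_eq_bot {R : Type u} [CommRing R] (I : Ideal R) (Q : Type u)
    [AddCommGroup Q] [Module R Q] (c : ℕ) (hc : (I ^ c • ⊤ : Submodule R Q) = ⊥) :
    IsAdicComplete I Q where
  haus' x hx := by
    have := hx c
    rwa [hc, SModEq.bot] at this
  prec' f hf := by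
    refine ⟨f c, fun n => ?_⟩
    rcases le_total n c with h | h
    · exact hf h
    · have := hf h
      rw [hc, SModEq.bot] at this
      rw [this]

/-- Let R be a ring, I an ideal of R and 0 → M → N → Q → 0 a short exact sequence of R-modules in which
Q is killed by some power I^c of I. Then on I-adic completions the map M^ → N^ is injective, N^ → Q^
is surjective with kernel equal to the image of M^, and the canonical map Q → Q^ is bijective; so 0
→ M^ → N^ → Q → 0 is again short exact. -/
theorem result {R : Type u} [CommRing R] (I : Ideal R) {M N Q : Type u} [AddCommGroup M] [Module R M] [AddCommGroup N] [Module R N] [AddCommGroup Q] [Module R Q] (i : M →ₗ[R] N) (g : N →ₗ[R] Q) (hi : Function.Injective i) (hg : Function.Surjective g) (hig : Function.Exact i g) (c : ℕ) (hc : ∀ x ∈ I ^ c, ∀ q : Q, x • q = 0) :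
    Function.Injective (AdicCompletion.map I i) ∧ Function.Exact (AdicCompletion.map I i) (AdicCompletion.map I g) ∧ Function.Surjective (AdicCompletion.map I g) ∧ Function.Bijective (AdicCompletion.of I Q) := by
  have hQ : (I ^ c • ⊤ : Submodule R Q) = ⊥ := by
    rw [eq_bot_iff, Submodule.smul_le]
    intro r hr q _
    simp [hc r hr q]
  have hN : (I ^ c • ⊤ : Submodule R N) ≤ Submodule.map i ⊤ := by
    rw [Submodule.map_top, ← hig.linearMap_ker_eq, Submodule.smul_le]
    intro r hr n _
    rw [LinearMap.mem_ker, map_smul]
    exact hc r hr _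
  have hk : ∀ n, (I ^ (n + c) • ⊤ : Submodule R N).comap i ≤ I ^ n • ⊤ := by
    intro n a ha
    have h1 : i a ∈ Submodule.map i (I ^ n • ⊤ : Submodule R M) := by
      rw [Submodule.map_smul'']
      have : (I ^ (n + c) • ⊤ : Submodule R N) = I ^ n • (I ^ c • ⊤ : Submodule R N) := by
        rw [pow_add, mul_smul]
      rw [Submodule.mem_comap, this] at ha
      exact smul_mono_right _ hN ha
    obtain ⟨a', ha', e⟩ := h1
    exact hi e ▸ ha'
  have := isAdicComplete_of_pow_smul_eq_bot I Q c hQ
  exact ⟨adicCompletion_map_injective_of_comap_le I c hk,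
    adicCompletion_map_exact_of_comap_le I hig hg c hk, AdicCompletion.map_surjective I hg,
    (AdicCompletion.of_bijective_iff).mpr this⟩

end Groth.Agent.S9600
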