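import Groth.Statements.S9601

set_option autoImplicit false
universe u
open CAlg

namespace Groth.Agent.S9601

open AdicCompletion

/-- For a ring R, an ideal I of R and an R-module M, let M^ be the I-adic completion and K_n the kernel
of the projection M^ → M/IⁿM. The completion M^ is I-adically complete exactly when K_n = Iⁿ M^
holds for every n ≥ 1. -/
theorem result {R : Type u} [CommRing R] (I : Ideal R) (M : Type u) [AddCommGroup M] [Module R M] :
    IsAdicComplete I (AdicCompletion I M) ↔ ∀ n : ℕ, 1 ≤ n → LinearMap.ker (AdicCompletion.eval I M n) = I ^ n • (⊤ : Submodule R (AdicCompletion I M)) := by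
  have hof : ∀ k (a : M), a ∈ (I ^ k • ⊤ : Submodule R M) →
      of I M a ∈ (I ^ k • ⊤ : Submodule R (AdicCompletion I M)) := by
    intro k a ha
    have : Submodule.map (of I M) (I ^ k • ⊤) ≤ I ^ k • ⊤ := by
      rw [Submodule.map_smul'']; exact smul_mono_right _ le_top
    exact this ⟨a, ha, rfl⟩
  constructor
  · intro h n _
    refine le_antisymm ?_ (pow_smul_top_le_ker_eval I n)
    intro x
    apply AdicCompletion.induction_on I M x (fun b ↦ ?_)
    intro hx
    have hbn : b n ∈ (I ^ n • ⊤ : Submodule R M) := by
      have : (AdicCompletion.mk I M b).val n = 0 := hx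
      simpa using this
    obtain ⟨L, hL⟩ := h.prec' (fun k => of I M (b k)) (fun {m k} hmk => by
      rw [SModEq.sub_mem, ← map_sub]
      apply hof
      rw [← SModEq.sub_mem]
      exact b.property hmk)
    have hLn : L ∈ (I ^ n • ⊤ : Submodule R (AdicCompletion I M)) := by
      have h1 := hL n
      rw [SModEq.sub_mem] at h1
      have h2 := hof n _ hbn
      have : L = of I M (b n) - (of I M (b n) - L) := by abel
      rw [this]
      exact sub_mem h2 h1
    have hxL : AdicCompletion.mk I M b = L := by
      ext k
      have h1 := hL k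
      rw [SModEq.sub_mem] at h1
      have h2 := pow_smul_top_le_ker_eval I k h1
      rw [LinearMap.mem_ker, map_sub, sub_eq_zero] at h2
      simpa using h2
    rw [hxL]
    exact hLn
  · intro h
    refine { haus' := IsHausdorff.haus' , prec' := fun f hf => ?_ }
    have hcompat : ∀ {m n} (hmn : m ≤ n), (f n).val m = (f m).val m := by
      intro m n hmn
      have h1 := hf hmn
      rw [SModEq.sub_mem] at h1
      have h2 := pow_smul_top_le_ker_eval I m h1
      rw [LinearMap.mem_ker, map_sub, sub_eq_zero] at h2
      exact h2.symm
    let L : AdicCompletion I M := ⟨fun n => (f n).val n, fun {m n} hmn => by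
      rw [(f n).property hmn]; exact hcompat hmn⟩
    refine ⟨L, fun n => ?_⟩
    rcases Nat.eq_zero_or_pos n with rfl | hn
    · simp [SModEq.sub_mem]
    · rw [SModEq.sub_mem, ← h n hn, LinearMap.mem_ker, map_sub, sub_eq_zero]
      rfl

end Groth.Agent.S9601
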