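import Groth.Statements.S9602
import Mathlib.RingTheory.Ideal.Quotient.Nilpotent

set_option autoImplicit false
universe u
open CAlg

namespace Groth.Agent.S9602

open AdicCompletion

theorem isUnit_of_isUnit_evalOne {R : Type u} [CommRing R] (I : Ideal R)
    (x : AdicCompletion I R) (hx : IsUnit (AdicCompletion.evalOneₐ I x)) : IsUnit x := by
  obtain ⟨a, rfl⟩ := AdicCompletion.mk_surjective I R x
  have h0 : AdicCompletion.evalOneₐ I (AdicCompletion.mk I R a) = Ideal.Quotient.mk I (a 1) := by
    simp [evalOneₐ]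
  rw [h0] at hx
  have h1 : ∀ n, 1 ≤ n → IsUnit (Ideal.Quotient.mk (I ^ n) (a n)) := by
    intro n hn
    rw [Ideal.Quotient.isUnit_mk_pow_iff_isUnit_mk I (by lia)]
    have := AdicCompletion.Ideal.mk_eq_mk I hn a
    rw [pow_one] at this
    change Ideal.Quotient.mk I (a n) = Ideal.Quotient.mk I (a 1) at this
    rwa [this]
  have h2 : ∀ n, ∃ b : R, a n * b - 1 ∈ I ^ n := by
    intro n
    rcases Nat.eq_zero_or_pos n with rfl | hn
    · exact ⟨0, by simp⟩
    · obtain ⟨u, hu⟩ := (h1 n hn).exists_right_inv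
      obtain ⟨b, rfl⟩ := Ideal.Quotient.mk_surjective u
      rw [← map_mul, ← map_one (Ideal.Quotient.mk (I ^ n)), Ideal.Quotient.eq] at hu
      exact ⟨b, hu⟩
  choose b hb using h2
  have ha : ∀ n, a n - a (n + 1) ∈ I ^ n := by
    intro n
    have := AdicCompletion.Ideal.mk_eq_mk I (Nat.le_succ n) a
    rw [eq_comm, Ideal.Quotient.eq] at this
    exact this
  have hcauchy : ∀ n, b n ≡ b (n + 1) [SMOD (I ^ n • ⊤ : Submodule R R)] := by
    intro n
    rw [SModEq.sub_mem, smul_eq_mul, Ideal.mul_top]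
    have e : b n - b (n + 1) = b (n + 1) * (a n * b n - 1)
        - b n * ((a n - a (n + 1)) * b (n + 1) + (a (n + 1) * b (n + 1) - 1)) := by ring
    rw [e]
    refine sub_mem (Ideal.mul_mem_left _ _ (hb n)) (Ideal.mul_mem_left _ _ (add_mem
      (Ideal.mul_mem_right _ _ (ha n)) (Ideal.pow_le_pow_right (Nat.le_succ n) (hb (n + 1)))))
  refine IsUnit.of_mul_eq_one
    (AdicCompletion.mk I R (AdicCauchySequence.mk I R b hcauchy)) ?_
  apply AdicCompletion.ext_evalₐ
  intro n
  rw [map_mul, map_one, evalₐ_mk, evalₐ_mk, ← map_mul,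
    ← map_one (Ideal.Quotient.mk (I ^ n)), Ideal.Quotient.eq]
  exact hb n

/-- Let R be a ring, I an ideal of R and R^ = lim R/Iⁿ the I-adic completion. An element of R^ whose
image in R/I is invertible is itself invertible in R^; and the kernel of R^ → R/I as well as the
extended ideal I R^ both lie inside the Jacobson radical of R^. -/
theorem result {R : Type u} [CommRing R] (I : Ideal R) :
    (∀ x : AdicCompletion I R, IsUnit (AdicCompletion.evalOneₐ I x) → IsUnit x) ∧
      RingHom.ker (AdicCompletion.evalOneₐ I).toRingHom ≤ (⊥ : Ideal (AdicCompletion I R)).jacobson ∧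
      I.map (algebraMap R (AdicCompletion I R)) ≤ (⊥ : Ideal (AdicCompletion I R)).jacobson := by
  have hker : RingHom.ker (AdicCompletion.evalOneₐ I).toRingHom
      ≤ (⊥ : Ideal (AdicCompletion I R)).jacobson := by
    intro y hy
    rw [Ideal.mem_jacobson_bot]
    intro z
    apply isUnit_of_isUnit_evalOne
    have : AdicCompletion.evalOneₐ I y = 0 := hy
    rw [map_add, map_mul, map_one, this, zero_mul, zero_add]
    exact isUnit_one
  refine ⟨isUnit_of_isUnit_evalOne I, hker, le_trans ?_ hker⟩
  rw [Ideal.map_le_iff_le_comap]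
  intro r hr
  rw [Ideal.mem_comap, RingHom.mem_ker]
  have := congrArg (fun f => f r) (AdicCompletion.evalOneₐ_comp_algebraMap_eq_mk I)
  simp only [RingHom.comp_apply] at this
  rw [this]
  exact Ideal.Quotient.eq_zero_iff_mem.mpr hr

end Groth.Agent.S9602
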