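import Groth.Statements.S9603

set_option autoImplicit false
universe u
open CAlg

namespace Groth.Agent.S9603

/-- If `M` is precomplete for `I` and for `J`, it is precomplete for `I ⊔ J`. -/
theorem isPrecomplete_sup {R : Type u} [CommRing R] (I J : Ideal R) (M : Type u) [AddCommGroup M]
    [Module R M] (hI : IsPrecomplete I M) (hJ : IsPrecomplete J M) :
    IsPrecomplete (I ⊔ J) M := by
  refine ⟨fun y hy => ?_⟩
  have hle : ∀ n, ((I ⊔ J) ^ (n + n) • ⊤ : Submodule R M) ≤ I ^ n • ⊤ ⊔ J ^ n • ⊤ := by
    intro n
    rw [← Submodule.sup_smul]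
    exact Submodule.smul_mono_left Ideal.sup_pow_add_le_pow_sup_pow
  have h1 : ∀ n, ∃ u ∈ (I ^ n • ⊤ : Submodule R M), ∃ v ∈ (J ^ n • ⊤ : Submodule R M),
      u + v = y (n + 1 + (n + 1)) - y (n + n) := by
    intro n
    rw [← Submodule.mem_sup]
    apply hle n
    have := hy (show n + n ≤ n + 1 + (n + 1) by lia)
    rw [SModEq.sub_mem] at this
    rw [← neg_sub]
    exact neg_mem this
  choose u hu v hv huv using h1
  have hUc : AdicCompletion.IsAdicCauchy I M (fun N => ∑ n ∈ Finset.range N, u n) := by
    rw [AdicCompletion.isAdicCauchy_iff]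
    intro n
    rw [SModEq.sub_mem, Finset.sum_range_succ, sub_add_cancel_left]
    exact neg_mem (hu n)
  have hVc : AdicCompletion.IsAdicCauchy J M (fun N => ∑ n ∈ Finset.range N, v n) := by
    rw [AdicCompletion.isAdicCauchy_iff]
    intro n
    rw [SModEq.sub_mem, Finset.sum_range_succ, sub_add_cancel_left]
    exact neg_mem (hv n)
  obtain ⟨U, hU⟩ := hI.prec' (fun N => ∑ n ∈ Finset.range N, u n) hUc
  obtain ⟨V, hV⟩ := hJ.prec' (fun N => ∑ n ∈ Finset.range N, v n) hVc
  refine ⟨y 0 + U + V, fun N => ?_⟩
  have htel : y (N + N) - y 0 = ∑ n ∈ Finset.range N, u n + ∑ n ∈ Finset.range N, v n := by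
    rw [← Finset.sum_add_distrib]
    simp_rw [huv]
    exact (Finset.sum_range_sub (fun n => y (n + n)) N).symm
  have h1 := hy (show N ≤ N + N by lia)
  have h2 := hU N
  have h3 := hV N
  rw [SModEq.sub_mem] at h1 h2 h3 ⊢
  have hIle : (I ^ N • ⊤ : Submodule R M) ≤ (I ⊔ J) ^ N • ⊤ :=
    Submodule.smul_mono_left (Ideal.pow_right_mono le_sup_left N)
  have hJle : (J ^ N • ⊤ : Submodule R M) ≤ (I ⊔ J) ^ N • ⊤ :=
    Submodule.smul_mono_left (Ideal.pow_right_mono le_sup_right N)
  have e : y N - (y 0 + U + V) = (y N - y (N + N)) + (y (N + N) - y 0) - U - V := by abel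
  rw [e, htel]
  have e2 : y N - y (N + N) + (∑ n ∈ Finset.range N, u n + ∑ n ∈ Finset.range N, v n) - U - V
      = (y N - y (N + N)) + (∑ n ∈ Finset.range N, u n - U) + (∑ n ∈ Finset.range N, v n - V) := by
    abel
  rw [e2]
  exact add_mem (add_mem h1 (hIle h2)) (hJle h3)

/-- For a ring A, elements f_1, …, f_r generating an ideal I and an A-module M, if the canonical map
from M to its (f_i)-adic completion is surjective for every i, then the canonical map from M to its
I-adic completion is surjective. -/
theorem result {A : Type u} [CommRing A] {r : ℕ} (f : Fin r → A) (M : Type u) [AddCommGroup M] [Module A M] (h : ∀ i, Function.Surjective (AdicCompletion.of (Ideal.span {f i}) M)) :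
    Function.Surjective (AdicCompletion.of (Ideal.span (Set.range f)) M) := by
  rw [AdicCompletion.of_surjective_iff]
  have key : ∀ s : Finset (Fin r), IsPrecomplete (s.sup fun i => Ideal.span {f i}) M := by
    intro s
    induction s using Finset.induction_on with
    | empty => rw [Finset.sup_empty]; infer_instance
    | insert a s _ ih =>
      rw [Finset.sup_insert]
      exact isPrecomplete_sup _ _ M ((AdicCompletion.of_surjective_iff).mp (h a)) ih
  have e : Ideal.span (Set.range f) = Finset.univ.sup fun i => Ideal.span {f i} := by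
    rw [Finset.sup_univ_eq_iSup]
    exact Submodule.span_range_eq_iSup
  rw [e]
  exact key _

end Groth.Agent.S9603
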