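import Groth.Statements.S9604

set_option autoImplicit false
universe u
open CAlg

namespace Groth.Agent.S9604

theorem aux {R : Type u} [CommRing R] (I J : Ideal R) (c d : ℕ) (hc : 0 < c) (hd : 0 < d)
    (hI : I ^ c ≤ J) (hJ : J ^ d ≤ I) (M : Type u) [AddCommGroup M] [Module R M]
    (h : IsAdicComplete I M) : IsAdicComplete J M := by
  have hJI : ∀ n, (J ^ (d * n) • ⊤ : Submodule R M) ≤ I ^ n • ⊤ := fun n =>
    Submodule.smul_mono_left (by rw [pow_mul]; exact Ideal.pow_right_mono hJ n)
  have hIJ : ∀ n, (I ^ (c * n) • ⊤ : Submodule R M) ≤ J ^ n • ⊤ := fun n =>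
    Submodule.smul_mono_left (by rw [pow_mul]; exact Ideal.pow_right_mono hI n)
  refine { haus' := fun x hx => ?_, prec' := fun f hf => ?_ }
  · exact h.haus' x (fun n => SModEq.mono (hJI n) (hx (d * n)))
  · obtain ⟨L, hL⟩ := h.prec' (fun n => f (d * n))
      (fun {m n} hmn => SModEq.mono (hJI m) (hf (Nat.mul_le_mul_left d hmn)))
    refine ⟨L, fun n => ?_⟩
    have hn : n ≤ d * (c * n) := by
      calc n = 1 * (1 * n) := by simp
        _ ≤ d * (c * n) := Nat.mul_le_mul hd (Nat.mul_le_mul hc le_rfl)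
    exact (hf hn).trans (SModEq.mono (hIJ n) (hL (c * n)))

/-- Let R be a ring and I, J ideals of R with I^c ⊆ J and J^d ⊆ I for some integers c, d > 0. Then for
an R-module, being complete in the I-adic topology is equivalent to being complete in the J-adic
topology. -/
theorem result {R : Type u} [CommRing R] (I J : Ideal R) (c d : ℕ) (hc : 0 < c) (hd : 0 < d) (hI : I ^ c ≤ J) (hJ : J ^ d ≤ I) (M : Type u) [AddCommGroup M] [Module R M] :
    IsAdicComplete I M ↔ IsAdicComplete J M :=
  ⟨aux I J c d hc hd hI hJ M, aux J I d c hd hc hJ hI M⟩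

end Groth.Agent.S9604
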