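import Groth.Statements.S9608
import Mathlib

set_option autoImplicit false
universe u
open CAlg

namespace Groth.Agent.S9608

/-- Let k'/k be a field extension and p a prime number. Then k' is generated over k by elements x for
which some n > 0 has x^(p^n) ∈ k and p^n x ∈ k, if and only if either k' = k, or k has
characteristic p and k'/k is purely inseparable. -/
theorem result {k k' : Type u} [Field k] [Field k'] [Algebra k k'] (p : ℕ) (hp : p.Prime) :
    IntermediateField.adjoin k {x : k' | ∃ n : ℕ, 0 < n ∧ x ^ (p ^ n) ∈ Set.range (algebraMap k k') ∧ (p : k') ^ n * x ∈ Set.range (algebraMap k k')} = ⊤ ↔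
      (Function.Surjective (algebraMap k k') ∨ (CharP k p ∧ IsPurelyInseparable k k')) := by
  have hp1 : 0 < 1 := Nat.one_pos
  constructor
  · intro hT
    by_cases hchar : CharP k p
    · right
      refine ⟨hchar, ?_⟩
      have : ExpChar k p := ExpChar.prime hp
      have h1 : IsPurelyInseparable k (IntermediateField.adjoin k {x : k' | ∃ n : ℕ, 0 < n ∧
          x ^ (p ^ n) ∈ Set.range (algebraMap k k') ∧
          (p : k') ^ n * x ∈ Set.range (algebraMap k k')}) := by
        rw [IntermediateField.isPurelyInseparable_adjoin_iff_pow_mem k k' p]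
        rintro x ⟨n, -, hx, -⟩
        exact ⟨n, hx⟩
      rw [hT] at h1
      exact (IntermediateField.topEquiv (F := k) (E := k')).isPurelyInseparable
    · left
      have hpk : (p : k) ≠ 0 := by
        intro h0
        apply hchar
        have hdvd : ringChar k ∣ p := (CharP.cast_eq_zero_iff k (ringChar k) p).mp h0
        rcases (Nat.dvd_prime hp).mp hdvd with h1 | h1
        · exact absurd h1 (CharP.ringChar_ne_one)
        · rw [← h1]; exact ringChar.charP k
      have hsub : {x : k' | ∃ n : ℕ, 0 < n ∧ x ^ (p ^ n) ∈ Set.range (algebraMap k k') ∧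
          (p : k') ^ n * x ∈ Set.range (algebraMap k k')} ⊆
          ((⊥ : IntermediateField k k') : Set k') := by
        rintro x ⟨n, -, -, ⟨y, hy⟩⟩
        rw [SetLike.mem_coe, IntermediateField.mem_bot]
        refine ⟨((p : k) ^ n)⁻¹ * y, ?_⟩
        rw [map_mul, hy, map_inv₀, map_pow, map_natCast, ← mul_assoc, inv_mul_cancel₀, one_mul]
        have : (p : k') = algebraMap k k' (p : k) := (map_natCast _ _).symm
        rw [this, ← map_pow]
        exact (map_ne_zero _).mpr (pow_ne_zero _ hpk)
      have hbot : (⊥ : IntermediateField k k') = ⊤ := by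
        rw [eq_top_iff, ← hT]
        exact IntermediateField.adjoin_le_iff.mpr hsub
      intro x
      have hx : x ∈ (⊥ : IntermediateField k k') := by rw [hbot]; trivial
      exact IntermediateField.mem_bot.mp hx
  · rintro (hsurj | ⟨hchar, hpi⟩)
    · rw [eq_top_iff]
      intro x _
      refine IntermediateField.subset_adjoin k _ ⟨1, hp1, ?_, ?_⟩
      · exact hsurj _
      · exact hsurj _
    · have : ExpChar k p := ExpChar.prime hp
      rw [eq_top_iff]
      intro x _
      refine IntermediateField.subset_adjoin k _ ?_
      obtain ⟨n, y, hy⟩ := IsPurelyInseparable.pow_mem k p x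
      refine ⟨n + 1, Nat.succ_pos n, ⟨y ^ p, ?_⟩, ⟨0, ?_⟩⟩
      · rw [map_pow, hy, ← pow_mul, ← pow_succ]
      · have : CharP k' p := (RingHom.charP_iff (algebraMap k k') (algebraMap k k').injective p).mp hchar
        rw [map_zero, CharP.cast_eq_zero k' p, zero_pow (Nat.succ_ne_zero n), zero_mul]

end Groth.Agent.S9608
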