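import Groth.Statements.S9610
import Mathlib

set_option autoImplicit false
universe u
open CAlg

namespace Groth.Agent.S9610

/-- Let k be a field and V a nonzero k-vector space with dim_k V < #k as cardinals. Then every k-linear
endomorphism T of V admits a monic polynomial P over k for which P(T) is not invertible. -/
theorem result {k V : Type u} [Field k] [AddCommGroup V] [Module k V] [Nontrivial V] (hV : Module.rank k V < Cardinal.mk k) (T : Module.End k V) :
    ∃ P : Polynomial k, P.Monic ∧ ¬ IsUnit (Polynomial.aeval T P) := by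
  classical
  open Polynomial in
  by_contra hcon
  push Not at hcon
  obtain ⟨v, hv⟩ := exists_ne (0 : V)
  -- every nonzero polynomial acts injectively
  have hQ : ∀ Q : Polynomial k, Q ≠ 0 → ∀ w : V, Polynomial.aeval T Q w = 0 → w = 0 := by
    intro Q hQ w hw
    have hmonic : (Q * C Q.leadingCoeff⁻¹).Monic := Polynomial.monic_mul_leadingCoeff_inv hQ
    have hu := hcon _ hmonic
    have h2 : (Polynomial.aeval T (Q * C Q.leadingCoeff⁻¹)) w = 0 := by
      rw [mul_comm, map_mul, Module.End.mul_apply, hw, map_zero]
    have hinj := ((Module.End.isUnit_iff _).mp hu).injective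
    exact hinj (by rw [h2, map_zero])
  have hsurj : ∀ a : k, ∃ w : V, Polynomial.aeval T (X - C a) w = v := fun a =>
    ((Module.End.isUnit_iff _).mp (hcon _ (Polynomial.monic_X_sub_C a))).surjective v
  choose w hw using hsurj
  have hli : LinearIndependent k w := by
    rw [linearIndependent_iff']
    intro s g hsum a₀ ha₀
    have h1 : ∀ a ∈ s, Polynomial.aeval T (∏ b ∈ s, (X - C b)) (w a) =
        Polynomial.aeval T (∏ b ∈ s.erase a, (X - C b)) v := by
      intro a ha
      rw [← Finset.prod_erase_mul s _ ha, map_mul, Module.End.mul_apply, hw]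
    have h2 : Polynomial.aeval T (∑ a ∈ s, C (g a) * ∏ b ∈ s.erase a, (X - C b)) v = 0 := by
      have := congrArg (Polynomial.aeval T (∏ b ∈ s, (X - C b))) hsum
      rw [map_sum, map_zero] at this
      rw [map_sum, LinearMap.sum_apply, ← this]
      refine Finset.sum_congr rfl fun a ha => ?_
      rw [map_smul, h1 a ha, map_mul, Polynomial.aeval_C, Module.End.mul_apply,
        Module.algebraMap_end_apply]
    have h3 : (∑ a ∈ s, C (g a) * ∏ b ∈ s.erase a, (X - C b)) = 0 := by
      by_contra hne
      exact hv (hQ _ hne v h2)
    have h4 := congrArg (Polynomial.eval a₀) h3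
    rw [Polynomial.eval_finsetSum, Polynomial.eval_zero] at h4
    rw [Finset.sum_eq_single a₀] at h4
    · simp only [eval_mul, eval_C, eval_prod, eval_sub, eval_X] at h4
      rcases mul_eq_zero.mp h4 with h5 | h5
      · exact h5
      · exfalso
        rw [Finset.prod_eq_zero_iff] at h5
        obtain ⟨b, hb, hb0⟩ := h5
        exact (Finset.ne_of_mem_erase hb) (sub_eq_zero.mp hb0).symm
    · intro a ha hne
      simp only [eval_mul, eval_C, eval_prod, eval_sub, eval_X]
      rw [Finset.prod_eq_zero (Finset.mem_erase.mpr ⟨hne.symm, ha₀⟩) (sub_self _), mul_zero]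
    · intro h; exact absurd ha₀ h
  have := hli.cardinal_le_rank
  exact absurd hV (not_lt.mpr this)

end Groth.Agent.S9610
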