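import Groth.Statements.S9611
import Mathlib.Tactic

set_option autoImplicit false
universe u
open CAlg

namespace Groth.Agent.S9611

/-- Let R be a Jacobson ring, p a prime ideal of R which is not maximal, and f an element of R not in p.
Then the set of primes of R containing p and not containing f is infinite. -/
theorem result {R : Type u} [CommRing R] [IsJacobsonRing R] (p : Ideal R) [p.IsPrime] (hp : ¬ p.IsMaximal) (f : R) (hf : f ∉ p) :
    {q : PrimeSpectrum R | p ≤ q.asIdeal ∧ f ∉ q.asIdeal}.Infinite := by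
  classical
  intro hfin
  have key : ∀ q : PrimeSpectrum R, p ≤ q.asIdeal → q.asIdeal.IsMaximal → ∃ g, g ∈ q.asIdeal ∧ g ∉ p := by
    intro q hpq hq
    have hne : p ≠ q.asIdeal := fun h => hp (h ▸ hq)
    exact SetLike.exists_of_lt (lt_of_le_of_ne hpq hne)
  let g : PrimeSpectrum R → R := fun q =>
    if h : p ≤ q.asIdeal ∧ q.asIdeal.IsMaximal then (key q h.1 h.2).choose else 1
  have hg1 : ∀ q : PrimeSpectrum R, p ≤ q.asIdeal → q.asIdeal.IsMaximal → g q ∈ q.asIdeal := by
    intro q h1 h2
    simp only [g, dif_pos (And.intro h1 h2)]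
    exact (key q h1 h2).choose_spec.1
  have hg2 : ∀ q : PrimeSpectrum R, g q ∉ p := by
    intro q
    by_cases h : p ≤ q.asIdeal ∧ q.asIdeal.IsMaximal
    · simp only [g, dif_pos h]
      exact (key q h.1 h.2).choose_spec.2
    · simp only [g, dif_neg h]
      exact (Ideal.ne_top_iff_one p).mp (Ideal.IsPrime.ne_top inferInstance)
  let h := f * ∏ q ∈ hfin.toFinset, g q
  have hmem : h ∈ p.jacobson := by
    rw [Ideal.jacobson, Ideal.mem_sInf]
    rintro m ⟨hpm, hm⟩
    by_cases hfm : f ∈ m
    · exact m.mul_mem_right _ hfm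
    · refine m.mul_mem_left _ ?_
      let q : PrimeSpectrum R := ⟨m, hm.isPrime⟩
      have hq : q ∈ hfin.toFinset := by
        rw [Set.Finite.mem_toFinset]
        exact ⟨hpm, hfm⟩
      rw [← Finset.mul_prod_erase _ _ hq]
      exact m.mul_mem_right _ (hg1 q hpm hm)
  have hJ : p.jacobson = p := IsJacobsonRing.out inferInstance (Ideal.IsPrime.isRadical inferInstance)
  rw [hJ] at hmem
  rcases Ideal.IsPrime.mem_or_mem inferInstance hmem with h1 | h1
  · exact hf h1
  · obtain ⟨q, _, hq⟩ := (Ideal.IsPrime.prod_mem_iff (hp := inferInstance)).mp h1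
    exact hg2 q hq

end Groth.Agent.S9611
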