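import Groth.Statements.S9612
import Mathlib.RingTheory.DedekindDomain.Basic
import Mathlib.RingTheory.DedekindDomain.PID
import Mathlib.Tactic

set_option autoImplicit false
universe u
open CAlg

namespace Groth.Agent.S9612

theorem int_isJacobsonRing : IsJacobsonRing ℤ := by
  rw [isJacobsonRing_iff_prime_eq]
  intro P hP
  by_cases hbot : P = ⊥
  · subst hbot
    rw [eq_bot_iff]
    intro x hx
    rw [Ideal.mem_jacobson_bot] at hx
    have h1 := hx x
    rw [Int.isUnit_iff] at h1
    have hx0 : x = 0 := by
      rcases h1 with h | h
      · have : x * x = 0 := by linarith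
        exact mul_self_eq_zero.mp this
      · nlinarith [mul_self_nonneg x]
    simp [hx0]
  · have : P.IsMaximal := hP.isMaximal hbot
    exact Ideal.jacobson_eq_self_of_isMaximal

/-- A finite type ℤ-algebra is a Jacobson ring. -/
theorem result {S : Type u} [CommRing S] [Algebra.FiniteType ℤ S] :
    IsJacobsonRing S := by
  have := int_isJacobsonRing
  exact isJacobsonRing_of_finiteType (A := ℤ) (B := S)

end Groth.Agent.S9612
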