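import Groth.Statements.S9613
import Mathlib

set_option autoImplicit false
universe u
open CAlg

namespace Groth.Agent.S9613

theorem isAlgebraic_of_finiteType_field {R K : Type u} [CommRing R] [Field K] [Algebra R K]
    (hinj : Function.Injective (algebraMap R K)) [Algebra.FiniteType R K] :
    Algebra.IsAlgebraic R K := by
  haveI : IsDomain R := hinj.isDomain (algebraMap R K)
  letI : Algebra (FractionRing R) K := (IsFractionRing.lift hinj).toAlgebra
  haveI : IsScalarTower R (FractionRing R) K :=
    IsScalarTower.of_algebraMap_eq fun x => (IsFractionRing.lift_algebraMap hinj x).symm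
  haveI : Algebra.FiniteType (FractionRing R) K :=
    Algebra.FiniteType.of_restrictScalars_finiteType R _ _
  haveI : Module.Finite (FractionRing R) K := finite_of_finite_type_of_isJacobsonRing _ _
  haveI : Algebra.IsAlgebraic (FractionRing R) K := Algebra.IsAlgebraic.of_finite _ _
  exact (IsFractionRing.comap_isAlgebraic_iff (A := R) (K := FractionRing R)).mpr inferInstance

/-- Let R → K be an injective ring map into a field K which makes K an R-algebra of finite type. Then
for some nonzero f ∈ R the localization R_f is a field over which K is finite; here R_f is realised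
as the R-subalgebra of K that is a localization of R away from f. -/
theorem result {R K : Type u} [CommRing R] [Field K] [Algebra R K] (hinj : Function.Injective (algebraMap R K)) [Algebra.FiniteType R K] :
    ∃ f : R, f ≠ 0 ∧ ∃ Rf : Subalgebra R K, IsLocalization.Away f Rf ∧ IsField Rf ∧ Module.Finite Rf K := by
  classical
  haveI : IsDomain R := hinj.isDomain (algebraMap R K)
  haveI := isAlgebraic_of_finiteType_field hinj
  obtain ⟨t, ht⟩ := (Algebra.FiniteType.out : (⊤ : Subalgebra R K).FG)
  obtain ⟨f, hf0, hf⟩ := Algebra.IsAlgebraic.exists_integral_multiples R t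
  refine ⟨f, hf0, ?_⟩
  have hfK : algebraMap R K f ≠ 0 := fun h => hf0 (hinj (by rw [h, map_zero]))
  have hunits : ∀ y : Submonoid.powers f, IsUnit ((Algebra.ofId R K) y) := by
    rintro ⟨_, n, rfl⟩
    show IsUnit (algebraMap R K (f ^ n))
    rw [map_pow]
    exact (isUnit_iff_ne_zero.mpr hfK).pow n
  have hφ : Function.Injective
      (IsLocalization.liftAlgHom (S := Localization.Away f) hunits : Localization.Away f →ₐ[R] K) := by
    rw [IsLocalization.coe_liftAlgHom, IsLocalization.lift_injective_iff]
    intro x y
    have h1 : Function.Injective (algebraMap R (Localization.Away f)) :=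
      IsLocalization.injective (Localization.Away f)
        (powers_le_nonZeroDivisors_of_noZeroDivisors hf0)
    constructor
    · intro h; rw [h1 h]
    · intro h
      have : x = y := hinj h
      rw [this]
  have hloc : IsLocalization.Away f
      (IsLocalization.liftAlgHom (S := Localization.Away f) hunits : Localization.Away f →ₐ[R] K).range :=
    IsLocalization.isLocalization_of_algEquiv (Submonoid.powers f) (AlgEquiv.ofInjective _ hφ)
  refine ⟨_, hloc, ?_⟩
  generalize (IsLocalization.liftAlgHom (S := Localization.Away f) hunits :
    Localization.Away f →ₐ[R] K).range = Rf at hloc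
  -- integrality of K over Rf
  obtain ⟨b, hb⟩ := (IsLocalization.Away.algebraMap_isUnit (S := Rf) f).exists_right_inv
  have hint_gen : ∀ x ∈ t, IsIntegral Rf x := by
    intro x hx
    have h1 : IsIntegral Rf (f • x) := (hf x hx).tower_top
    have h2 : x = b • (f • x) := by
      rw [← algebraMap_smul Rf f x, smul_smul, mul_comm, hb, one_smul]
    rw [h2]
    exact h1.smul b
  have hint : Algebra.IsIntegral Rf K := by
    refine ⟨fun y => ?_⟩
    have hy : y ∈ Algebra.adjoin R (t : Set K) := by rw [ht]; trivial
    induction hy using Algebra.adjoin_induction with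
    | mem x hx => exact hint_gen x hx
    | algebraMap r =>
      rw [IsScalarTower.algebraMap_apply R Rf K]
      exact isIntegral_algebraMap
    | add x y _ _ hx hy => exact hx.add hy
    | mul x y _ _ hx hy => exact hx.mul hy
  refine ⟨?_, ?_⟩
  · exact isField_of_isIntegral_of_isField (R := Rf) (S := K) Subtype.val_injective
      (Field.toIsField K)
  · haveI : Algebra.FiniteType Rf K := Algebra.FiniteType.of_restrictScalars_finiteType R Rf K
    exact Algebra.IsIntegral.finite

end Groth.Agent.S9613
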