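import Groth.Statements.S9618
import Groth.Agent.Lib.Helper28.ConnComp

set_option autoImplicit false
universe u
open CAlg

namespace Groth.Agent.S9618

/-- For a ring R and a subset T of Spec R the following are equivalent: (1) T is closed and contains the
connected component of each of its points; (2) T can be written as an intersection of subsets of
Spec R that are both open and closed; (3) T is the common zero locus of some set of idempotent
elements of R (equivalently, of the ideal they generate). -/
theorem result {R : Type u} [CommRing R] (T : Set (PrimeSpectrum R)) :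
    [IsClosed T ∧ ∀ x ∈ T, connectedComponent x ⊆ T,
      ∃ U : Set (Set (PrimeSpectrum R)), (∀ u ∈ U, IsClopen u) ∧ T = ⋂₀ U,
      ∃ E : Set R, (∀ e ∈ E, IsIdempotentElem e) ∧ T = PrimeSpectrum.zeroLocus E].TFAE := by
  tfae_have 3 → 2 := by
    rintro ⟨E, hE, rfl⟩
    refine ⟨(fun e : R => PrimeSpectrum.zeroLocus ({e} : Set R)) '' E, ?_, ?_⟩
    · rintro _ ⟨e, he, rfl⟩
      exact PrimeSpectrum.isClopen_iff_zeroLocus.mpr ⟨e, hE e he, rfl⟩
    · ext q
      simp only [PrimeSpectrum.mem_zeroLocus, Set.sInter_image, Set.mem_iInter,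
        Set.singleton_subset_iff]
      rfl
  tfae_have 2 → 1 := by
    rintro ⟨U, hU, rfl⟩
    refine ⟨isClosed_sInter fun u hu => (hU u hu).1, fun x hx => ?_⟩
    exact Set.subset_sInter fun u hu => (hU u hu).connectedComponent_subset (hx u hu)
  tfae_have 1 → 3 := by
    rintro ⟨hT, hcc⟩
    refine ⟨{e : R | IsIdempotentElem e ∧ T ⊆ PrimeSpectrum.zeroLocus ({e} : Set R)},
      fun e he => he.1, ?_⟩
    apply Set.Subset.antisymm
    · intro q hq
      rw [PrimeSpectrum.mem_zeroLocus]
      intro e he
      have := he.2 hq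
      rw [PrimeSpectrum.mem_zeroLocus] at this
      exact this (Set.mem_singleton e)
    · intro q hq
      by_contra hqT
      -- for each x in T choose an idempotent in x not in q
      have key : ∀ x ∈ T, ∃ e : R, IsIdempotentElem e ∧ e ∈ x.asIdeal ∧ e ∉ q.asIdeal := by
        intro x hx
        have hqx : q ∉ connectedComponent x := fun h => hqT (hcc x hx h)
        rw [Groth.Agent.Lib.Helper28.connectedComponent_eq_zeroLocus_idem,
          PrimeSpectrum.mem_zeroLocus, Set.not_subset] at hqx
        obtain ⟨e, he, heq⟩ := hqx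
        exact ⟨e, he.1, he.2, heq⟩
      choose! ε hε hεx hεq using key
      have hcpt : IsCompact T := hT.isCompact
      obtain ⟨t, htT, htfin, hcov⟩ := hcpt.elim_finite_subcover_image
        (b := T) (c := fun x => PrimeSpectrum.zeroLocus ({ε x} : Set R))
        (fun x hx => (PrimeSpectrum.isClopen_iff_zeroLocus.mpr ⟨ε x, hε x hx, rfl⟩).2)
        (fun x hx => Set.mem_biUnion hx (by
          rw [PrimeSpectrum.mem_zeroLocus]; simpa using hεx x hx))
      have hW : IsClopen (⋃ x ∈ t, PrimeSpectrum.zeroLocus ({ε x} : Set R)) :=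
        htfin.isClopen_biUnion fun x hx =>
          PrimeSpectrum.isClopen_iff_zeroLocus.mpr ⟨ε x, hε x (htT hx), rfl⟩
      obtain ⟨e, he, hWe⟩ := PrimeSpectrum.isClopen_iff_zeroLocus.mp hW
      have heE : e ∈ {e : R | IsIdempotentElem e ∧ T ⊆ PrimeSpectrum.zeroLocus ({e} : Set R)} :=
        ⟨he, hWe ▸ hcov⟩
      have hqW : q ∈ PrimeSpectrum.zeroLocus ({e} : Set R) := by
        rw [PrimeSpectrum.mem_zeroLocus] at hq ⊢
        intro y hy
        rw [Set.mem_singleton_iff] at hy
        subst hy
        exact hq heE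
      rw [← hWe, Set.mem_iUnion₂] at hqW
      obtain ⟨x, hxt, hqx⟩ := hqW
      rw [PrimeSpectrum.mem_zeroLocus] at hqx
      exact hεq x (htT hxt) (hqx (Set.mem_singleton _))
  tfae_finish

end Groth.Agent.S9618
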