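import Groth.Statements.S9621
import Mathlib.RingTheory.Ideal.MinimalPrime.Localization
import Mathlib.RingTheory.Localization.AtPrime.Basic

set_option autoImplicit false
universe u
open CAlg

namespace Groth.Agent.S9621

theorem exists_mul_pow_eq_zero {R : Type*} [CommRing R] (p : Ideal R) [p.IsPrime]
    (hp : p ∈ minimalPrimes R) (x : R) (hx : x ∈ p) : ∃ s ∉ p, ∃ n : ℕ, s * x ^ n = 0 := by
  have h := IsLocalization.AtPrime.radical_map_of_mem_minimalPrimes
    (A := Localization.AtPrime p) p ⊥ hp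
  have hx' : algebraMap R (Localization.AtPrime p) x ∈
      ((⊥ : Ideal R).map (algebraMap R (Localization.AtPrime p))).radical := by
    rw [h]; exact Ideal.mem_map_of_mem _ hx
  rw [Ideal.map_bot] at hx'
  obtain ⟨n, hn⟩ := hx'
  rw [Ideal.mem_bot, ← map_pow, IsLocalization.map_eq_zero_iff p.primeCompl] at hn
  obtain ⟨s, hs⟩ := hn
  exact ⟨s.1, s.2, n, hs⟩

/-- Let R be a ring, p a minimal prime of R and W a quasi-compact open subset of Spec R not containing
p. Then there is an f ∈ R, f ∉ p, whose basic open D(f) is disjoint from W. -/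
theorem result {R : Type u} [CommRing R] (p : PrimeSpectrum R) (hp : p.asIdeal ∈ minimalPrimes R) (W : Set (PrimeSpectrum R)) (hWo : IsOpen W) (hWc : IsCompact W) (hpW : p ∉ W) :
    ∃ f : R, f ∉ p.asIdeal ∧ Disjoint (PrimeSpectrum.basicOpen f : Set (PrimeSpectrum R)) W := by
  classical
  obtain ⟨t, rfl⟩ := PrimeSpectrum.isCompact_isOpen_iff.mp ⟨hWc, hWo⟩
  have hpt : ∀ g ∈ t, g ∈ p.asIdeal := by
    intro g hg
    have : p ∈ PrimeSpectrum.zeroLocus (t : Set R) := by
      by_contra h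
      exact hpW h
    exact this hg
  choose! s hs n hn using fun g (hg : g ∈ t) => exists_mul_pow_eq_zero p.asIdeal hp g (hpt g hg)
  refine ⟨∏ g ∈ t, s g, ?_, ?_⟩
  · intro h
    obtain ⟨g, hg, hgs⟩ := (Ideal.IsPrime.prod_mem_iff (hp := p.2)).mp h
    exact hs g hg hgs
  · rw [Set.disjoint_left]
    intro q hq hqW
    have hq1 : (∏ g ∈ t, s g) ∉ q.asIdeal := hq
    have hq2 : ¬ ((t : Set R) ⊆ q.asIdeal) := hqW
    obtain ⟨g, hg, hgq⟩ := Set.not_subset.mp hq2
    have h1 : s g ∉ q.asIdeal := fun h =>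
      hq1 ((Ideal.IsPrime.prod_mem_iff (hp := q.2)).mpr ⟨g, hg, h⟩)
    have h2 : s g * g ^ n g ∈ q.asIdeal := by rw [hn g hg]; exact q.asIdeal.zero_mem
    rcases q.2.mem_or_mem h2 with h | h
    · exact h1 h
    · exact hgq (q.2.mem_of_pow_mem _ h)

end Groth.Agent.S9621
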