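import Groth.Statements.S9622
import Groth.Agent.Lib.Helper28.ArtinLocalFinite

set_option autoImplicit false
universe u
open CAlg

namespace Groth.Agent.S9622

/-- Let R → S be a ring map whose target S is a local Artinian ring, and write m for the maximal ideal
of S. Then S is a finite R-module exactly when S/m is, and S is an R-algebra of finite type exactly
when S/m is. -/
theorem result {R S : Type u} [CommRing R] [CommRing S] [Algebra R S] [IsArtinianRing S] [IsLocalRing S] :
    (Module.Finite R S ↔ Module.Finite R (S ⧸ IsLocalRing.maximalIdeal S)) ∧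
      (Algebra.FiniteType R S ↔ Algebra.FiniteType R (S ⧸ IsLocalRing.maximalIdeal S)) := by
  classical
  refine ⟨⟨fun h => ?_, fun h => ?_⟩, ⟨fun h => ?_, fun h => ?_⟩⟩
  · exact Module.Finite.of_surjective (Ideal.Quotient.mkₐ R (IsLocalRing.maximalIdeal S)).toLinearMap
      Ideal.Quotient.mk_surjective
  · exact Groth.Agent.Lib.Helper28.finite_of_residue_finite
  · exact Algebra.FiniteType.of_surjective (Ideal.Quotient.mkₐ R (IsLocalRing.maximalIdeal S))
      Ideal.Quotient.mk_surjective
  · obtain ⟨t, ht⟩ := h.out
    have hsurj : Function.Surjective (Ideal.Quotient.mk (IsLocalRing.maximalIdeal S)) :=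
      Ideal.Quotient.mk_surjective
    have hmap : (Algebra.adjoin R ((t.image (Function.surjInv hsurj) : Finset S) : Set S)).map
        (Ideal.Quotient.mkₐ R (IsLocalRing.maximalIdeal S)) = ⊤ := by
      rw [AlgHom.map_adjoin, Finset.coe_image, Set.image_image, ← ht]
      congr 1
      ext x
      simp [Function.surjInv_eq hsurj]
    have hfin : Module.Finite (Algebra.adjoin R ((t.image (Function.surjInv hsurj) : Finset S) : Set S))
        (S ⧸ IsLocalRing.maximalIdeal S) := by
      refine Module.Finite.of_surjective (Algebra.linearMap _ _) ?_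
      intro x
      have hx : x ∈ (Algebra.adjoin R ((t.image (Function.surjInv hsurj) : Finset S) : Set S)).map
        (Ideal.Quotient.mkₐ R (IsLocalRing.maximalIdeal S)) := by rw [hmap]; trivial
      obtain ⟨a, ha, rfl⟩ := hx
      exact ⟨⟨a, ha⟩, rfl⟩
    have hfinS : Module.Finite
        (Algebra.adjoin R ((t.image (Function.surjInv hsurj) : Finset S) : Set S)) S :=
      Groth.Agent.Lib.Helper28.finite_of_residue_finite
    have hft : Algebra.FiniteType R
        (Algebra.adjoin R ((t.image (Function.surjInv hsurj) : Finset S) : Set S)) :=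
      (Subalgebra.fg_iff_finiteType _).mp ⟨_, rfl⟩
    exact Algebra.FiniteType.trans hft inferInstance

end Groth.Agent.S9622
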