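import Groth.Statements.S9635
import Groth.Agent.Lib.Helper6.GeomReducedDescent
-- import your own Groth.Agent.* helpers here

set_option autoImplicit false
universe u
open CAlg

namespace Groth.Agent.S9635

open TensorProduct in
/-- Let k ⊆ k' be fields with k' separable algebraic over k, and A a k'-algebra. Then A is geometrically
reduced over k (K ⊗_k A reduced for all field extensions K/k) if and only if A is geometrically
reduced over k' (K ⊗_{k'} A reduced for all field extensions K/k'). Here the test fields K range
over field extensions (of k, respectively of k') in the common universe of k and k'; this is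
equivalent to the unrestricted notions, since an algebraic closure of the base field suffices as a
test. -/
theorem result {k k' A : Type u} [Field k] [Field k'] [Algebra k k'] [Algebra.IsSeparable k k'] [CommRing A] [Algebra k' A] [Algebra k A] [IsScalarTower k k' A] :
    (∀ (K : Type u) [Field K] [Algebra k K], IsReduced (K ⊗[k] A)) ↔
      ∀ (K : Type u) [Field K] [Algebra k' K], IsReduced (K ⊗[k'] A) := by
  constructor
  · intro h K _ _
    let _ : Algebra k K := ((algebraMap k' K).comp (algebraMap k k')).toAlgebra
    have : IsScalarTower k k' K := IsScalarTower.of_algebraMap_eq (fun _ => rfl)
    exact Groth.Agent.Lib.Helper6.isReduced_tensor_of_isSeparable_tower (h K)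
  · intro h K _ _
    have h1 : IsReduced (k' ⊗[k] K) := Groth.Agent.Lib.Helper6.isReduced_tensor_of_isSeparable K
    have h2 : IsReduced (A ⊗[k'] (k' ⊗[k] K)) := by
      apply Groth.Agent.Lib.Helper6.isReduced_tensor_of_forall_residueField
      intro p _
      have := h p.ResidueField
      exact isReduced_of_injective (Algebra.TensorProduct.comm k' A p.ResidueField).toAlgHom
        (Algebra.TensorProduct.comm k' A p.ResidueField).injective
    let e := Algebra.TensorProduct.cancelBaseChange k k' A A K
    have h3 : IsReduced (A ⊗[k] K) := isReduced_of_injective e.symm.toAlgHom e.symm.injective
    exact isReduced_of_injective (Algebra.TensorProduct.comm k K A).toAlgHom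
      (Algebra.TensorProduct.comm k K A).injective

end Groth.Agent.S9635
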