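import Groth.Statements.S9639
import Mathlib.RingTheory.Flat.Basic
import Mathlib.LinearAlgebra.Basis.VectorSpace
import Mathlib.RingTheory.Spectrum.Prime.Topology
-- import your own Groth.Agent.* helpers here

set_option autoImplicit false
universe u
open CAlg

namespace Groth.Agent.S9639

theorem connectedSpace_iff_idem (R : Type*) [CommRing R] :
    ConnectedSpace (PrimeSpectrum R) ↔
      Nontrivial R ∧ ∀ e : R, IsIdempotentElem e → e = 0 ∨ e = 1 := by
  constructor
  · intro h
    have hne : Nonempty (PrimeSpectrum R) := h.toNonempty
    refine ⟨(PrimeSpectrum.nonempty_iff_nontrivial).mp hne, fun e he => ?_⟩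
    have hcl : IsClopen ((PrimeSpectrum.basicOpen e : Set (PrimeSpectrum R))) :=
      PrimeSpectrum.isClopen_iff.mpr ⟨e, he, rfl⟩
    rcases isClopen_iff.mp hcl with h0 | h1
    · left
      apply PrimeSpectrum.basicOpen_injOn_isIdempotentElem he IsIdempotentElem.zero
      apply TopologicalSpace.Opens.ext
      rw [h0]
      simp
    · right
      apply PrimeSpectrum.basicOpen_injOn_isIdempotentElem he IsIdempotentElem.one
      apply TopologicalSpace.Opens.ext
      rw [h1]
      simp
  · rintro ⟨hnt, h⟩
    have : PreconnectedSpace (PrimeSpectrum R) := by
      rw [preconnectedSpace_iff_clopen]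
      intro s hs
      obtain ⟨e, he, rfl⟩ := PrimeSpectrum.isClopen_iff.mp hs
      rcases h e he with rfl | rfl
      · left; simp
      · right; simp
    have : Nonempty (PrimeSpectrum R) := PrimeSpectrum.nonempty_iff_nontrivial.mpr hnt
    exact ConnectedSpace.mk this

open TensorProduct in
/-- Let k be a field and S a k-algebra such that Spec(k' ⊗_k S) is connected for every field extension
k'/k. Then every k-subalgebra of S has the same property. Here the test fields range over field
extensions in the universe of k; this is equivalent to the unrestricted notion, since an algebraic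
closure of k suffices as a test. -/
theorem result {k S : Type u} [Field k] [CommRing S] [Algebra k S]
    (hS : ∀ (k' : Type u) [Field k'] [Algebra k k'], ConnectedSpace (PrimeSpectrum (k' ⊗[k] S))) (S' : Subalgebra k S) :
    ∀ (k' : Type u) [Field k'] [Algebra k k'], ConnectedSpace (PrimeSpectrum (k' ⊗[k] S')) := by
  intro k' _ _
  have hconn := hS k'
  rw [connectedSpace_iff_idem] at hconn ⊢
  obtain ⟨hnt, hid⟩ := hconn
  let φ : k' ⊗[k] S' →ₐ[k'] k' ⊗[k] S := Algebra.TensorProduct.map (AlgHom.id k' k') S'.val
  have hφ : Function.Injective φ := by
    have : Function.Injective (TensorProduct.map (LinearMap.id : k' →ₗ[k] k') S'.val.toLinearMap) :=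
      TensorProduct.map_injective_of_flat_flat _ _ Function.injective_id Subtype.val_injective
    exact this
  constructor
  · by_contra hcon
    rw [not_nontrivial_iff_subsingleton] at hcon
    have h01 : (0 : k' ⊗[k] S') = 1 := Subsingleton.elim _ _
    have := congrArg φ h01
    rw [map_zero, map_one] at this
    exact zero_ne_one this
  · intro e he
    rcases hid (φ e) (he.map φ) with h0 | h1
    · left
      apply hφ
      rw [h0, map_zero]
    · right
      apply hφ
      rw [h1, map_one]

end Groth.Agent.S9639
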