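import Groth.Statements.S9641
import Mathlib.RingTheory.Flat.Basic
import Mathlib.LinearAlgebra.Basis.VectorSpace
-- import your own Groth.Agent.* helpers here

set_option autoImplicit false
universe u
open CAlg

namespace Groth.Agent.S9641

open TensorProduct in
/-- Let k be a field and R, S two k-algebras. If R ⊗_k S is not reduced then there are finitely
generated k-subalgebras R' ⊆ R and S' ⊆ S such that R' ⊗_k S' is not reduced. -/
theorem result {k R S : Type u} [Field k] [CommRing R] [CommRing S] [Algebra k R] [Algebra k S] (h : ¬ IsReduced (R ⊗[k] S)) :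
    ∃ (R' : Subalgebra k R) (S' : Subalgebra k S), R'.FG ∧ S'.FG ∧ ¬ IsReduced (R' ⊗[k] S') := by
  classical
  have h' : ∃ z : R ⊗[k] S, IsNilpotent z ∧ z ≠ 0 := by
    by_contra hcon
    push Not at hcon
    exact h ⟨fun z hz => hcon z hz⟩
  obtain ⟨z, ⟨n, hzn⟩, hz0⟩ := h'
  obtain ⟨T, hT⟩ := TensorProduct.exists_finset z
  let R' : Subalgebra k R := Algebra.adjoin k ((T.image Prod.fst : Finset R) : Set R)
  let S' : Subalgebra k S := Algebra.adjoin k ((T.image Prod.snd : Finset S) : Set S)
  have hR' : ∀ i ∈ T, i.1 ∈ R' := fun i hi =>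
    Algebra.subset_adjoin (Finset.mem_coe.mpr (Finset.mem_image_of_mem Prod.fst hi))
  have hS' : ∀ i ∈ T, i.2 ∈ S' := fun i hi =>
    Algebra.subset_adjoin (Finset.mem_coe.mpr (Finset.mem_image_of_mem Prod.snd hi))
  refine ⟨R', S', Subalgebra.fg_adjoin_finset _, Subalgebra.fg_adjoin_finset _, ?_⟩
  let φ : R' ⊗[k] S' →ₐ[k] R ⊗[k] S := Algebra.TensorProduct.map R'.val S'.val
  have hφ : Function.Injective φ := by
    have h1 : Function.Injective (TensorProduct.map R'.val.toLinearMap S'.val.toLinearMap) :=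
      TensorProduct.map_injective_of_flat_flat _ _ Subtype.val_injective Subtype.val_injective
    exact h1
  let z' : R' ⊗[k] S' := ∑ i ∈ T.attach, (⟨i.1.1, hR' i.1 i.2⟩ : R') ⊗ₜ[k] (⟨i.1.2, hS' i.1 i.2⟩ : S')
  have hz' : φ z' = z := by
    simp only [z', map_sum, φ, Algebra.TensorProduct.map_tmul, Subalgebra.coe_val]
    rw [hT]
    exact Finset.sum_attach T (fun i => i.1 ⊗ₜ[k] i.2)
  intro hred
  have hnil : IsNilpotent z' := ⟨n, hφ (by rw [map_pow, hz', hzn, map_zero])⟩
  have : z' = 0 := hred.eq_zero z' hnil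
  apply hz0
  rw [← hz', this, map_zero]

end Groth.Agent.S9641
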