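import Groth.Statements.S9643
import Mathlib.RingTheory.Spectrum.Prime.Topology
-- import your own Groth.Agent.* helpers here

set_option autoImplicit false
universe u
open CAlg

namespace Groth.Agent.S9643

theorem support_quot_ideal {R : Type*} [CommRing R] (I : Ideal R) :
    Module.support R (R ⧸ I) = PrimeSpectrum.zeroLocus (I : Set R) := by
  rw [Module.support_eq_zeroLocus, Ideal.annihilator_quotient]

theorem support_step {R : Type*} [CommRing R] {M : Type*} [AddCommGroup M] [Module R M]
    (N₁ N₂ : Submodule R M) (h : N₁ ≤ N₂) (q : Ideal R)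
    (e : (↥N₂ ⧸ Submodule.comap N₂.subtype N₁) ≃ₗ[R] (R ⧸ q)) :
    Module.support R N₂ = Module.support R N₁ ∪ PrimeSpectrum.zeroLocus (q : Set R) := by
  have hex : Function.Exact (Submodule.inclusion h) (Submodule.comap N₂.subtype N₁).mkQ := by
    intro x
    rw [Submodule.mkQ_apply, Submodule.Quotient.mk_eq_zero, Submodule.mem_comap]
    constructor
    · intro hx
      exact ⟨⟨x.1, hx⟩, Subtype.ext rfl⟩
    · rintro ⟨y, rfl⟩
      exact y.2
  rw [Module.support_of_exact hex (Submodule.inclusion_injective h) (Submodule.mkQ_surjective _),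
    e.support_eq, support_quot_ideal]

theorem support_filtration {R : Type*} [CommRing R] {M : Type*} [AddCommGroup M] [Module R M]
    {n : ℕ} (N : Fin (n + 1) → Submodule R M) (hN : Monotone N) (h0 : N 0 = ⊥)
    (p : Fin n → PrimeSpectrum R)
    (hquot : ∀ i : Fin n, Nonempty ((↥(N i.succ) ⧸ Submodule.comap (N i.succ).subtype (N i.castSucc))
      ≃ₗ[R] (R ⧸ (p i).asIdeal))) (i : Fin (n + 1)) :
    Module.support R (N i) = ⋃ j : Fin n, ⋃ (_ : j.castSucc < i),
      PrimeSpectrum.zeroLocus ((p j).asIdeal : Set R) := by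
  induction i using Fin.induction with
  | zero =>
    rw [h0]
    have : Module.support R (⊥ : Submodule R M) = ∅ := Module.support_eq_empty
    rw [this]
    simp
  | succ i ih =>
    obtain ⟨e⟩ := hquot i
    rw [support_step (N i.castSucc) (N i.succ) (hN (Fin.castSucc_lt_succ).le) _ e, ih]
    ext x
    simp only [Set.mem_union, Set.mem_iUnion, exists_prop]
    constructor
    · rintro (⟨j, hj, hx⟩ | hx)
      · exact ⟨j, lt_trans hj Fin.castSucc_lt_succ, hx⟩
      · exact ⟨i, Fin.castSucc_lt_succ, hx⟩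
    · rintro ⟨j, hj, hx⟩
      rcases (Fin.castSucc_lt_succ_iff.mp hj).lt_or_eq with hlt | heq
      · left
        exact ⟨j, Fin.castSucc_lt_castSucc_iff.mpr hlt, hx⟩
      · right
        rw [← heq]
        exact hx

/-- Let R be a Noetherian ring, M a finite R-module and 0 = M_0 ⊆ M_1 ⊆ ⋯ ⊆ M_n = M a chain of
submodules whose successive quotients M_i/M_{i-1} are isomorphic to R/p_i for prime ideals p_i. Then
the primes minimal among p_1, …, p_n are exactly the primes minimal in the support of M. -/
theorem result {R : Type u} [CommRing R] [IsNoetherianRing R] (M : Type u) [AddCommGroup M] [Module R M] [Module.Finite R M]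
    {n : ℕ} (N : Fin (n + 1) → Submodule R M) (hN : Monotone N) (h0 : N 0 = ⊥) (hlast : N (Fin.last n) = ⊤)
    (p : Fin n → PrimeSpectrum R)
    (hquot : ∀ i : Fin n, Nonempty ((↥(N i.succ) ⧸ Submodule.comap (N i.succ).subtype (N i.castSucc)) ≃ₗ[R] (R ⧸ (p i).asIdeal))) :
    {q : PrimeSpectrum R | Minimal (fun x => x ∈ Set.range p) q} = {q : PrimeSpectrum R | Minimal (fun x => x ∈ Module.support R M) q} := by
  have hsupp : Module.support R M = ⋃ j : Fin n, PrimeSpectrum.zeroLocus ((p j).asIdeal : Set R) := by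
    have h1 := support_filtration N hN h0 p hquot (Fin.last n)
    rw [hlast] at h1
    have h2 : Module.support R (⊤ : Submodule R M) = Module.support R M :=
      (Submodule.topEquiv (R := R) (M := M)).support_eq
    rw [← h2, h1]
    ext x
    simp only [Set.mem_iUnion, exists_prop]
    constructor
    · rintro ⟨j, _, hx⟩; exact ⟨j, hx⟩
    · rintro ⟨j, hx⟩; exact ⟨j, Fin.castSucc_lt_last j, hx⟩
  have hmem : ∀ q : PrimeSpectrum R, q ∈ Module.support R M ↔ ∃ j, p j ≤ q := by
    intro q
    rw [hsupp]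
    simp only [Set.mem_iUnion, PrimeSpectrum.mem_zeroLocus, SetLike.coe_subset_coe]
    rfl
  have hrange : ∀ j, p j ∈ Module.support R M := fun j => (hmem _).mpr ⟨j, le_rfl⟩
  ext q
  simp only [Set.mem_setOf_eq]
  constructor
  · intro hq
    obtain ⟨⟨j, rfl⟩, hmin⟩ := hq
    refine ⟨hrange j, ?_⟩
    intro q' hq' hle
    obtain ⟨j', hj'⟩ := (hmem q').mp hq'
    exact (hmin ⟨j', rfl⟩ (hj'.trans hle)).trans hj'
  · intro hq
    obtain ⟨hq1, hmin⟩ := hq
    obtain ⟨j, hj⟩ := (hmem q).mp hq1
    have hqj : q ≤ p j := hmin (hrange j) hj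
    have heq : q = p j := le_antisymm hqj hj
    refine ⟨⟨j, heq.symm⟩, ?_⟩
    intro q' hq' hle
    obtain ⟨j', rfl⟩ := hq'
    exact hmin (hrange j') hle

end Groth.Agent.S9643
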