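import Groth.Statements.S9644
import Mathlib.RingTheory.Support
import Mathlib.RingTheory.Noetherian.Basic
import Mathlib.RingTheory.Ideal.AssociatedPrime.Basic
import Mathlib.RingTheory.Ideal.AssociatedPrime.Localization
import Mathlib.Algebra.Module.LocalizedModule.Basic
import Mathlib.LinearAlgebra.Quotient.Basic
import Mathlib.RingTheory.Spectrum.Prime.Topology
import Mathlib.RingTheory.Localization.Module
import Mathlib.RingTheory.Ideal.MinimalPrime.Noetherian
-- import your own Groth.Agent.* helpers here

set_option autoImplicit false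
set_option linter.unusedSectionVars false
universe u
open CAlg

namespace Groth.Agent.S9644

section aux


variable (R : Type u) [CommRing R] [IsNoetherianRing R] (M : Type u) [AddCommGroup M] [Module R M]
  [Module.Finite R M]

/-- minimal primes of the support of `M`. -/
def minP : Set (Ideal R) := (Module.annihilator R M).minimalPrimes

theorem minP_isPrime {p : Ideal R} (hp : p ∈ minP R M) : p.IsPrime := hp.1.1

theorem minP_finite : (minP R M).Finite :=
  Ideal.finite_minimalPrimes_of_isNoetherianRing R _

/-- elements vanishing at all generic points of the support. -/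
def K : Submodule R M where
  carrier := {m | ∀ p ∈ minP R M, ∃ s ∉ p, s • m = 0}
  zero_mem' := fun p hp => ⟨1, (Ideal.ne_top_iff_one p).mp (minP_isPrime R M hp).ne_top, smul_zero 1⟩
  add_mem' := by
    intro a b ha hb p hp
    obtain ⟨s, hs, hsa⟩ := ha p hp
    obtain ⟨t, ht, htb⟩ := hb p hp
    have := minP_isPrime R M hp
    refine ⟨s * t, fun h => (this.mem_or_mem h).elim hs ht, ?_⟩
    have h1 : (s * t) • a = 0 := by rw [mul_comm, mul_smul, hsa, smul_zero]
    have h2 : (s * t) • b = 0 := by rw [mul_smul, htb, smul_zero]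
    rw [smul_add, h1, h2, add_zero]
  smul_mem' := by
    intro c m hm p hp
    obtain ⟨s, hs, hsm⟩ := hm p hp
    exact ⟨s, hs, by rw [smul_comm, hsm, smul_zero]⟩

theorem mem_K_iff (m : M) : m ∈ K R M ↔ ∀ p ∈ minP R M, ∃ s ∉ p, s • m = 0 := Iff.rfl

theorem notMem_support_sub (K' : Submodule R M) (p : PrimeSpectrum R) :
    p ∉ Module.support R K' ↔ ∀ m ∈ K', ∃ s ∉ p.asIdeal, s • m = 0 := by
  rw [Module.notMem_support_iff']
  constructor
  · intro h m hm
    obtain ⟨s, hs, hsm⟩ := h ⟨m, hm⟩
    exact ⟨s, hs, congrArg Subtype.val hsm⟩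
  · intro h m
    obtain ⟨s, hs, hsm⟩ := h m.1 m.2
    exact ⟨s, hs, Subtype.ext hsm⟩

theorem mem_support_iff_minP (x : PrimeSpectrum R) :
    x ∈ Module.support R M ↔ ∃ p ∈ minP R M, p ≤ x.asIdeal := by
  rw [Module.support_eq_zeroLocus, PrimeSpectrum.mem_zeroLocus, SetLike.coe_subset_coe]
  constructor
  · intro h
    exact Ideal.exists_minimalPrimes_le h
  · rintro ⟨p, hp, hpx⟩
    exact hp.1.2.trans hpx

theorem minP_mem_support {p : Ideal R} (hp : p ∈ minP R M) :
    (⟨p, minP_isPrime R M hp⟩ : PrimeSpectrum R) ∈ Module.support R M :=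
  (mem_support_iff_minP R M _).mpr ⟨p, hp, le_rfl⟩

theorem minP_eq_of_le {p q : Ideal R} (hp : p ∈ minP R M) (hq : q ∈ minP R M) (h : p ≤ q) : p = q :=
  le_antisymm h (hq.2 hp.1 h)

theorem le_K_iff (K' : Submodule R M) :
    K' ≤ K R M ↔ ∀ p (hp : p ∈ minP R M),
      (⟨p, minP_isPrime R M hp⟩ : PrimeSpectrum R) ∉ Module.support R K' := by
  constructor
  · intro h p hp
    rw [notMem_support_sub]
    intro m hm
    exact h hm p hp
  · intro h m hm p hp
    exact (notMem_support_sub R M K' _).mp (h p hp) m hm

theorem isClosed_support_sub (K' : Submodule R M) : IsClosed (Module.support R K') := by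
  rw [Module.support_eq_zeroLocus]
  exact PrimeSpectrum.isClosed_zeroLocus _

theorem cond_iff (K' : Submodule R M) :
    (∀ U : Set (PrimeSpectrum R), IsOpen U →
      U ∩ Module.support R M ⊆ closure (Module.support R ↥K') → U ∩ Module.support R M = ∅) ↔
    ∀ p (hp : p ∈ minP R M),
      (⟨p, minP_isPrime R M hp⟩ : PrimeSpectrum R) ∉ Module.support R K' := by
  rw [(isClosed_support_sub R M K').closure_eq]
  constructor
  · intro h p hp hpK
    -- the open set avoiding all other components
    let Z : Set (PrimeSpectrum R) := ⋃ q ∈ (minP R M \ {p}), PrimeSpectrum.zeroLocus (q : Set R)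
    have hZ : IsClosed Z :=
      ((minP_finite R M).subset Set.diff_subset).isClosed_biUnion
        fun q _ => PrimeSpectrum.isClosed_zeroLocus _
    have hsub : Zᶜ ∩ Module.support R M ⊆ Module.support R K' := by
      rintro x ⟨hxZ, hxM⟩
      obtain ⟨q, hq, hqx⟩ := (mem_support_iff_minP R M x).mp hxM
      have hqp : q = p := by
        by_contra hne
        apply hxZ
        simp only [Z, Set.mem_iUnion, exists_prop]
        exact ⟨q, ⟨hq, hne⟩, hqx⟩
      subst hqp
      exact Module.mem_support_mono hqx hpK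
    have hempty := h Zᶜ hZ.isOpen_compl hsub
    have hp_mem : (⟨p, minP_isPrime R M hp⟩ : PrimeSpectrum R) ∈ Zᶜ ∩ Module.support R M := by
      refine ⟨?_, minP_mem_support R M hp⟩
      simp only [Z, Set.mem_compl_iff, Set.mem_iUnion, exists_prop, not_exists, not_and]
      rintro q ⟨hq, hne⟩ hqp
      exact hne (minP_eq_of_le R M hq hp hqp)
    rw [hempty] at hp_mem
    exact hp_mem
  · intro h U hU hsub
    rw [Set.eq_empty_iff_forall_notMem]
    rintro x ⟨hxU, hxM⟩
    obtain ⟨p, hp, hpx⟩ := (mem_support_iff_minP R M x).mp hxM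
    have hspec : (⟨p, minP_isPrime R M hp⟩ : PrimeSpectrum R) ⤳ x :=
      (PrimeSpectrum.le_iff_specializes _ _).mp hpx
    have hpU : (⟨p, minP_isPrime R M hp⟩ : PrimeSpectrum R) ∈ U := hspec.mem_open hU hxU
    exact h p hp (hsub ⟨hpU, minP_mem_support R M hp⟩)


theorem support_quot : Module.support R (M ⧸ K R M) = Module.support R M := by
  apply subset_antisymm (Module.support_subset_of_surjective _ (Submodule.mkQ_surjective _))
  intro x hx
  obtain ⟨p, hp, hpx⟩ := (mem_support_iff_minP R M x).mp hx
  have h1 : (⟨p, minP_isPrime R M hp⟩ : PrimeSpectrum R) ∈ Module.support R (M ⧸ K R M) := by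
    have hex := Module.support_of_exact (LinearMap.exact_subtype_mkQ (K R M))
      (Submodule.subtype_injective _) (Submodule.mkQ_surjective _)
    have := minP_mem_support R M hp
    rw [hex] at this
    rcases this with h | h
    · exact absurd h ((le_K_iff R M (K R M)).mp le_rfl p hp)
    · exact h
  exact Module.mem_support_mono hpx h1

theorem ass_quot_subset : associatedPrimes R (M ⧸ K R M) ⊆ minP R M := by
  intro q hq
  obtain ⟨hqp, x, hx⟩ := (isAssociatedPrime_iff).mp hq
  obtain ⟨m, rfl⟩ := Submodule.mkQ_surjective _ x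
  have hmem : ∀ a : R, a ∈ q ↔ a • m ∈ K R M := by
    intro a
    rw [hx, Submodule.mem_colon_singleton, Submodule.mem_bot, ← map_smul, Submodule.mkQ_apply,
      Submodule.Quotient.mk_eq_zero]
  have hmK : m ∉ K R M := by
    intro hm
    apply hqp.ne_top
    rw [Ideal.eq_top_iff_one, hmem, one_smul]
    exact hm
  rw [mem_K_iff] at hmK
  push Not at hmK
  obtain ⟨p, hp, hpm⟩ := hmK
  have hpp := minP_isPrime R M hp
  have hqp' : q ≤ p := by
    intro a ha
    obtain ⟨s, hs, hsm⟩ := ((hmem a).mp ha) p hp
    by_contra hap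
    apply hpm (s * a) (fun h => (hpp.mem_or_mem h).elim hs hap)
    rw [mul_smul, hsm]
  have hann : Module.annihilator R M ≤ q := by
    intro r hr
    rw [hmem, Module.mem_annihilator.mp hr m]
    exact zero_mem _
  have : p ≤ q := hp.2 ⟨hqp, hann⟩ hqp'
  rw [le_antisymm hqp' this]
  exact hp

theorem exists_pow_smul_eq_zero (f : R)
    (hf : ∀ p ∈ associatedPrimes R M, ¬ Minimal (fun x => x ∈ associatedPrimes R M) p → f ∈ p)
    {m : M} (hm : m ∈ K R M) : ∃ n : ℕ, f ^ n • m = 0 := by
  set I : Ideal R := Submodule.colon (⊥ : Submodule R M) {m} with hI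
  have hfI : f ∈ I.radical := by
    rw [← Ideal.sInf_minimalPrimes, Ideal.mem_sInf]
    intro q hq
    have hqp : q.IsPrime := hq.1.1
    obtain ⟨y, hy⟩ := Submodule.exists_eq_colon_of_mem_minimalPrimes hq
    have hqass : q ∈ associatedPrimes R M := (isAssociatedPrime_iff).mpr ⟨hqp, y, hy⟩
    apply hf q hqass
    intro hmin
    have hann : Module.annihilator R M ≤ q := by
      refine le_trans ?_ hq.1.2
      intro r hr
      rw [hI, Submodule.mem_colon_singleton, Submodule.mem_bot]
      exact Module.mem_annihilator.mp hr m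
    obtain ⟨p, hp, hpq⟩ := Ideal.exists_minimalPrimes_le hann
    have hpass : p ∈ associatedPrimes R M :=
      Module.associatedPrimes.minimalPrimes_annihilator_subset_associatedPrimes R M hp
    have hqp2 : q ≤ p := hmin.2 hpass hpq
    have hqeq : q = p := le_antisymm hqp2 hpq
    obtain ⟨s, hs, hsm⟩ := hm p hp
    apply hs
    rw [← hqeq]
    apply hq.1.2
    rw [hI, Submodule.mem_colon_singleton, Submodule.mem_bot]
    exact hsm
  obtain ⟨n, hn⟩ := hfI
  refine ⟨n, ?_⟩
  rw [hI, Submodule.mem_colon_singleton, Submodule.mem_bot] at hn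
  exact hn

theorem bijective_map (f : R)
    (hf : ∀ p ∈ associatedPrimes R M, ¬ Minimal (fun x => x ∈ associatedPrimes R M) p → f ∈ p) :
    Function.Bijective (LocalizedModule.map (Submonoid.powers f) (K R M).mkQ) := by
  refine ⟨?_, LocalizedModule.map_surjective _ _ (Submodule.mkQ_surjective _)⟩
  rw [injective_iff_map_eq_zero]
  intro x hx
  induction x using LocalizedModule.induction_on with
  | h m s =>
    rw [LocalizedModule.map_mk, ← LocalizedModule.zero_mk 1, LocalizedModule.mk_eq] at hx
    obtain ⟨u, hu⟩ := hx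
    rw [smul_zero, smul_zero, one_smul] at hu
    have hu' : (u : R) • m ∈ K R M := by
      rw [← Submodule.Quotient.mk_eq_zero, Submodule.Quotient.mk_smul]
      exact hu
    obtain ⟨n, hn⟩ := exists_pow_smul_eq_zero R M f hf hu'
    rw [← LocalizedModule.zero_mk 1, LocalizedModule.mk_eq]
    refine ⟨⟨f ^ n, n, rfl⟩ * u, ?_⟩
    rw [smul_zero, smul_zero, one_smul, mul_smul]
    exact hn


end aux

/-- Let R be a Noetherian ring and M a finite R-module. Among the submodules K' of M whose support is
nowhere dense inside Supp(M) there is a largest one, K. The quotient M' = M/K then satisfies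
Supp(M') = Supp(M), its associated primes are pairwise incomparable (no embedded ones), and whenever
f ∈ R belongs to every embedded associated prime of M the localized map M_f → M'_f is bijective. -/
theorem result {R : Type u} [CommRing R] [IsNoetherianRing R] (M : Type u) [AddCommGroup M] [Module R M] [Module.Finite R M] :
    ∃ K : Submodule R M,
      IsGreatest {K' : Submodule R M | ∀ U : Set (PrimeSpectrum R), IsOpen U → U ∩ Module.support R M ⊆ closure (Module.support R ↥K') → U ∩ Module.support R M = ∅} K ∧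
      Module.support R (M ⧸ K) = Module.support R M ∧
      (∀ p ∈ associatedPrimes R (M ⧸ K), ∀ q ∈ associatedPrimes R (M ⧸ K), p ≤ q → p = q) ∧
      ∀ f : R, (∀ p ∈ associatedPrimes R M, ¬ Minimal (fun x => x ∈ associatedPrimes R M) p → f ∈ p) →
        Function.Bijective (LocalizedModule.map (Submonoid.powers f) K.mkQ) := by
  refine ⟨K R M, ⟨?_, ?_⟩, support_quot R M, ?_, ?_⟩
  · exact (cond_iff R M (K R M)).mpr ((le_K_iff R M _).mp le_rfl)
  · intro K' hK'
    exact (le_K_iff R M K').mpr ((cond_iff R M K').mp hK')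
  · intro p hp q hq hpq
    exact minP_eq_of_le R M (ass_quot_subset R M hp) (ass_quot_subset R M hq) hpq
  · intro f hf
    exact bijective_map R M f hf

end Groth.Agent.S9644
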