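import Groth.Statements.S9645
import Mathlib.RingTheory.Localization.Integral
-- import your own Groth.Agent.* helpers here

set_option autoImplicit false
universe u
open CAlg

namespace Groth.Agent.S9645

/-- Integral closure commutes with localization. Let A → B be a ring map, S a multiplicative subset of
A, and A_S, B_S the localizations of A at S and of B at the image of S. Then an element x of B_S is
integral over A_S if and only if x·s = b for some s ∈ S and some b ∈ B integral over A (images taken
in B_S); that is, the integral closure of A_S in B_S is S⁻¹B' for B' the integral closure of A in B. -/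
theorem result {A B As Bs : Type u} [CommRing A] [CommRing B] [CommRing As] [CommRing Bs] [Algebra A B] [Algebra A As] [Algebra B Bs] [Algebra As Bs] [Algebra A Bs] [IsScalarTower A B Bs] [IsScalarTower A As Bs]
    (S : Submonoid A) [IsLocalization S As] [IsLocalization (Algebra.algebraMapSubmonoid B S) Bs] (x : Bs) :
    IsIntegral As x ↔ ∃ b : B, IsIntegral A b ∧ ∃ s ∈ S, x * algebraMap A Bs s = algebraMap B Bs b := by
  constructor
  · intro hx
    obtain ⟨m, hm⟩ := IsIntegral.exists_multiple_integral_of_isLocalization S x hx
    obtain ⟨⟨b₀, ⟨_, t, ht, rfl⟩⟩, hb₀⟩ :=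
      IsLocalization.surj (Algebra.algebraMapSubmonoid B S) ((m : A) • x)
    simp only at hb₀
    have hint : IsIntegral A (algebraMap B Bs b₀) := by
      rw [← hb₀]
      exact hm.mul (by
        rw [← IsScalarTower.algebraMap_apply A B Bs]
        exact isIntegral_algebraMap)
    obtain ⟨m', hm', hint'⟩ :=
      IsLocalization.exists_isIntegral_smul_of_isIntegral_map S (Sₘ := Bs) hint
    refine ⟨m' • b₀, hint', m' * t * m, S.mul_mem (S.mul_mem hm' ht) m.2, ?_⟩
    rw [Algebra.smul_def, map_mul (algebraMap B Bs), ← hb₀,
      ← IsScalarTower.algebraMap_apply A B Bs,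
      ← IsScalarTower.algebraMap_apply A B Bs, Algebra.smul_def, map_mul, map_mul]
    ring
  · rintro ⟨b, hb, s, hs, hxs⟩
    have h1 : IsIntegral As (algebraMap B Bs b) := (hb.map (IsScalarTower.toAlgHom A B Bs)).tower_top
    have hunit : algebraMap A Bs s * algebraMap As Bs (IsLocalization.mk' As 1 ⟨s, hs⟩) = 1 := by
      rw [IsScalarTower.algebraMap_apply A As Bs, ← map_mul, IsLocalization.mk'_spec'_mk, map_one,
        map_one]
    have hx : x = algebraMap B Bs b * algebraMap As Bs (IsLocalization.mk' As 1 ⟨s, hs⟩) := by
      rw [← hxs, mul_assoc, hunit, mul_one]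
    rw [hx]
    exact h1.mul isIntegral_algebraMap

end Groth.Agent.S9645
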