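import Groth.Statements.S9646
import Mathlib.RingTheory.Localization.Integral
-- import your own Groth.Agent.* helpers here

set_option autoImplicit false
universe u
open CAlg

namespace Groth.Agent.S9646

/-- (2) ⇒ (1): let R → S be a ring map and x ∈ S. If for every prime ideal p of R the image of x in S_p
(the localization of S at the image of R ∖ p) is integral over R_p, then x is integral over R. Here
R_p and S_p are any rings satisfying the localization universal properties. -/
theorem result {R S : Type u} [CommRing R] [CommRing S] [Algebra R S] (x : S)
    (h : ∀ (p : Ideal R) [p.IsPrime] (Rp Sp : Type u) [CommRing Rp] [CommRing Sp] [Algebra R Rp] [Algebra S Sp] [Algebra Rp Sp] [Algebra R Sp] [IsScalarTower R S Sp] [IsScalarTower R Rp Sp] [IsLocalization.AtPrime Rp p] [IsLocalization (Algebra.algebraMapSubmonoid S p.primeCompl) Sp], IsIntegral Rp (algebraMap S Sp x)) :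
    IsIntegral R x := by
  let J : Ideal R :=
    { carrier := {r | IsIntegral R (r • x)}
      add_mem' := by
        intro a b ha hb
        change IsIntegral R ((a + b) • x)
        rw [add_smul]
        exact ha.add hb
      zero_mem' := by
        change IsIntegral R ((0 : R) • x)
        rw [zero_smul]
        exact isIntegral_zero
      smul_mem' := by
        intro c a ha
        change IsIntegral R ((c • a) • x)
        rw [smul_assoc]
        exact ha.smul c }
  have hJ : J = ⊤ := by
    by_contra hne
    obtain ⟨m, hm, hJm⟩ := Ideal.exists_le_maximal J hne
    have hp := h m (Localization.AtPrime m)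
      (Localization (Algebra.algebraMapSubmonoid S m.primeCompl))
    obtain ⟨a, ha⟩ := IsIntegral.exists_multiple_integral_of_isLocalization m.primeCompl _ hp
    have ha' : IsIntegral R (algebraMap S (Localization (Algebra.algebraMapSubmonoid S m.primeCompl))
        ((a : R) • x)) := by
      rw [Algebra.smul_def, map_mul, ← IsScalarTower.algebraMap_apply, ← Algebra.smul_def]
      exact ha
    obtain ⟨b, hb, hb'⟩ := IsLocalization.exists_isIntegral_smul_of_isIntegral_map m.primeCompl
      (Sₘ := Localization (Algebra.algebraMapSubmonoid S m.primeCompl)) ha'
    have hmem : b * (a : R) ∈ J := by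
      change IsIntegral R ((b * (a : R)) • x)
      rw [mul_smul]
      exact hb'
    exact (m.primeCompl.mul_mem hb a.2) (hJm hmem)
  have h1 : (1 : R) ∈ J := by rw [hJ]; trivial
  have h2 : IsIntegral R ((1 : R) • x) := h1
  rwa [one_smul] at h2

end Groth.Agent.S9646
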