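import Groth.Statements.S9647
import Mathlib.RingTheory.Invariant.Profinite
import Mathlib.FieldTheory.Galois.Profinite
import Mathlib.FieldTheory.Galois.Infinite
import Mathlib.FieldTheory.KrullTopology
import Mathlib.LinearAlgebra.TensorProduct.Basis
import Mathlib.LinearAlgebra.Basis.VectorSpace
-- import your own Groth.Agent.* helpers here

set_option autoImplicit false
universe u
open CAlg

namespace Groth.Agent.S9647

open TensorProduct

section
variable {k : Type*} {L K : Type*} [Field k] [Field L] [Algebra k L] [Field K] [Algebra k K]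

theorem smul_tmulG (g : L ≃ₐ[k] L) (a : L) (b : K) :
    g • (a ⊗ₜ[k] b : L ⊗[k] K) = (g a) ⊗ₜ[k] b := by
  rw [TensorProduct.smul_tmul']
  rfl

/-- the action of `Gal(L/k)` on `L ⊗[k] K` through the left factor is by ring automorphisms. -/
noncomputable instance act : MulSemiringAction (L ≃ₐ[k] L) (L ⊗[k] K) :=
  { (inferInstance : DistribMulAction (L ≃ₐ[k] L) (L ⊗[k] K)) with
    smul_one := fun g => by
      rw [Algebra.TensorProduct.one_def, smul_tmulG, map_one]
    smul_mul := fun g x y => by
      induction x with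
      | zero => simp
      | add x₁ x₂ h₁ h₂ => rw [add_mul, smul_add, h₁, h₂, smul_add, add_mul]
      | tmul a b =>
        induction y with
        | zero => simp
        | add y₁ y₂ h₁ h₂ => rw [mul_add, smul_add, h₁, h₂, smul_add, mul_add]
        | tmul c d =>
          rw [Algebra.TensorProduct.tmul_mul_tmul, smul_tmulG, smul_tmulG, smul_tmulG,
            Algebra.TensorProduct.tmul_mul_tmul, map_mul] }

theorem smul_def' (g : L ≃ₐ[k] L) (x : L ⊗[k] K) :
    g • x = Algebra.TensorProduct.map (g : L →ₐ[k] L) (AlgHom.id k K) x := by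
  induction x with
  | zero => simp
  | tmul a b => rw [smul_tmulG]; simp
  | add a b ha hb => rw [smul_add, ha, hb, map_add]

theorem coeff_smul {ι : Type*} [DecidableEq ι] (ℬ : Module.Basis ι k K) (g : L ≃ₐ[k] L)
    (x : L ⊗[k] K) (i : ι) :
    TensorProduct.equivFinsuppOfBasisRight ℬ (g • x) i
      = g (TensorProduct.equivFinsuppOfBasisRight ℬ x i) := by
  induction x with
  | zero => simp
  | tmul a b =>
    rw [smul_tmulG, TensorProduct.equivFinsuppOfBasisRight_apply_tmul_apply,
      TensorProduct.equivFinsuppOfBasisRight_apply_tmul_apply, map_smul]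
  | add a b ha hb => simp only [smul_add, map_add, Finsupp.coe_add, Pi.add_apply, ha, hb]

theorem stabilizer_isOpen' [Algebra.IsIntegral k L] (x : L ⊗[k] K) :
    IsOpen (MulAction.stabilizer (L ≃ₐ[k] L) x : Set (L ≃ₐ[k] L)) := by
  induction x with
  | zero =>
    have : MulAction.stabilizer (L ≃ₐ[k] L) (0 : L ⊗[k] K) = ⊤ := by
      ext g; simp
    rw [this]
    exact isOpen_univ
  | tmul a b =>
    refine Subgroup.isOpen_mono (H₁ := MulAction.stabilizer (L ≃ₐ[k] L) a) ?_
      (stabilizer_isOpen_of_isIntegral a)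
    intro g hg
    rw [MulAction.mem_stabilizer_iff] at hg ⊢
    rw [smul_tmulG]
    have : g a = a := hg
    rw [this]
  | add a b ha hb =>
    refine Subgroup.isOpen_mono (H₁ := MulAction.stabilizer (L ≃ₐ[k] L) a ⊓
      MulAction.stabilizer (L ≃ₐ[k] L) b) ?_ (ha.inter hb)
    intro g hg
    rw [Subgroup.mem_inf, MulAction.mem_stabilizer_iff, MulAction.mem_stabilizer_iff] at hg
    rw [MulAction.mem_stabilizer_iff, smul_add, hg.1, hg.2]

theorem exists_of_fixed [IsGalois k L] (x : L ⊗[k] K) (hx : ∀ g : L ≃ₐ[k] L, g • x = x) :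
    ∃ a : K, (1 : L) ⊗ₜ[k] a = x := by
  classical
  let ℬ := Module.Free.chooseBasis k K
  have hcoef : ∀ i, ∃ c : k, algebraMap k L c = TensorProduct.equivFinsuppOfBasisRight ℬ x i := by
    intro i
    apply (InfiniteGalois.mem_range_algebraMap_iff_fixed _).mpr
    intro g
    rw [← coeff_smul, hx g]
  have hx' : x = (TensorProduct.equivFinsuppOfBasisRight ℬ x).sum fun i m => m ⊗ₜ[k] ℬ i := by
    rw [← TensorProduct.equivFinsuppOfBasisRight_symm_apply, LinearEquiv.symm_apply_apply]
  have hmem : x ∈ (Algebra.TensorProduct.includeRight : K →ₐ[k] L ⊗[k] K).range := by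
    rw [hx']
    refine Subalgebra.sum_mem _ fun i _ => ?_
    obtain ⟨c, hc⟩ := hcoef i
    refine ⟨c • ℬ i, ?_⟩
    rw [← hc]
    simp only [AlgHom.toRingHom_eq_coe, RingHom.coe_coe, Algebra.TensorProduct.includeRight_apply]
    rw [Algebra.algebraMap_eq_smul_one, TensorProduct.smul_tmul]
  obtain ⟨a, ha⟩ := hmem
  exact ⟨a, ha⟩


theorem transitive [IsGalois k L] (P Q : Ideal (L ⊗[k] K)) [P.IsPrime] [Q.IsPrime] :
    ∃ σ : L ≃ₐ[k] L, Q = P.comap (Algebra.TensorProduct.map (σ : L →ₐ[k] L) (AlgHom.id k K)) := by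
  let _ : Algebra K (L ⊗[k] K) :=
    (Algebra.TensorProduct.includeRight : K →ₐ[k] L ⊗[k] K).toRingHom.toAlgebra
  have halg : ∀ a : K, algebraMap K (L ⊗[k] K) a = (1 : L) ⊗ₜ[k] a := fun a => by
    rw [RingHom.algebraMap_toAlgebra]
    rfl
  let _ : TopologicalSpace (L ⊗[k] K) := ⊥
  have : DiscreteTopology (L ⊗[k] K) := ⟨rfl⟩
  have : SMulCommClass (L ≃ₐ[k] L) K (L ⊗[k] K) := by
    constructor
    intro g a b
    rw [Algebra.smul_def, Algebra.smul_def, smul_mul', halg, smul_tmulG, map_one]
  have : ContinuousSMul (L ≃ₐ[k] L) (L ⊗[k] K) := by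
    rw [continuousSMul_iff_stabilizer_isOpen]
    intro x
    exact stabilizer_isOpen' x
  have : Algebra.IsInvariant K (L ⊗[k] K) (L ≃ₐ[k] L) := by
    constructor
    intro b hb
    obtain ⟨a, ha⟩ := exists_of_fixed b hb
    exact ⟨a, (halg a).trans ha⟩
  have hPQ : P.under K = Q.under K := by
    have h1 : (P.under K).IsPrime := Ideal.IsPrime.under K P
    have h2 : (Q.under K).IsPrime := Ideal.IsPrime.under K Q
    rw [Ideal.eq_bot_of_prime (P.under K), Ideal.eq_bot_of_prime (Q.under K)]
  obtain ⟨g, hg⟩ := Algebra.IsInvariant.exists_smul_of_under_eq_of_profinite (A := K)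
    (G := L ≃ₐ[k] L) P Q hPQ
  refine ⟨g⁻¹, ?_⟩
  rw [hg, Ideal.pointwise_smul_eq_comap]
  ext x
  simp only [Ideal.mem_comap]
  have : (MulSemiringAction.toRingAut (L ≃ₐ[k] L) (L ⊗[k] K) g).symm x
      = Algebra.TensorProduct.map ((g⁻¹ : L ≃ₐ[k] L) : L →ₐ[k] L) (AlgHom.id k K) x := by
    rw [← smul_def']
    rfl
  rw [← this]

end

open TensorProduct in
/-- Let K/k be a field extension and k^sep a separable algebraic closure of k. Then the automorphism
group of k^sep over k acts transitively on the primes of k^sep ⊗_k K: for any two primes P, Q there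
is a k-automorphism σ of k^sep with Q the inverse image of P under σ ⊗ id_K. -/
theorem result {k K : Type u} [Field k] [Field K] [Algebra k K]
    (P Q : Ideal (SeparableClosure k ⊗[k] K)) [P.IsPrime] [Q.IsPrime] :
    ∃ σ : SeparableClosure k ≃ₐ[k] SeparableClosure k, Q = P.comap (Algebra.TensorProduct.map (σ : SeparableClosure k →ₐ[k] SeparableClosure k) (AlgHom.id k K)) := by
  exact transitive (L := SeparableClosure k) P Q

end Groth.Agent.S9647
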