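import Groth.Statements.S9649
import Mathlib
import Groth.Agent.Lib.Helper23.FieldSep

set_option autoImplicit false
universe u
open CAlg
open Groth.Agent.Lib.Helper23.FieldSep



namespace Groth.Agent.S9649

/-- A separably generated field extension is separable. Precisely: let K/k be a field extension
admitting a transcendence basis x over whose generated subfield k(x) the field K is separable
algebraic; then every finitely generated subextension K' of K/k also admits such a transcendence
basis. -/
theorem result {k K : Type u} [Field k] [Field K] [Algebra k K]
    (h : ∃ (ι : Type u) (x : ι → K), IsTranscendenceBasis k x ∧ Algebra.IsSeparable (IntermediateField.adjoin k (Set.range x)) K)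
    (K' : IntermediateField k K) (hK' : ∃ s : Finset K, IntermediateField.adjoin k (s : Set K) = K') :
    ∃ (ι : Type u) (x : ι → K'), IsTranscendenceBasis k x ∧ Algebra.IsSeparable (IntermediateField.adjoin k (Set.range x)) K' := by
  obtain ⟨p, hp⟩ := CharP.exists k
  rcases CharP.char_is_prime_or_zero k p with hpp | h0
  · have : ExpChar k p := ExpChar.prime hpp
    obtain ⟨ι, x, hx, hsep⟩ := h
    have : Algebra.FormallySmooth k K := .of_algebraicIndependent_of_isSeparable hx.1
    have : Algebra.IsGeometricallyReduced k K := (formallySmooth_iff_isGeometricallyReduced k K).mp inferInstance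
    have H : MacLane p k K := macLane_of_isGeometricallyReduced p hpp k K
    have H' : MacLane p k K' := H.intermediateField K'
    have : Algebra.EssFiniteType k K' := by
      obtain ⟨t, rfl⟩ := hK'
      exact IntermediateField.essFiniteType_iff.mpr ⟨t, rfl⟩
    obtain ⟨s, hs, Hs⟩ :=
      exists_isTranscendenceBasis_and_isSeparable_of_linearIndepOn_pow_of_essFiniteType
        (k := k) (K := K') p hpp H'
    refine ⟨↥s, (fun i : ↥s => (i : ↥K')), hs, ?_⟩
    have hr : Set.range (fun i : ↥s => (i : ↥K')) = (s : Set ↥K') := Subtype.range_coe
    rw [hr]
    exact Hs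
  · subst h0
    have : CharZero k := CharP.charP_to_charZero k
    obtain ⟨ι, x, hx⟩ := exists_isTranscendenceBasis' k K'
    refine ⟨ι, x, hx, ?_⟩
    have : Algebra.IsAlgebraic (IntermediateField.adjoin k (Set.range x)) K' := hx.isAlgebraic_field
    exact Algebra.IsAlgebraic.isSeparable_of_perfectField

end Groth.Agent.S9649
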