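import Groth.Statements.S9650
import Mathlib.FieldTheory.PrimitiveElement
import Mathlib.FieldTheory.IntermediateField.Adjoin.Algebra
import Mathlib.FieldTheory.IntermediateField.Adjoin.Basic
import Mathlib.FieldTheory.Separable

set_option autoImplicit false
universe u
open CAlg

namespace Groth.Agent.S9650

open Cardinal

lemma isAlgebraic_algebraAdjoin_of_adjoin_eq_top {k K : Type u} [Field k] [Field K] [Algebra k K]
    (s : Set K) (h : IntermediateField.adjoin k s = ⊤) :
    Algebra.IsAlgebraic (Algebra.adjoin k s) K := by
  constructor
  intro x
  have hx : x ∈ IntermediateField.adjoin k s := h ▸ IntermediateField.mem_top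
  obtain ⟨r, hr, t, ht, rfl⟩ := IntermediateField.mem_adjoin_iff_div.mp hx
  by_cases h0 : t = 0
  · rw [h0, div_zero]
    exact isAlgebraic_zero
  · refine ⟨Polynomial.C (⟨t, ht⟩ : Algebra.adjoin k s) * Polynomial.X - Polynomial.C ⟨r, hr⟩, ?_, ?_⟩
    · intro h1
      have := congr_arg (fun p => Polynomial.coeff p 1) h1
      simp at this
      exact h0 (congr_arg Subtype.val this)
    · simp only [map_sub, map_mul, Polynomial.aeval_C, Polynomial.aeval_X]
      show t * (r / t) - r = 0
      field_simp
      ring


/-- Let K/k be a finitely generated field extension that is separably generated, i.e. admits a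
transcendence basis over whose generated subfield K is separable algebraic. Then K is generated over
k by finitely many elements x_1, …, x_r, y such that the x_i form a transcendence basis of K/k and y
is separable over the subfield k(x_1, …, x_r). -/
theorem result {k K : Type u} [Field k] [Field K] [Algebra k K]
    (hfg : ∃ s : Finset K, IntermediateField.adjoin k (s : Set K) = ⊤)
    (hsep : ∃ (ι : Type u) (x : ι → K), IsTranscendenceBasis k x ∧ Algebra.IsSeparable (IntermediateField.adjoin k (Set.range x)) K) :
    ∃ (r : ℕ) (x : Fin r → K) (y : K), IsTranscendenceBasis k x ∧ IntermediateField.adjoin k (insert y (Set.range x)) = ⊤ ∧ IsSeparable (IntermediateField.adjoin k (Set.range x)) y := by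
  classical
  obtain ⟨s, hs⟩ := hfg
  obtain ⟨ι, x, hx, hsepx⟩ := hsep
  -- ι is finite
  have halg := isAlgebraic_algebraAdjoin_of_adjoin_eq_top (s : Set K) hs
  have h1 : #ι ≤ #(s : Set K) := by
    rw [hx.cardinalMk_eq_trdeg]
    exact Algebra.IsAlgebraic.trdeg_le_cardinalMk k (s : Set K)
  have hfin : Finite ι := by
    rw [← Cardinal.lt_aleph0_iff_finite]
    exact h1.trans_lt (Cardinal.lt_aleph0_iff_finite.mpr inferInstance)
  have : Fintype ι := Fintype.ofFinite ι
  set F := IntermediateField.adjoin k (Set.range x) with hF
  -- K finite over F
  have h2 : IntermediateField.adjoin F (s : Set K) = ⊤ := by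
    rw [eq_top_iff]
    intro z _
    have hz : z ∈ IntermediateField.adjoin k (s : Set K) := hs ▸ IntermediateField.mem_top
    have : IntermediateField.adjoin k (s : Set K) ≤
        (IntermediateField.adjoin F (s : Set K)).restrictScalars k := by
      rw [IntermediateField.adjoin_le_iff]
      intro w hw
      exact IntermediateField.subset_adjoin F _ hw
    exact this hz
  have h3 : FiniteDimensional F (IntermediateField.adjoin F (s : Set K)) :=
    IntermediateField.finiteDimensional_adjoin fun z _ =>
      (Algebra.IsSeparable.isIntegral F z)
  have h4 : FiniteDimensional F K := by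
    rw [h2] at h3
    exact (IntermediateField.topEquiv (F := F) (E := K)).toLinearEquiv.finiteDimensional
  obtain ⟨α, hα⟩ := Field.exists_primitive_element F K
  let e := Fintype.equivFin ι
  have hr : Set.range (x ∘ e.symm) = Set.range x := EquivLike.range_comp x e.symm
  refine ⟨Fintype.card ι, x ∘ e.symm, α, hx.comp_equiv e.symm, ?_, ?_⟩
  · rw [hr]
    have h5 := IntermediateField.adjoin_adjoin_left k (Set.range x) {α}
    rw [hα] at h5
    rw [Set.insert_eq, Set.union_comm, ← h5]
    rfl
  · rw [hr]
    exact Algebra.IsSeparable.isSeparable F α

end Groth.Agent.S9650
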