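import Groth.Statements.S9651
import Mathlib
import Groth.Agent.Lib.Helper25.GFAway

set_option autoImplicit false
universe u
open CAlg

namespace Groth.Agent.S9651



open PrimeSpectrum in
/-- generic openness of the image: finite type over a domain with nonempty generic fibre. -/
theorem exists_open_subset_range {R T : Type u} [CommRing R] [IsDomain R] [CommRing T]
    (φ : R →+* T) (hφ : φ.FiniteType) (P : PrimeSpectrum T) (hP : P.asIdeal.comap φ = ⊥) :
    ∃ U : Set (PrimeSpectrum R), IsOpen U ∧ (⟨⊥, Ideal.isPrime_bot⟩ : PrimeSpectrum R) ∈ U ∧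
      U ⊆ Set.range (PrimeSpectrum.comap φ) := by
  obtain ⟨g, -, hg, hgg⟩ :=
    Groth.Agent.Lib.Helper25.GFAway.exists_flat_finitePresentation φ hφ 1 one_ne_zero
  obtain ⟨hflat, hfp⟩ := hgg g dvd_rfl
  have hcomm : (Localization.awayMap φ g).comp (algebraMap R (Localization.Away g)) =
      (algebraMap T (Localization.Away (φ g))).comp φ := by
    ext x
    simp [Localization.awayMap, IsLocalization.Away.map]
  have hopen : IsOpenMap (PrimeSpectrum.comap (Localization.awayMap φ g)) := by
    algebraize [Localization.awayMap φ g]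
    have : Algebra.HasGoingDown (Localization.Away g) (Localization.Away (φ g)) := inferInstance
    exact PrimeSpectrum.isOpenMap_comap_of_hasGoingDown_of_finitePresentation
  refine ⟨PrimeSpectrum.comap (algebraMap R (Localization.Away g)) ''
      Set.range (PrimeSpectrum.comap (Localization.awayMap φ g)), ?_, ?_, ?_⟩
  · exact (PrimeSpectrum.localization_away_isOpenEmbedding (Localization.Away g) g).isOpenMap _
      hopen.isOpen_range
  · have hgP : P ∈ (PrimeSpectrum.basicOpen (φ g) : Set (PrimeSpectrum T)) := by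
      change φ g ∉ P.asIdeal
      intro hmem
      have : g ∈ P.asIdeal.comap φ := hmem
      rw [hP, Ideal.mem_bot] at this
      exact hg this
    rw [← PrimeSpectrum.localization_away_comap_range (Localization.Away (φ g)) (φ g)] at hgP
    obtain ⟨P', hP'⟩ := hgP
    refine ⟨_, ⟨P', rfl⟩, ?_⟩
    rw [← PrimeSpectrum.comap_comp_apply, hcomm, PrimeSpectrum.comap_comp_apply, hP']
    exact PrimeSpectrum.ext hP
  · rintro _ ⟨_, ⟨Q, rfl⟩, rfl⟩
    refine ⟨PrimeSpectrum.comap (algebraMap T (Localization.Away (φ g))) Q, ?_⟩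
    rw [← PrimeSpectrum.comap_comp_apply, ← PrimeSpectrum.comap_comp_apply, hcomm]
theorem exists_piece {S : Type u} [CommRing S] (E : Set (PrimeSpectrum S))
    (hE : Topology.IsConstructible E) :
    ∀ η ∈ E, ∃ (g : S) (ts : Set S), ts.Finite ∧
      η ∈ (PrimeSpectrum.basicOpen g : Set (PrimeSpectrum S)) \
        ⋃ t ∈ ts, (PrimeSpectrum.basicOpen t : Set (PrimeSpectrum S)) ∧
      (PrimeSpectrum.basicOpen g : Set (PrimeSpectrum S)) \
        ⋃ t ∈ ts, (PrimeSpectrum.basicOpen t : Set (PrimeSpectrum S)) ⊆ E := by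
  refine Topology.IsConstructible.induction_of_isTopologicalBasis
    (P := fun s _ => ∀ η ∈ s, ∃ (g : S) (ts : Set S), ts.Finite ∧
      η ∈ (PrimeSpectrum.basicOpen g : Set (PrimeSpectrum S)) \
        ⋃ t ∈ ts, (PrimeSpectrum.basicOpen t : Set (PrimeSpectrum S)) ∧
      (PrimeSpectrum.basicOpen g : Set (PrimeSpectrum S)) \
        ⋃ t ∈ ts, (PrimeSpectrum.basicOpen t : Set (PrimeSpectrum S)) ⊆ s)
    (fun g : S => (PrimeSpectrum.basicOpen g : Set (PrimeSpectrum S)))
    PrimeSpectrum.isTopologicalBasis_basic_opens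
    (fun g => PrimeSpectrum.isCompact_basicOpen g) ?_ ?_ E hE
  · intro g ts hts η hη
    exact ⟨g, ts, hts, hη, subset_rfl⟩
  · intro s _ t _ hs ht η hη
    rcases hη with hη | hη
    · obtain ⟨g, ts, h1, h2, h3⟩ := hs η hη
      exact ⟨g, ts, h1, h2, h3.trans Set.subset_union_left⟩
    · obtain ⟨g, ts, h1, h2, h3⟩ := ht η hη
      exact ⟨g, ts, h1, h2, h3.trans Set.subset_union_right⟩

/-- Let R → S be a ring map of finite type, f : Spec(S) → Spec(R) the induced map and E ⊆ Spec(S) a
constructible subset. If ξ ∈ f(E) then f(E) ∩ cl{ξ} contains an open dense subset of the closure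
cl{ξ}: some open U of Spec(R) has U ∩ cl{ξ} dense in cl{ξ} and contained in f(E). -/
theorem result {R S : Type u} [CommRing R] [CommRing S] [Algebra R S] [Algebra.FiniteType R S]
    (E : Set (PrimeSpectrum S)) (hE : Topology.IsConstructible E) (ξ : PrimeSpectrum R) (hξ : ξ ∈ PrimeSpectrum.comap (algebraMap R S) '' E) :
    ∃ U : Set (PrimeSpectrum R), IsOpen U ∧ closure ({ξ} : Set (PrimeSpectrum R)) ⊆ closure (U ∩ closure {ξ}) ∧ U ∩ closure {ξ} ⊆ PrimeSpectrum.comap (algebraMap R S) '' E := by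

  classical
  obtain ⟨η, hηE, hηξ⟩ := hξ
  obtain ⟨g, ts, htsfin, hηmem, hsub⟩ := exists_piece E hE η hηE
  set p := ξ.asIdeal with hp
  haveI : p.IsPrime := ξ.isPrime
  set I : Ideal S := Ideal.map (algebraMap R S) p ⊔ Ideal.span ts with hI
  let θ : R →+* Localization.Away (Ideal.Quotient.mk I g) :=
    (algebraMap (S ⧸ I) (Localization.Away (Ideal.Quotient.mk I g))).comp
      ((Ideal.Quotient.mk I).comp (algebraMap R S))
  have hθ0 : ∀ a ∈ p, θ a = 0 := by
    intro a ha
    have h0 : Ideal.Quotient.mk I (algebraMap R S a) = 0 := by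
      rw [Ideal.Quotient.eq_zero_iff_mem]
      exact Ideal.mem_sup_left (Ideal.mem_map_of_mem _ ha)
    change algebraMap (S ⧸ I) (Localization.Away (Ideal.Quotient.mk I g))
      (Ideal.Quotient.mk I (algebraMap R S a)) = 0
    rw [h0, map_zero]
  let φ : R ⧸ p →+* Localization.Away (Ideal.Quotient.mk I g) := Ideal.Quotient.lift p θ hθ0
  have hφθ : φ.comp (Ideal.Quotient.mk p) = θ := by
    ext a
    rfl
  have hθft : θ.FiniteType := by
    refine RingHom.FiniteType.comp ?_ (RingHom.FiniteType.comp ?_ ?_)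
    · rw [RingHom.finiteType_algebraMap]
      infer_instance
    · exact RingHom.FiniteType.of_surjective _ Ideal.Quotient.mk_surjective
    · rw [RingHom.finiteType_algebraMap]
      infer_instance
  have hφft : φ.FiniteType :=
    RingHom.FiniteType.of_comp_finiteType (f := Ideal.Quotient.mk p) (by rw [hφθ]; exact hθft)
  have hηg : g ∉ η.asIdeal := hηmem.1
  have hηts : ∀ t ∈ ts, t ∈ η.asIdeal := by
    intro t ht
    by_contra hcon
    exact hηmem.2 (Set.mem_biUnion ht hcon)
  have hηp : Ideal.map (algebraMap R S) p ≤ η.asIdeal := by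
    rw [Ideal.map_le_iff_le_comap, hp, ← hηξ]
    exact le_rfl
  have hηI : I ≤ η.asIdeal := sup_le hηp (Ideal.span_le.mpr hηts)
  have h1 : η ∈ Set.range (PrimeSpectrum.comap (Ideal.Quotient.mk I)) := by
    rw [range_comap_of_surjective _ _ Ideal.Quotient.mk_surjective, Ideal.mk_ker]
    exact hηI
  obtain ⟨η', hη'⟩ := h1
  have h2 : η' ∈ (PrimeSpectrum.basicOpen (Ideal.Quotient.mk I g) :
      Set (PrimeSpectrum (S ⧸ I))) := by
    change Ideal.Quotient.mk I g ∉ η'.asIdeal
    intro hmem
    apply hηg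
    rw [← hη']
    exact hmem
  rw [← PrimeSpectrum.localization_away_comap_range
    (Localization.Away (Ideal.Quotient.mk I g)) (Ideal.Quotient.mk I g)] at h2
  obtain ⟨P, hPη'⟩ := h2
  have hP : P.asIdeal.comap φ = ⊥ := by
    ext x
    obtain ⟨a, rfl⟩ := Ideal.Quotient.mk_surjective x
    rw [Ideal.mem_comap, Ideal.mem_bot, Ideal.Quotient.eq_zero_iff_mem]
    change θ a ∈ P.asIdeal ↔ _
    have e1 : θ a ∈ P.asIdeal ↔ algebraMap R S a ∈ η.asIdeal := by
      rw [← hη', ← hPη']
      rfl
    rw [e1, hp, ← hηξ]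
    rfl
  obtain ⟨U', hU'open, hgen, hU'sub⟩ := exists_open_subset_range φ hφft P hP
  obtain ⟨U, hUopen, hUpre⟩ :=
    (PrimeSpectrum.isClosedEmbedding_comap_of_surjective _ _
      (Ideal.Quotient.mk_surjective (I := p))).isInducing.isOpen_iff.mp hU'open
  have hξeq : ξ = PrimeSpectrum.comap (Ideal.Quotient.mk p) ⟨⊥, Ideal.isPrime_bot⟩ := by
    apply PrimeSpectrum.ext
    change p = Ideal.comap (Ideal.Quotient.mk p) ⊥
    rw [← RingHom.ker_eq_comap_bot, Ideal.mk_ker]
  have hξU : ξ ∈ U := by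
    have h3 : (⟨⊥, Ideal.isPrime_bot⟩ : PrimeSpectrum (R ⧸ p)) ∈
        PrimeSpectrum.comap (Ideal.Quotient.mk p) ⁻¹' U := by
      rw [hUpre]
      exact hgen
    rw [hξeq]
    exact h3
  refine ⟨U, hUopen, ?_, ?_⟩
  · apply closure_mono
    rw [Set.singleton_subset_iff]
    exact ⟨hξU, subset_closure rfl⟩
  · rintro q ⟨hqU, hqcl⟩
    rw [PrimeSpectrum.closure_singleton, PrimeSpectrum.mem_zeroLocus] at hqcl
    have h3 : q ∈ Set.range (PrimeSpectrum.comap (Ideal.Quotient.mk p)) := by
      rw [range_comap_of_surjective _ _ Ideal.Quotient.mk_surjective, Ideal.mk_ker]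
      exact hqcl
    obtain ⟨q', rfl⟩ := h3
    have h4 : q' ∈ U' := by
      rw [← hUpre]
      exact hqU
    obtain ⟨Q, rfl⟩ := hU'sub h4
    refine ⟨PrimeSpectrum.comap (Ideal.Quotient.mk I)
      (PrimeSpectrum.comap (algebraMap (S ⧸ I) (Localization.Away (Ideal.Quotient.mk I g))) Q),
      hsub ⟨?_, ?_⟩, ?_⟩
    · change algebraMap (S ⧸ I) (Localization.Away (Ideal.Quotient.mk I g))
        (Ideal.Quotient.mk I g) ∉ Q.asIdeal
      intro hmem
      exact Q.isPrime.ne_top (Ideal.eq_top_of_isUnit_mem _ hmem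
        (IsLocalization.Away.algebraMap_isUnit _))
    · intro hmem
      rw [Set.mem_iUnion₂] at hmem
      obtain ⟨t, ht, htm⟩ := hmem
      apply htm
      change algebraMap (S ⧸ I) (Localization.Away (Ideal.Quotient.mk I g))
        (Ideal.Quotient.mk I t) ∈ Q.asIdeal
      have h0 : Ideal.Quotient.mk I t = 0 := by
        rw [Ideal.Quotient.eq_zero_iff_mem]
        exact Ideal.mem_sup_right (Ideal.subset_span ht)
      rw [h0, map_zero]
      exact Ideal.zero_mem _
    · rw [← PrimeSpectrum.comap_comp_apply, ← PrimeSpectrum.comap_comp_apply,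
        ← PrimeSpectrum.comap_comp_apply, hφθ]

end Groth.Agent.S9651
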