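import Groth.Statements.S9652
import Mathlib
import Groth.Agent.S9651

set_option autoImplicit false
universe u
open CAlg

namespace Groth.Agent.S9652



/-- J0: in a Jacobson ring, a point of `D(h)` specializes to a closed point of `D(h)`. -/
theorem exists_maximal_of_not_mem {S : Type u} [CommRing S] [IsJacobsonRing S]
    (y : PrimeSpectrum S) (h : S) (hy : h ∉ y.asIdeal) :
    ∃ m : PrimeSpectrum S, m.asIdeal.IsMaximal ∧ y ≤ m ∧ h ∉ m.asIdeal := by
  have hj : y.asIdeal.jacobson = y.asIdeal := IsJacobsonRing.out inferInstance y.isPrime.isRadical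
  have h1 : h ∉ sInf {J : Ideal S | y.asIdeal ≤ J ∧ J.IsMaximal} := by
    intro hmem
    apply hy
    rw [← hj]
    exact hmem
  rw [Ideal.mem_sInf] at h1
  push Not at h1
  obtain ⟨J, ⟨hyJ, hJmax⟩, hJ⟩ := h1
  exact ⟨⟨J, hJmax.isPrime⟩, hJmax, hyJ, hJ⟩

/-- J1: points of a constructible set closed in it are closed points (Jacobson). -/
theorem isMaximal_of_closed_in_constructible {S : Type u} [CommRing S] [IsJacobsonRing S]
    (E : Set (PrimeSpectrum S)) (hE : Topology.IsConstructible E) (y : PrimeSpectrum S)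
    (hyE : y ∈ E) (hy : closure {y} ∩ E = {y}) : y.asIdeal.IsMaximal := by
  obtain ⟨g, ts, -, hmem, hsub⟩ := Groth.Agent.S9651.exists_piece E hE y hyE
  obtain ⟨m, hmmax, hym, hgm⟩ := exists_maximal_of_not_mem y g hmem.1
  have hmE : m ∈ E := by
    apply hsub
    refine ⟨hgm, ?_⟩
    intro hcon
    rw [Set.mem_iUnion₂] at hcon
    obtain ⟨t, ht, htm⟩ := hcon
    apply htm
    have hty : t ∈ y.asIdeal := by
      by_contra hcon2
      exact hmem.2 (Set.mem_biUnion ht hcon2)
    exact hym hty
  have hmcl : m ∈ closure {y} ∩ E := ⟨(PrimeSpectrum.le_iff_mem_closure y m).mp hym, hmE⟩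
  rw [hy, Set.mem_singleton_iff] at hmcl
  rw [← hmcl]
  exact hmmax

/-- J2: finite type maps from Jacobson rings pull maximal ideals back to maximal ideals. -/
theorem isMaximal_comap_of_finiteType {R S : Type u} [CommRing R] [CommRing S] [Algebra R S]
    [IsJacobsonRing R] [Algebra.FiniteType R S] (m : Ideal S) [hm : m.IsMaximal] :
    (m.comap (algebraMap R S)).IsMaximal := by
  letI : Field (S ⧸ m) := Ideal.Quotient.field m
  have hft : Algebra.FiniteType R (S ⧸ m) :=
    Algebra.FiniteType.trans (inferInstance : Algebra.FiniteType R S) inferInstance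
  have hfin : Module.Finite R (S ⧸ m) := finite_of_finite_type_of_isJacobsonRing R (S ⧸ m)
  have hint : Algebra.IsIntegral R (S ⧸ m) := inferInstance
  have h1 : ((⊥ : Ideal (S ⧸ m)).comap (algebraMap R (S ⧸ m))).IsMaximal :=
    Ideal.isMaximal_comap_of_isIntegral_of_isMaximal (R := R) (⊥ : Ideal (S ⧸ m))
  have h2 : (⊥ : Ideal (S ⧸ m)).comap (algebraMap R (S ⧸ m)) = m.comap (algebraMap R S) := by
    ext x
    rw [Ideal.mem_comap, Ideal.mem_comap, Ideal.mem_bot,
      IsScalarTower.algebraMap_apply R S (S ⧸ m), Ideal.Quotient.algebraMap_eq,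
      Ideal.Quotient.eq_zero_iff_mem]
  rw [← h2]
  exact h1

/-- J3: a closed point in the image of a constructible set is the image of a closed point. -/
theorem exists_maximal_over {R S : Type u} [CommRing R] [CommRing S] [Algebra R S]
    [IsJacobsonRing S] (E : Set (PrimeSpectrum S)) (hE : Topology.IsConstructible E)
    (x : PrimeSpectrum R) (hx : x.asIdeal.IsMaximal)
    (hxE : x ∈ PrimeSpectrum.comap (algebraMap R S) '' E) :
    ∃ y ∈ E, y.asIdeal.IsMaximal ∧ PrimeSpectrum.comap (algebraMap R S) y = x := by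
  obtain ⟨y', hy'E, hy'x⟩ := hxE
  obtain ⟨g, ts, -, hmem, hsub⟩ := Groth.Agent.S9651.exists_piece E hE y' hy'E
  obtain ⟨m, hmmax, hym, hgm⟩ := exists_maximal_of_not_mem y' g hmem.1
  refine ⟨m, ?_, hmmax, ?_⟩
  · apply hsub
    refine ⟨hgm, ?_⟩
    intro hcon
    rw [Set.mem_iUnion₂] at hcon
    obtain ⟨t, ht, htm⟩ := hcon
    apply htm
    have hty : t ∈ y'.asIdeal := by
      by_contra hcon2
      exact hmem.2 (Set.mem_biUnion ht hcon2)
    exact hym hty
  · apply PrimeSpectrum.ext
    symm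
    apply hx.eq_of_le (PrimeSpectrum.comap (algebraMap R S) m).isPrime.ne_top
    rw [← hy'x]
    exact Ideal.comap_mono hym

/-- Let R and S be Jacobson rings, R → S a ring map of finite type with induced map f : Spec(S) →
Spec(R), and E ⊆ Spec(S) a constructible subset. Writing T₀ for the set of points of a subspace T
which are closed in T, one has f(E)₀ = f(E₀) = (Spec R)₀ ∩ f(E). -/
theorem result {R S : Type u} [CommRing R] [CommRing S] [Algebra R S] [IsJacobsonRing R] [IsJacobsonRing S] [Algebra.FiniteType R S]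
    (E : Set (PrimeSpectrum S)) (hE : Topology.IsConstructible E) :
    {x | x ∈ PrimeSpectrum.comap (algebraMap R S) '' E ∧ closure {x} ∩ PrimeSpectrum.comap (algebraMap R S) '' E = {x}} =
        PrimeSpectrum.comap (algebraMap R S) '' {y | y ∈ E ∧ closure {y} ∩ E = {y}} ∧
      PrimeSpectrum.comap (algebraMap R S) '' {y | y ∈ E ∧ closure {y} ∩ E = {y}} =
        {x | IsClosed ({x} : Set (PrimeSpectrum R))} ∩ PrimeSpectrum.comap (algebraMap R S) '' E := by

  classical
  have part2 : PrimeSpectrum.comap (algebraMap R S) '' {y | y ∈ E ∧ closure {y} ∩ E = {y}} =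
      {x | IsClosed ({x} : Set (PrimeSpectrum R))} ∩
        PrimeSpectrum.comap (algebraMap R S) '' E := by
    apply Set.Subset.antisymm
    · rintro _ ⟨y, ⟨hyE, hycl⟩, rfl⟩
      have hymax := isMaximal_of_closed_in_constructible E hE y hyE hycl
      refine ⟨?_, ⟨y, hyE, rfl⟩⟩
      rw [Set.mem_setOf_eq, PrimeSpectrum.isClosed_singleton_iff_isMaximal]
      exact isMaximal_comap_of_finiteType y.asIdeal
    · rintro x ⟨hxcl, hxE⟩
      rw [Set.mem_setOf_eq, PrimeSpectrum.isClosed_singleton_iff_isMaximal] at hxcl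
      obtain ⟨y, hyE, hymax, hyx⟩ := exists_maximal_over E hE x hxcl hxE
      refine ⟨y, ⟨hyE, ?_⟩, hyx⟩
      have h1 : closure {y} = {y} :=
        ((PrimeSpectrum.isClosed_singleton_iff_isMaximal y).mpr hymax).closure_eq
      rw [h1]
      exact Set.inter_eq_left.mpr (Set.singleton_subset_iff.mpr hyE)
  refine ⟨?_, part2⟩
  rw [part2]
  apply Set.Subset.antisymm
  · rintro x ⟨hxE, hxcl⟩
    refine ⟨?_, hxE⟩
    rw [Set.mem_setOf_eq, PrimeSpectrum.isClosed_singleton_iff_isMaximal]
    obtain ⟨U, hUopen, hdense, hUsub⟩ := Groth.Agent.S9651.result E hE x hxE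
    have hxU : x ∈ U := by
      have hx1 : x ∈ closure (U ∩ closure {x}) := hdense (subset_closure rfl)
      have hne : (U ∩ closure {x}).Nonempty := by
        by_contra hcon
        rw [Set.not_nonempty_iff_eq_empty] at hcon
        rw [hcon, closure_empty] at hx1
        exact hx1
      obtain ⟨z, hzU, hzcl⟩ := hne
      have h2 : x ⤳ z := specializes_iff_mem_closure.mpr hzcl
      exact h2.mem_open hUopen hzU
    obtain ⟨_, ⟨h, rfl⟩, hxh, hhU⟩ :=
      PrimeSpectrum.isTopologicalBasis_basic_opens.exists_subset_of_mem_open hxU hUopen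
    obtain ⟨m, hmmax, hxm, hhm⟩ := exists_maximal_of_not_mem x h hxh
    have hm1 : m ∈ closure {x} ∩ PrimeSpectrum.comap (algebraMap R S) '' E := by
      have hmcl : m ∈ closure {x} := (PrimeSpectrum.le_iff_mem_closure x m).mp hxm
      exact ⟨hmcl, hUsub ⟨hhU hhm, hmcl⟩⟩
    rw [hxcl, Set.mem_singleton_iff] at hm1
    rw [← hm1]
    exact hmmax
  · rintro x ⟨hxcl, hxE⟩
    refine ⟨hxE, ?_⟩
    rw [Set.mem_setOf_eq] at hxcl
    rw [hxcl.closure_eq]
    exact Set.inter_eq_left.mpr (Set.singleton_subset_iff.mpr hxE)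

end Groth.Agent.S9652
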