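import Groth.Statements.S9653
import Mathlib
import Groth.Agent.S9652

set_option autoImplicit false
universe u
open CAlg

namespace Groth.Agent.S9653



theorem piece_lift {S : Type u} [CommRing S] (g : S) (ts : Set S) (y : PrimeSpectrum S)
    (hy : y ∈ (PrimeSpectrum.basicOpen g : Set (PrimeSpectrum S)) \
        ⋃ t ∈ ts, (PrimeSpectrum.basicOpen t : Set (PrimeSpectrum S))) :
    ∃ Q : PrimeSpectrum (Localization.Away (Ideal.Quotient.mk (Ideal.span ts) g)),
      PrimeSpectrum.comap (Ideal.Quotient.mk (Ideal.span ts))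
        (PrimeSpectrum.comap (algebraMap (S ⧸ Ideal.span ts)
          (Localization.Away (Ideal.Quotient.mk (Ideal.span ts) g))) Q) = y := by
  have hyg : g ∉ y.asIdeal := hy.1
  have hyts : ∀ t ∈ ts, t ∈ y.asIdeal := by
    intro t ht
    by_contra hcon
    exact hy.2 (Set.mem_biUnion ht hcon)
  have h1 : y ∈ Set.range (PrimeSpectrum.comap (Ideal.Quotient.mk (Ideal.span ts))) := by
    rw [range_comap_of_surjective _ _ Ideal.Quotient.mk_surjective, Ideal.mk_ker]
    exact Ideal.span_le.mpr hyts
  obtain ⟨y', hy'⟩ := h1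
  have h2 : y' ∈ (PrimeSpectrum.basicOpen (Ideal.Quotient.mk (Ideal.span ts) g) :
      Set (PrimeSpectrum (S ⧸ Ideal.span ts))) := by
    change Ideal.Quotient.mk (Ideal.span ts) g ∉ y'.asIdeal
    intro hmem
    apply hyg
    rw [← hy']
    exact hmem
  rw [← PrimeSpectrum.localization_away_comap_range
    (Localization.Away (Ideal.Quotient.mk (Ideal.span ts) g))
    (Ideal.Quotient.mk (Ideal.span ts) g)] at h2
  obtain ⟨Q, hQ⟩ := h2
  exact ⟨Q, by rw [hQ, hy']⟩

theorem piece_mem {S : Type u} [CommRing S] (g : S) (ts : Set S)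
    (Q : PrimeSpectrum (Localization.Away (Ideal.Quotient.mk (Ideal.span ts) g))) :
    PrimeSpectrum.comap (Ideal.Quotient.mk (Ideal.span ts))
        (PrimeSpectrum.comap (algebraMap (S ⧸ Ideal.span ts)
          (Localization.Away (Ideal.Quotient.mk (Ideal.span ts) g))) Q) ∈
      (PrimeSpectrum.basicOpen g : Set (PrimeSpectrum S)) \
        ⋃ t ∈ ts, (PrimeSpectrum.basicOpen t : Set (PrimeSpectrum S)) := by
  refine ⟨?_, ?_⟩
  · change algebraMap (S ⧸ Ideal.span ts)
      (Localization.Away (Ideal.Quotient.mk (Ideal.span ts) g))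
      (Ideal.Quotient.mk (Ideal.span ts) g) ∉ Q.asIdeal
    intro hmem
    exact Q.isPrime.ne_top (Ideal.eq_top_of_isUnit_mem _ hmem
      (IsLocalization.Away.algebraMap_isUnit _))
  · intro hmem
    rw [Set.mem_iUnion₂] at hmem
    obtain ⟨t, ht, htm⟩ := hmem
    apply htm
    change algebraMap (S ⧸ Ideal.span ts)
      (Localization.Away (Ideal.Quotient.mk (Ideal.span ts) g))
      (Ideal.Quotient.mk (Ideal.span ts) t) ∈ Q.asIdeal
    have h0 : Ideal.Quotient.mk (Ideal.span ts) t = 0 := by
      rw [Ideal.Quotient.eq_zero_iff_mem]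
      exact Ideal.subset_span ht
    rw [h0, map_zero]
    exact Ideal.zero_mem _

theorem mem_image_of_dense {R S : Type u} [CommRing R] [CommRing S] [Algebra R S]
    (E : Set (PrimeSpectrum S)) (hE : Topology.IsConstructible E) :
    ∀ ξ : PrimeSpectrum R,
      closure ({ξ} : Set (PrimeSpectrum R)) ⊆
        closure (closure {ξ} ∩ PrimeSpectrum.comap (algebraMap R S) '' E) →
      ξ ∈ PrimeSpectrum.comap (algebraMap R S) '' E := by
  refine Topology.IsConstructible.induction_of_isTopologicalBasis
    (P := fun s _ => ∀ ξ : PrimeSpectrum R,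
      closure ({ξ} : Set (PrimeSpectrum R)) ⊆
        closure (closure {ξ} ∩ PrimeSpectrum.comap (algebraMap R S) '' s) →
      ξ ∈ PrimeSpectrum.comap (algebraMap R S) '' s)
    (fun g : S => (PrimeSpectrum.basicOpen g : Set (PrimeSpectrum S)))
    PrimeSpectrum.isTopologicalBasis_basic_opens
    (fun g => PrimeSpectrum.isCompact_basicOpen g) ?_ ?_ E hE
  · intro g ts _ ξ hξ
    set θ : R →+* Localization.Away (Ideal.Quotient.mk (Ideal.span ts) g) :=
      (algebraMap (S ⧸ Ideal.span ts)
        (Localization.Away (Ideal.Quotient.mk (Ideal.span ts) g))).comp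
        ((Ideal.Quotient.mk (Ideal.span ts)).comp (algebraMap R S)) with hθ
    have hθcomap : ∀ Q : PrimeSpectrum (Localization.Away (Ideal.Quotient.mk (Ideal.span ts) g)),
        PrimeSpectrum.comap (algebraMap R S)
          (PrimeSpectrum.comap (Ideal.Quotient.mk (Ideal.span ts))
            (PrimeSpectrum.comap (algebraMap (S ⧸ Ideal.span ts)
              (Localization.Away (Ideal.Quotient.mk (Ideal.span ts) g))) Q)) =
          PrimeSpectrum.comap θ Q := by
      intro Q
      rw [← PrimeSpectrum.comap_comp_apply, ← PrimeSpectrum.comap_comp_apply]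
    have hrange : ξ ∈ Set.range (PrimeSpectrum.comap θ) := by
      rw [PrimeSpectrum.mem_range_comap_iff]
      apply le_antisymm _ Ideal.le_comap_map
      intro x hx
      by_contra hxp
      have hξx : ξ ∈ (PrimeSpectrum.basicOpen x : Set (PrimeSpectrum R)) := hxp
      have hξcl : ξ ∈ closure (closure {ξ} ∩ PrimeSpectrum.comap (algebraMap R S) ''
          ((PrimeSpectrum.basicOpen g : Set (PrimeSpectrum S)) \
            ⋃ t ∈ ts, (PrimeSpectrum.basicOpen t : Set (PrimeSpectrum S)))) :=
        hξ (subset_closure rfl)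
      rw [mem_closure_iff] at hξcl
      obtain ⟨q, hqx, hqcl, y, hy, rfl⟩ :=
        hξcl _ (PrimeSpectrum.basicOpen x).isOpen hξx
      obtain ⟨Q, rfl⟩ := piece_lift g ts y hy
      rw [hθcomap] at hqx hqcl
      apply hqx
      change θ x ∈ Q.asIdeal
      have hle : ξ.asIdeal.map θ ≤ Q.asIdeal := by
        rw [Ideal.map_le_iff_le_comap]
        exact (PrimeSpectrum.le_iff_mem_closure ξ _).mpr hqcl
      exact hle hx
    obtain ⟨Q, hQ⟩ := hrange
    refine ⟨_, piece_mem g ts Q, ?_⟩
    rw [hθcomap, hQ]
  · intro s _ t _ hs ht ξ hξ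
    rw [Set.image_union, Set.inter_union_distrib_left, closure_union] at hξ
    rw [Set.image_union]
    rcases hξ (subset_closure rfl) with h | h
    · left
      apply hs ξ
      exact closure_minimal (Set.singleton_subset_iff.mpr h) isClosed_closure
    · right
      apply ht ξ
      exact closure_minimal (Set.singleton_subset_iff.mpr h) isClosed_closure

/-- Let R and S be Jacobson rings, R → S a ring map of finite type with induced map f : Spec(S) →
Spec(R), E ⊆ Spec(S) constructible and E₀ the set of points of E closed in E. Then a point ξ of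
Spec(R) lies in f(E) if and only if cl{ξ} ∩ f(E₀) is dense in the closure cl{ξ}. -/
theorem result {R S : Type u} [CommRing R] [CommRing S] [Algebra R S] [IsJacobsonRing R] [IsJacobsonRing S] [Algebra.FiniteType R S]
    (E : Set (PrimeSpectrum S)) (hE : Topology.IsConstructible E) (ξ : PrimeSpectrum R) :
    ξ ∈ PrimeSpectrum.comap (algebraMap R S) '' E ↔
      closure ({ξ} : Set (PrimeSpectrum R)) ⊆ closure (closure {ξ} ∩ PrimeSpectrum.comap (algebraMap R S) '' {y | y ∈ E ∧ closure {y} ∩ E = {y}}) := by

  classical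
  constructor
  · intro hξ
    obtain ⟨U, hUopen, hdense, hUsub⟩ := Groth.Agent.S9651.result E hE ξ hξ
    have hξU : ξ ∈ U := by
      have hx1 : ξ ∈ closure (U ∩ closure {ξ}) := hdense (subset_closure rfl)
      have hne : (U ∩ closure {ξ}).Nonempty := by
        by_contra hcon
        rw [Set.not_nonempty_iff_eq_empty] at hcon
        rw [hcon, closure_empty] at hx1
        exact hx1
      obtain ⟨z, hzU, hzcl⟩ := hne
      have h2 : ξ ⤳ z := specializes_iff_mem_closure.mpr hzcl
      exact h2.mem_open hUopen hzU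
    have hξA : ξ ∈ closure (closure {ξ} ∩ PrimeSpectrum.comap (algebraMap R S) ''
        {y | y ∈ E ∧ closure {y} ∩ E = {y}}) := by
      rw [mem_closure_iff]
      intro W hWopen hξW
      obtain ⟨_, ⟨h, rfl⟩, hξh, hhsub⟩ :=
        PrimeSpectrum.isTopologicalBasis_basic_opens.exists_subset_of_mem_open
          (⟨hξW, hξU⟩ : ξ ∈ W ∩ U) (hWopen.inter hUopen)
      obtain ⟨m, hmmax, hξm, hhm⟩ := Groth.Agent.S9652.exists_maximal_of_not_mem ξ h hξh
      have hmcl : m ∈ closure {ξ} := (PrimeSpectrum.le_iff_mem_closure ξ m).mp hξm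
      have hmWU := hhsub hhm
      have hmE : m ∈ PrimeSpectrum.comap (algebraMap R S) '' E := hUsub ⟨hmWU.2, hmcl⟩
      have hmE0 : m ∈ PrimeSpectrum.comap (algebraMap R S) ''
          {y | y ∈ E ∧ closure {y} ∩ E = {y}} := by
        rw [(Groth.Agent.S9652.result E hE).2]
        exact ⟨(PrimeSpectrum.isClosed_singleton_iff_isMaximal m).mpr hmmax, hmE⟩
      exact ⟨m, hmWU.1, hmcl, hmE0⟩
    exact closure_minimal (Set.singleton_subset_iff.mpr hξA) isClosed_closure
  · intro h
    apply mem_image_of_dense E hE ξ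
    refine h.trans (closure_mono ?_)
    apply Set.inter_subset_inter_right
    apply Set.image_mono
    intro y hy
    exact hy.1

end Groth.Agent.S9653
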