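import Groth.Statements.S9654
import Mathlib.RingTheory.IntegralClosure.Algebra.Basic
import Mathlib.RingTheory.Adjoin.Polynomial.Basic
import Mathlib.RingTheory.Localization.Basic
import Mathlib.Algebra.Algebra.Operations

set_option autoImplicit false
universe u
open CAlg

namespace Groth.Agent.S9654

open Polynomial

section General
variable {R L : Type*} [CommRing R] [CommRing L] [Algebra R L]

lemma isIntegral_of_mul_mem (N : Submodule R L) (h1 : (1 : L) ∈ N) (hN : N.FG) (x : L)
    (hx : ∀ n ∈ N, x * n ∈ N) : IsIntegral R x := by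
  have : Module.Finite R N := by rwa [Module.Finite.iff_fg]
  let g : Module.End R N := (LinearMap.mulLeft R x).restrict hx
  obtain ⟨p, hp, hpg⟩ : IsIntegral R g := Algebra.IsIntegral.isIntegral g
  refine ⟨p, hp, ?_⟩
  have key : ∀ q : R[X], ∀ n : N, ((aeval g q) n : L) = aeval x q * n := by
    intro q
    induction q using Polynomial.induction_on' with
    | add q1 q2 h1 h2 =>
      intro n
      rw [map_add, map_add, LinearMap.add_apply, Submodule.coe_add, h1, h2, add_mul]
    | monomial k r =>
      intro n
      rw [aeval_monomial, aeval_monomial]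
      induction k generalizing n with
      | zero => simp [Algebra.smul_def]
      | succ k ih =>
        rw [pow_succ, pow_succ, ← mul_assoc, ← mul_assoc, Module.End.mul_apply, ih]
        show _ * (x * n) = _
        ring
  have h2 := key p ⟨1, h1⟩
  rw [← aeval_def] at hpg
  rw [hpg] at h2
  rw [← aeval_def]
  simpa using h2.symm

/-- truncated module of powers -/
def powSpan (R : Type*) {L : Type*} [CommRing R] [CommRing L] [Algebra R L] (a : L) (N : ℕ) : Submodule R L :=
  Submodule.span R ((fun i : ℕ => a ^ i) '' (Finset.range (N + 1) : Set ℕ))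

lemma pow_mem_powSpan (a : L) {N i : ℕ} (hi : i ≤ N) : a ^ i ∈ powSpan R a N :=
  Submodule.subset_span ⟨i, by simpa using Nat.lt_succ_of_le hi, rfl⟩

lemma powSpan_fg (a : L) (N : ℕ) : (powSpan R a N).FG :=
  Submodule.fg_span ((Finset.range (N + 1)).finite_toSet.image _)

lemma aeval_mem_powSpan (a : L) (p : R[X]) {N : ℕ} (hp : p.natDegree ≤ N) :
    aeval a p ∈ powSpan R a N := by
  rw [aeval_eq_sum_range]
  refine Submodule.sum_mem _ fun i hi => ?_
  refine Submodule.smul_mem _ _ (pow_mem_powSpan a ?_)
  have := Finset.mem_range.mp hi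
  omega

lemma powSpan_le_adjoin (a : L) (N : ℕ) : powSpan R a N ≤ (Algebra.adjoin R {a}).toSubmodule := by
  refine Submodule.span_le.mpr ?_
  rintro _ ⟨k, -, rfl⟩
  exact pow_mem (Algebra.self_mem_adjoin_singleton R a) k

lemma pow_mul_pow_mem {a b : L} (hab : a * b = 1) {N i j : ℕ} (hi : i ≤ N) (hj : j ≤ N) :
    a ^ i * b ^ j ∈ powSpan R a N ⊔ powSpan R b N := by
  rcases le_total j i with h | h
  · have : a ^ i * b ^ j = a ^ (i - j) := by
      conv_lhs => rw [← Nat.sub_add_cancel h, pow_add, mul_assoc, ← mul_pow, hab, one_pow, mul_one]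
    rw [this]
    exact Submodule.mem_sup_left (pow_mem_powSpan a (by omega))
  · have : a ^ i * b ^ j = b ^ (j - i) := by
      conv_lhs => rw [← Nat.sub_add_cancel h, pow_add, ← mul_assoc, mul_comm (a ^ i), mul_assoc,
        mul_comm (a ^ i), ← mul_pow, mul_comm b a, hab, one_pow, mul_one]
    rw [this]
    exact Submodule.mem_sup_right (pow_mem_powSpan b (by omega))

lemma mul_powSpan_le {a b : L} (hab : a * b = 1) {N : ℕ} {α : L} (hα : α ∈ powSpan R b N) :
    ∀ n ∈ powSpan R a N, α * n ∈ powSpan R a N ⊔ powSpan R b N := by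
  intro n hn
  induction hn using Submodule.span_induction with
  | mem n hn =>
    obtain ⟨i, hi, rfl⟩ := hn
    have hi' : i ≤ N := by simpa [Nat.lt_succ_iff] using hi
    induction hα using Submodule.span_induction with
    | mem m hm =>
      obtain ⟨j, hj, rfl⟩ := hm
      have hj' : j ≤ N := by simpa [Nat.lt_succ_iff] using hj
      show b ^ j * a ^ i ∈ _
      rw [mul_comm]
      exact pow_mul_pow_mem hab hi' hj'
    | zero => simp
    | add x y _ _ hx hy => rw [add_mul]; exact Submodule.add_mem _ hx hy
    | smul r x _ hx => rw [smul_mul_assoc]; exact Submodule.smul_mem _ _ hx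
  | zero => simp
  | add x y _ _ hx hy => rw [mul_add]; exact Submodule.add_mem _ hx hy
  | smul r x _ hx => rw [mul_smul_comm]; exact Submodule.smul_mem _ _ hx

lemma isIntegral_of_mem_adjoin_inf {a b : L} (hab : a * b = 1) {α : L}
    (ha : α ∈ Algebra.adjoin R {a}) (hb : α ∈ Algebra.adjoin R {b}) : IsIntegral R α := by
  rw [Algebra.adjoin_singleton_eq_range_aeval] at ha hb
  obtain ⟨p, rfl⟩ := ha
  obtain ⟨q, hq⟩ := hb
  set N := max p.natDegree q.natDegree with hN
  have h1 : aeval a p ∈ powSpan R a N := aeval_mem_powSpan a p (le_max_left _ _)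
  have h2 : aeval a p ∈ powSpan R b N := by
    have : (aeval b) q = aeval a p := hq
    rw [← this]
    exact aeval_mem_powSpan b q (le_max_right _ _)
  have hba : b * a = 1 := mul_comm a b ▸ hab
  refine isIntegral_of_mul_mem (powSpan R a N ⊔ powSpan R b N)
    (Submodule.mem_sup_left (by simpa using pow_mem_powSpan (R := R) a (Nat.zero_le N)))
    ((powSpan_fg a N).sup (powSpan_fg b N)) _ ?_
  intro n hn
  obtain ⟨n1, hn1, n2, hn2, rfl⟩ := Submodule.mem_sup.mp hn
  rw [mul_add]
  refine Submodule.add_mem _ (mul_powSpan_le hab h2 n1 hn1) ?_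
  have := mul_powSpan_le hba h1 n2 hn2
  rwa [sup_comm] at this

lemma adjoin_sup_eq {a b : L} (hab : a * b = 1) :
    (Algebra.adjoin R {a}).toSubmodule ⊔ (Algebra.adjoin R {b}).toSubmodule =
      (Algebra.adjoin R {a, b}).toSubmodule := by
  apply le_antisymm
  · refine sup_le ?_ ?_
    · exact Algebra.adjoin_mono (R := R) (by simp)
    · exact Algebra.adjoin_mono (R := R) (by simp)
  · have : ({a, b} : Set L) = {a} ∪ {b} := Set.insert_eq a {b}
    rw [this, Algebra.adjoin_union_coe_submodule, Submodule.mul_le]
    intro u hu v hv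
    rw [Subalgebra.mem_toSubmodule, Algebra.adjoin_singleton_eq_range_aeval] at hu hv
    obtain ⟨p, rfl⟩ := hu
    obtain ⟨q, rfl⟩ := hv
    set N := max p.natDegree q.natDegree
    have h1 : aeval a p ∈ powSpan R a N := aeval_mem_powSpan a p (le_max_left _ _)
    have h2 : aeval b q ∈ powSpan R b N := aeval_mem_powSpan b q (le_max_right _ _)
    have h3 := mul_powSpan_le hab h2 _ h1
    rw [mul_comm] at h3
    exact (sup_le_sup (powSpan_le_adjoin a N) (powSpan_le_adjoin b N)) h3

lemma adjoin_inf_eq_bot {Lx : Type*} [CommRing Lx] [Algebra R Lx] [IsIntegrallyClosedIn R Lx]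
    (ι : Lx →ₐ[R] L) (hι : Function.Injective ι) {a b : L} (hab : a * b = 1) (hb : b ∈ ι.range) :
    (Algebra.adjoin R {a}).toSubmodule ⊓ (Algebra.adjoin R {b}).toSubmodule =
      (⊥ : Subalgebra R L).toSubmodule := by
  apply le_antisymm
  · rintro α ⟨h1, h2⟩
    have hint : IsIntegral R α := isIntegral_of_mem_adjoin_inf hab h1 h2
    have hα : α ∈ ι.range := Algebra.adjoin_le (by simpa using hb) h2
    obtain ⟨α', hα'⟩ := hα
    change ι α' = α at hα'
    subst hα'
    rw [isIntegral_algHom_iff ι hι] at hint
    obtain ⟨r, rfl⟩ := IsIntegrallyClosedIn.isIntegral_iff.mp hint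
    show ι (algebraMap R Lx r) ∈ (⊥ : Subalgebra R L)
    rw [AlgHom.commutes]
    exact Subalgebra.algebraMap_mem _ r
  · refine le_inf ?_ ?_ <;> exact (bot_le : (⊥ : Subalgebra R L) ≤ _)

end General

lemma exists_algHom_away {R : Type*} [CommRing R] (x z : R) (hz : z ∈ nonZeroDivisors R)
    (L : Type*) [CommRing L] [Algebra R L] (w : R) (hw : w = x * z) [IsLocalization.Away w L] :
    ∃ ι : Localization.Away x →ₐ[R] L, Function.Injective ι ∧
      ∀ (c : L) (r : R), algebraMap R L x * c = algebraMap R L r → c ∈ ι.range := by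
  have hwu : IsUnit (algebraMap R L w) := IsLocalization.Away.algebraMap_isUnit w
  have hxu : IsUnit (algebraMap R L x) := by
    rw [hw, map_mul] at hwu
    exact isUnit_of_mul_isUnit_left hwu
  have hf : ∀ y : Submonoid.powers x, IsUnit ((Algebra.ofId R L) y) := by
    rintro ⟨_, n, rfl⟩
    show IsUnit (algebraMap R L (x ^ n))
    rw [map_pow]
    exact hxu.pow n
  let ι : Localization.Away x →ₐ[R] L := IsLocalization.liftAlgHom (M := Submonoid.powers x) hf
  refine ⟨ι, ?_, ?_⟩
  · show Function.Injective (IsLocalization.lift hf)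
    rw [IsLocalization.lift_injective_iff]
    intro r r'
    constructor
    · intro h
      have := congr_arg ι h
      simpa using this
    · intro h
      change algebraMap R L r = algebraMap R L r' at h
      obtain ⟨⟨_, k, rfl⟩, hk⟩ := (IsLocalization.eq_iff_exists (Submonoid.powers w) L).mp h
      rw [IsLocalization.eq_iff_exists (Submonoid.powers x)]
      refine ⟨⟨x ^ k, k, rfl⟩, ?_⟩
      have hzk : z ^ k ∈ nonZeroDivisors R := pow_mem hz k
      have h2 : z ^ k * (x ^ k * r) = z ^ k * (x ^ k * r') := by
        have e1 : w ^ k * r = z ^ k * (x ^ k * r) := by rw [hw, mul_pow]; ring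
        have e2 : w ^ k * r' = z ^ k * (x ^ k * r') := by rw [hw, mul_pow]; ring
        rw [← e1, ← e2]
        exact hk
      exact (mul_cancel_left_mem_nonZeroDivisors hzk).mp h2
  · intro c r hc
    refine ⟨IsLocalization.mk' (Localization.Away x) r (⟨x, 1, pow_one x⟩ : Submonoid.powers x), ?_⟩
    apply hxu.mul_left_cancel
    rw [hc]
    have h1 := IsLocalization.mk'_spec (Localization.Away x) r (⟨x, 1, pow_one x⟩ : Submonoid.powers x)
    have h2 := congr_arg ι h1
    rw [map_mul, AlgHom.commutes, AlgHom.commutes] at h2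
    rw [mul_comm]
    exact h2


/-- Let R be a ring and x, y ∈ R nonzerodivisors. In the localization R_{xy} let a = x/y and b = y/x,
and let R[a], R[b], R[a, b] be the R-subalgebras they generate. If R is integrally closed in R_x or
in R_y, then the sequence 0 → R → R[a] ⊕ R[b] → R[a, b] → 0 (difference map, then sum map) is short
exact; equivalently R[a] ∩ R[b] is the image of R and R[a] + R[b] = R[a, b] inside R_{xy}. -/
theorem result {R : Type u} [CommRing R] (x y : R) (hx : x ∈ nonZeroDivisors R) (hy : y ∈ nonZeroDivisors R)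
    (hint : IsIntegrallyClosedIn R (Localization.Away x) ∨ IsIntegrallyClosedIn R (Localization.Away y)) :
    (Algebra.adjoin R {algebraMap R (Localization.Away (x * y)) (x * x) * IsLocalization.Away.invSelf (x * y)}).toSubmodule ⊓
        (Algebra.adjoin R {algebraMap R (Localization.Away (x * y)) (y * y) * IsLocalization.Away.invSelf (x * y)}).toSubmodule =
        (⊥ : Subalgebra R (Localization.Away (x * y))).toSubmodule ∧
      (Algebra.adjoin R {algebraMap R (Localization.Away (x * y)) (x * x) * IsLocalization.Away.invSelf (x * y)}).toSubmodule ⊔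
        (Algebra.adjoin R {algebraMap R (Localization.Away (x * y)) (y * y) * IsLocalization.Away.invSelf (x * y)}).toSubmodule =
        (Algebra.adjoin R {algebraMap R (Localization.Away (x * y)) (x * x) * IsLocalization.Away.invSelf (x * y), algebraMap R (Localization.Away (x * y)) (y * y) * IsLocalization.Away.invSelf (x * y)}).toSubmodule := by
  set L := Localization.Away (x * y)
  set inv : L := IsLocalization.Away.invSelf (x * y)
  set a := algebraMap R L (x * x) * inv
  set b := algebraMap R L (y * y) * inv
  have hinv : algebraMap R L (x * y) * inv = 1 := IsLocalization.Away.mul_invSelf _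
  have hab : a * b = 1 := by
    calc a * b = (algebraMap R L (x * y) * inv) * (algebraMap R L (x * y) * inv) := by
          simp only [a, b, map_mul]; ring
      _ = 1 := by rw [hinv, one_mul]
  have hxb : algebraMap R L x * b = algebraMap R L y := by
    calc algebraMap R L x * b = algebraMap R L y * (algebraMap R L (x * y) * inv) := by
          simp only [b, map_mul]; ring
      _ = algebraMap R L y := by rw [hinv, mul_one]
  have hya : algebraMap R L y * a = algebraMap R L x := by
    calc algebraMap R L y * a = algebraMap R L x * (algebraMap R L (x * y) * inv) := by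
          simp only [a, map_mul]; ring
      _ = algebraMap R L x := by rw [hinv, mul_one]
  refine ⟨?_, adjoin_sup_eq hab⟩
  rcases hint with h | h
  · obtain ⟨ι, hι, hr⟩ := exists_algHom_away x y hy L (x * y) rfl
    exact adjoin_inf_eq_bot ι hι hab (hr b y hxb)
  · obtain ⟨ι, hι, hr⟩ := exists_algHom_away y x hx L (x * y) (mul_comm x y)
    rw [inf_comm]
    exact adjoin_inf_eq_bot ι hι (mul_comm a b ▸ hab) (hr a x hya)

end Groth.Agent.S9654
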