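import Groth.Statements.S9655
import Mathlib.RingTheory.Valuation.LocalSubring
import Mathlib.RingTheory.LocalRing.ResidueField.Basic

set_option autoImplicit false
universe u
open CAlg

namespace Groth.Agent.S9655


/-- Let R and S be local rings and R → S a ring map, not necessarily local, that is essentially of
finite type. Then for some n there is a maximal ideal m of the polynomial ring R[x_1, …, x_n] lying
over the maximal ideal of R, together with an R-algebra map φ : R[x_1, …, x_n]_m → S making S a
localization of the image of φ; thus S arises from R[x_1, …, x_n]_m by passing to a quotient and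
then localizing. -/
theorem result {R S : Type u} [CommRing R] [CommRing S] [Algebra R S] [IsLocalRing R] [IsLocalRing S] [Algebra.EssFiniteType R S] :
    ∃ (n : ℕ) (m : Ideal (MvPolynomial (Fin n) R)) (_ : m.IsMaximal), m.under R = IsLocalRing.maximalIdeal R ∧
      ∃ (φ : Localization.AtPrime m →ₐ[R] S) (T : Submonoid φ.range), IsLocalization T S := by
  classical
  obtain ⟨σ, hσ⟩ := (Algebra.essFiniteType_iff R S).mp ‹Algebra.EssFiniteType R S›
  let κ := IsLocalRing.ResidueField S
  let res : S →+* κ := IsLocalRing.residue S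
  let f : R →+* κ := res.comp (algebraMap R S)
  obtain ⟨A, hA, hloc⟩ := IsLocalRing.exists_factor_valuationRing f
  have hres0 : ∀ b : S, ¬ IsUnit b → res b = 0 := fun b hb =>
    (IsLocalRing.residue_eq_zero_iff b).mpr hb
  have hunit_of : ∀ b : S, res b ∉ A → IsUnit b := by
    intro b h
    by_contra hb
    apply h
    rw [hres0 b hb]
    exact A.zero_mem
  -- modified generators
  let c : S → S := fun b => if res b ∈ A then b else Ring.inverse b
  have hc : ∀ b, res (c b) ∈ A := by
    intro b
    by_cases h : res b ∈ A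
    · simpa [c, h] using h
    · simp only [c, h, if_false]
      obtain ⟨u, rfl⟩ := hunit_of b h
      rw [Ring.inverse_unit]
      have h1 : res ↑u * res ↑u⁻¹ = 1 := by rw [← map_mul, Units.mul_inv, map_one]
      have h2 : res ↑u⁻¹ = (res ↑u)⁻¹ := eq_inv_of_mul_eq_one_right h1
      rw [h2]
      exact (A.mem_or_inv_mem (res u)).resolve_left h
  let e := σ.equivFin
  let n := σ.card
  let gen : Fin n → S := fun i => c (e.symm i : S)
  let ψ : MvPolynomial (Fin n) R →ₐ[R] S := MvPolynomial.aeval gen
  have hψA : ∀ p, (res.comp ψ.toRingHom) p ∈ A.toSubring := by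
    intro p
    induction p using MvPolynomial.induction_on with
    | C r =>
      have : (res.comp ψ.toRingHom) (MvPolynomial.C r) = f r := by simp [ψ, f]
      rw [this]
      exact hA r
    | add p q hp hq =>
      rw [map_add]
      exact A.add_mem _ _ hp hq
    | mul_X p i hp =>
      rw [map_mul]
      refine A.mul_mem _ _ hp ?_
      have : (res.comp ψ.toRingHom) (MvPolynomial.X i) = res (gen i) := by simp [ψ]
      rw [this]
      exact hc _
  let ψA : MvPolynomial (Fin n) R →+* A := (res.comp ψ.toRingHom).codRestrict A.toSubring hψA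
  let P₀ : Ideal (MvPolynomial (Fin n) R) := (IsLocalRing.maximalIdeal A).comap ψA
  have hP₀ : P₀ ≠ ⊤ := Ideal.comap_ne_top _ (IsLocalRing.maximalIdeal.isMaximal A).ne_top
  obtain ⟨m, hm, hPm⟩ := Ideal.exists_le_maximal P₀ hP₀
  have hunder : m.under R = IsLocalRing.maximalIdeal R := by
    symm
    apply (IsLocalRing.maximalIdeal.isMaximal R).eq_of_le
    · intro h
      apply hm.ne_top
      rw [Ideal.eq_top_iff_one]
      have : (1 : R) ∈ m.under R := h ▸ Submodule.mem_top
      simpa [Ideal.under_def] using this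
    · intro r hr
      show algebraMap R _ r ∈ m
      apply hPm
      show ψA (MvPolynomial.C r) ∈ IsLocalRing.maximalIdeal A
      rw [IsLocalRing.mem_maximalIdeal, mem_nonunits_iff]
      intro hu
      have h1 : ψA (MvPolynomial.C r) = f.codRestrict A.toSubring hA r := by
        apply Subtype.ext
        simp [ψA, ψ, f]
      rw [h1] at hu
      exact hr (hloc.map_nonunit r hu)
  have hunit : ∀ y : m.primeCompl, IsUnit (ψ y) := by
    rintro ⟨g, hg⟩
    have h1 : g ∉ P₀ := fun h => hg (hPm h)
    have h2 : IsUnit (ψA g) := by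
      by_contra h
      exact h1 ((IsLocalRing.mem_maximalIdeal _).mpr h)
    have h3 : res (ψ g) ≠ 0 := by
      intro h0
      have h4 : ψA g = 0 := Subtype.ext h0
      rw [h4] at h2
      exact not_isUnit_zero h2
    by_contra hnu
    exact h3 (hres0 _ hnu)
  let φ : Localization.AtPrime m →ₐ[R] S :=
    IsLocalization.liftAlgHom (M := m.primeCompl) (f := ψ) hunit
  have hrange : ∀ p, ψ p ∈ φ.range := fun p => ⟨algebraMap _ _ p, by simp [φ]⟩
  let T : Submonoid φ.range := (IsUnit.submonoid S).comap (algebraMap φ.range S)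
  refine ⟨n, m, hm, hunder, φ, T, ?_⟩
  have key : ∀ β ∈ Algebra.adjoin R (σ : Set S), ∃ t ∈ φ.range, IsUnit t ∧ t * β ∈ φ.range := by
    intro β hβ
    induction hβ using Algebra.adjoin_induction with
    | mem b hb =>
      have hgen : c b ∈ φ.range := by
        have := hrange (MvPolynomial.X (e ⟨b, hb⟩))
        simpa [ψ, gen] using this
      by_cases h : res b ∈ A
      · refine ⟨1, one_mem _, isUnit_one, ?_⟩
        simpa [c, h] using hgen
      · have hb' : IsUnit b := hunit_of b h
        refine ⟨c b, hgen, ?_, ?_⟩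
        · simp only [c, h, if_false]
          exact hb'.ringInverse
        · simp only [c, h, if_false, Ring.inverse_mul_cancel _ hb']
          exact one_mem _
    | algebraMap r =>
      exact ⟨1, one_mem _, isUnit_one, by simpa using φ.range.algebraMap_mem r⟩
    | add x y _ _ hx hy =>
      obtain ⟨t1, ht1, hu1, h1⟩ := hx
      obtain ⟨t2, ht2, hu2, h2⟩ := hy
      refine ⟨t1 * t2, mul_mem ht1 ht2, hu1.mul hu2, ?_⟩
      have : t1 * t2 * (x + y) = t2 * (t1 * x) + t1 * (t2 * y) := by ring
      rw [this]
      exact add_mem (mul_mem ht2 h1) (mul_mem ht1 h2)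
    | mul x y _ _ hx hy =>
      obtain ⟨t1, ht1, hu1, h1⟩ := hx
      obtain ⟨t2, ht2, hu2, h2⟩ := hy
      refine ⟨t1 * t2, mul_mem ht1 ht2, hu1.mul hu2, ?_⟩
      have : t1 * t2 * (x * y) = (t1 * x) * (t2 * y) := by ring
      rw [this]
      exact mul_mem h1 h2
  constructor; constructor
  · exact fun y ↦ y.prop
  · intro s
    obtain ⟨u, hu, huu, hsu⟩ := hσ s
    obtain ⟨t1, ht1, hu1, h1⟩ := key u hu
    obtain ⟨t2, ht2, hu2, h2⟩ := key (s * u) hsu
    refine ⟨⟨⟨t1 * (t2 * (s * u)), mul_mem ht1 h2⟩, ⟨⟨t2 * (t1 * u), mul_mem ht2 h1⟩, ?_⟩⟩, ?_⟩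
    · exact hu2.mul (hu1.mul huu)
    · show s * (t2 * (t1 * u)) = t1 * (t2 * (s * u))
      ring
  · intro x y e
    exact ⟨1, by simpa using Subtype.ext e⟩

end Groth.Agent.S9655
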