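import Groth.Statements.S9656
import Mathlib.Algebra.Polynomial.Monic
import Mathlib.Algebra.Polynomial.Eval.Coeff
import Mathlib.Algebra.Polynomial.Degree.Lemmas

set_option autoImplicit false
universe u
open CAlg

namespace Groth.Agent.S9656

open Polynomial

/-- Let R_i → S_i be ring maps indexed by a finite type ι, with product map R = Π R_i → S = Π S_i. Then
an element (s_i) of S is integral over R exactly when s_i is integral over R_i for every i; so
integral closure in a finite product is computed factor by factor. -/
theorem result {ι : Type u} [Fintype ι] {R S : ι → Type u} [∀ i, CommRing (R i)] [∀ i, CommRing (S i)] (f : ∀ i, R i →+* S i) (s : ∀ i, S i) :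
    (RingHom.pi fun i => (f i).comp (Pi.evalRingHom R i)).IsIntegralElem s ↔ ∀ i, (f i).IsIntegralElem (s i) := by
  classical
  set F := RingHom.pi fun i => (f i).comp (Pi.evalRingHom R i) with hF
  have hcomp (i : ι) : (Pi.evalRingHom S i).comp F = (f i).comp (Pi.evalRingHom R i) := rfl
  have key (P : (∀ i, R i)[X]) (i : ι) :
      (P.eval₂ F s) i = (P.map (Pi.evalRingHom R i)).eval₂ (f i) (s i) := by
    rw [Polynomial.eval₂_map, ← hcomp]
    exact Polynomial.hom_eval₂ P F (Pi.evalRingHom S i) s
  constructor
  · rintro ⟨P, hP, hPs⟩ i
    refine ⟨P.map (Pi.evalRingHom R i), hP.map _, ?_⟩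
    rw [← key, hPs]
    rfl
  · intro h
    choose p hp hps using h
    let N : ℕ := Finset.univ.sup fun i => (p i).natDegree
    have hN (i : ι) : (p i).natDegree ≤ N := Finset.le_sup (f := fun i => (p i).natDegree) (Finset.mem_univ i)
    let q : ∀ i, (R i)[X] := fun i => p i * X ^ (N - (p i).natDegree)
    have hqm (i : ι) : (q i).Monic := (hp i).mul (monic_X_pow _)
    have hqdeg (i : ι) : (q i).natDegree ≤ N := by
      refine (Polynomial.natDegree_mul_le).trans ?_
      refine (add_le_add le_rfl (natDegree_X_pow_le _)).trans ?_
      have := hN i
      omega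
    have hqN (i : ι) : (q i).coeff N = 1 := by
      have := (hqm i)
      by_cases ht : Nontrivial (R i)
      · have hd : (q i).natDegree = N := by
          rw [(hp i).natDegree_mul (monic_X_pow _), natDegree_X_pow]
          have := hN i
          omega
        rw [← hd]
        exact this
      · rw [not_nontrivial_iff_subsingleton] at ht
        exact Subsingleton.elim _ _
    let P : (∀ i, R i)[X] := ∑ k ∈ Finset.range (N + 1), C (fun i => (q i).coeff k) * X ^ k
    have hPcoeff (k : ℕ) (i : ι) : (P.coeff k) i = (q i).coeff k := by
      simp only [P, Polynomial.finsetSum_coeff, Polynomial.coeff_C_mul_X_pow]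
      rw [Finset.sum_apply]
      by_cases hk : k ∈ Finset.range (N + 1)
      · rw [Finset.sum_eq_single k]
        · simp
        · intro b _ hb
          simp [Ne.symm hb]
        · intro h; exact absurd hk h
      · rw [Finset.sum_eq_zero]
        · rw [Polynomial.coeff_eq_zero_of_natDegree_lt]
          have := hqdeg i
          simp at hk
          omega
        · intro b hb
          have : k ≠ b := fun h => hk (h ▸ hb)
          simp [this]
    have hPmap (i : ι) : P.map (Pi.evalRingHom R i) = q i := by
      ext k
      rw [Polynomial.coeff_map]
      exact hPcoeff k i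
    refine ⟨P, ?_, ?_⟩
    · apply Polynomial.monic_of_natDegree_le_of_coeff_eq_one N
      · refine Polynomial.natDegree_sum_le_of_forall_le _ _ fun k hk => ?_
        refine (Polynomial.natDegree_C_mul_X_pow_le _ _).trans ?_
        simp at hk
        omega
      · ext i
        rw [hPcoeff, hqN]
        rfl
    · ext i
      rw [key, hPmap]
      simp only [q, Polynomial.eval₂_mul, hps i, zero_mul]
      rfl

end Groth.Agent.S9656
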