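import Groth.Statements.S9658
import Mathlib.RingTheory.Ideal.Basic
import Mathlib.RingTheory.Ideal.Operations
import Mathlib.LinearAlgebra.Span.Basic

set_option autoImplicit false
universe u
open CAlg

namespace Groth.Agent.S9658

lemma exists_sum_pow_eq_one {R : Type u} [CommRing R] {ι : Type u} [Fintype ι] (f : ι → R)
    (hf : Ideal.span (Set.range f) = ⊤) (n : ℕ) : ∃ a : ι → R, ∑ i, a i * f i ^ n = 1 := by
  have h := Ideal.span_pow_eq_top _ hf n
  rw [← Set.range_comp] at h
  have h1 : (1 : R) ∈ Ideal.span (Set.range ((fun x : R => x ^ n) ∘ f)) := h ▸ Submodule.mem_top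
  obtain ⟨a, ha⟩ := Ideal.mem_span_range_iff_exists_fun.mp h1
  exact ⟨a, ha⟩


/-- Let R be a ring, f_1, …, f_n ∈ R generating the unit ideal and M an R-module. With M_i = M_{f_i},
M_ij = M_{f_i f_j} (any localizations, with the canonical compatible maps M → M_i → M_ij), the
sequence 0 → M → ⊕ M_i → ⊕ M_ij is exact: an element of M whose image vanishes in every M_i is zero,
and every family (m_i ∈ M_i) such that m_i and m_j have the same image in M_ij for all i, j is the
image of an element of M. -/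
theorem result {R : Type u} [CommRing R] {ι : Type u} [Fintype ι] (f : ι → R) (hf : Ideal.span (Set.range f) = ⊤)
    (M : Type u) [AddCommGroup M] [Module R M]
    (Mi : ι → Type u) [∀ i, AddCommGroup (Mi i)] [∀ i, Module R (Mi i)] (g : ∀ i, M →ₗ[R] Mi i) [∀ i, IsLocalizedModule (Submonoid.powers (f i)) (g i)]
    (Mij : ι → ι → Type u) [∀ i j, AddCommGroup (Mij i j)] [∀ i j, Module R (Mij i j)] (gij : ∀ i j, M →ₗ[R] Mij i j) [∀ i j, IsLocalizedModule (Submonoid.powers (f i * f j)) (gij i j)]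
    (ρ₁ : ∀ i j, Mi i →ₗ[R] Mij i j) (hρ₁ : ∀ i j, ρ₁ i j ∘ₗ g i = gij i j) (ρ₂ : ∀ i j, Mi j →ₗ[R] Mij i j) (hρ₂ : ∀ i j, ρ₂ i j ∘ₗ g j = gij i j) :
    (∀ m : M, (∀ i, g i m = 0) → m = 0) ∧
      ∀ s : ∀ i, Mi i, (∀ i j, ρ₁ i j (s i) = ρ₂ i j (s j)) → ∃ m : M, ∀ i, g i m = s i := by
  classical
  -- general fact: elements killed by uniform powers
  have hzero : ∀ m : M, (∀ i, g i m = 0) → m = 0 := by
    intro m hm
    have h1 : ∀ i, ∃ n : ℕ, f i ^ n • m = 0 := by
      intro i
      obtain ⟨⟨_, n, rfl⟩, hn⟩ := (IsLocalizedModule.eq_zero_iff (Submonoid.powers (f i)) (g i)).mp (hm i)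
      exact ⟨n, hn⟩
    choose n hn using h1
    let N := Finset.univ.sup n
    have hN : ∀ i, f i ^ N • m = 0 := by
      intro i
      have : n i ≤ N := Finset.le_sup (Finset.mem_univ i)
      rw [← Nat.sub_add_cancel this, pow_add, mul_smul, hn i, smul_zero]
    obtain ⟨a, ha⟩ := exists_sum_pow_eq_one f hf N
    calc m = (1 : R) • m := (one_smul _ _).symm
      _ = ∑ i, (a i * f i ^ N) • m := by rw [← ha, Finset.sum_smul]
      _ = 0 := Finset.sum_eq_zero fun i _ => by rw [mul_smul, hN i, smul_zero]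
  refine ⟨hzero, ?_⟩
  intro s hs
  -- uniform denominators
  have h1 : ∀ i, ∃ (n : ℕ) (m : M), f i ^ n • s i = g i m := by
    intro i
    obtain ⟨⟨m, ⟨_, n, rfl⟩⟩, hm⟩ := IsLocalizedModule.surj (Submonoid.powers (f i)) (g i) (s i)
    exact ⟨n, m, hm⟩
  choose n m₀ hn using h1
  let N := Finset.univ.sup n
  have h2 : ∀ i, ∃ m : M, f i ^ N • s i = g i m := by
    intro i
    have : n i ≤ N := Finset.le_sup (Finset.mem_univ i)
    refine ⟨f i ^ (N - n i) • m₀ i, ?_⟩
    rw [map_smul, ← hn i, ← mul_smul, ← pow_add, Nat.sub_add_cancel this]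
  choose m hm using h2
  -- relation on overlaps
  have h3 : ∀ i j, ∃ k : ℕ, (f i * f j) ^ k • (f j ^ N • m i - f i ^ N • m j) = 0 := by
    intro i j
    have : gij i j (f j ^ N • m i - f i ^ N • m j) = 0 := by
      rw [map_sub, map_smul, map_smul]
      nth_rw 1 [← hρ₁ i j]
      rw [← hρ₂ i j, LinearMap.comp_apply, LinearMap.comp_apply, ← hm i, ← hm j, map_smul, map_smul,
        hs i j, smul_comm, sub_self]
    obtain ⟨⟨_, k, rfl⟩, hk⟩ :=
      (IsLocalizedModule.eq_zero_iff (Submonoid.powers (f i * f j)) (gij i j)).mp this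
    exact ⟨k, hk⟩
  choose k hk using h3
  let K := Finset.univ.sup fun p : ι × ι => k p.1 p.2
  have hK : ∀ i j, (f i * f j) ^ K • (f j ^ N • m i) = (f i * f j) ^ K • (f i ^ N • m j) := by
    intro i j
    have : k i j ≤ K := Finset.le_sup (f := fun p : ι × ι => k p.1 p.2) (Finset.mem_univ (i, j))
    rw [← sub_eq_zero, ← smul_sub, ← Nat.sub_add_cancel this, pow_add, mul_smul, hk i j, smul_zero]
  obtain ⟨a, ha⟩ := exists_sum_pow_eq_one f hf (N + K)
  refine ⟨∑ i, (a i * f i ^ K) • m i, fun j => ?_⟩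
  have hinj := IsLocalizedModule.smul_injective (g j) (⟨f j ^ (N + K), N + K, rfl⟩ : Submonoid.powers (f j))
  apply hinj
  show f j ^ (N + K) • g j (∑ i, (a i * f i ^ K) • m i) = f j ^ (N + K) • s j
  rw [← map_smul, Finset.smul_sum]
  have h4 : ∀ i, f j ^ (N + K) • (a i * f i ^ K) • m i = (a i * f i ^ (N + K)) • (f j ^ K • m j) := by
    intro i
    calc f j ^ (N + K) • (a i * f i ^ K) • m i
        = a i • ((f i * f j) ^ K • (f j ^ N • m i)) := by
          simp only [← mul_smul]; congr 1; ring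
      _ = a i • ((f i * f j) ^ K • (f i ^ N • m j)) := by rw [hK i j]
      _ = (a i * f i ^ (N + K)) • (f j ^ K • m j) := by
          simp only [← mul_smul]; congr 1; ring
  rw [Finset.sum_congr rfl fun i _ => h4 i, ← Finset.sum_smul, ha, one_smul, map_smul, ← hm j,
    ← mul_smul, ← pow_add, add_comm]

end Groth.Agent.S9658
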