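import Groth.Statements.S9659
import Mathlib.RingTheory.GradedAlgebra.Radical
import Mathlib.RingTheory.GradedAlgebra.Basic
import Mathlib.Topology.Bases
import Mathlib.RingTheory.Ideal.Maps

set_option autoImplicit false
universe u
open CAlg

namespace Groth.Agent.S9659

open DirectSum

section
variable {R S : Type u} [CommRing R] [CommRing S] [Algebra R S] (𝒜 : ℤ → Submodule R S) [GradedAlgebra 𝒜]

lemma exists_inv_mem {f : S} {d : ℤ} (hf : f ∈ 𝒜 d) (hu : IsUnit f) :
    ∃ v ∈ 𝒜 (-d), f * v = 1 := by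
  obtain ⟨u, hu⟩ := hu.exists_right_inv
  refine ⟨decompose 𝒜 u (-d), SetLike.coe_mem _, ?_⟩
  have h1 := coe_decompose_mul_add_of_left_mem 𝒜 (j := -d) (b := u) hf
  rw [hu, add_neg_cancel, decompose_one] at h1
  rw [← h1]
  rfl

/-- degree-zero normalisation of a homogeneous element -/
def nrm (f v : S) (D : ℕ) (x : S) (n : ℤ) : S := x ^ D * v ^ n.toNat * f ^ (-n).toNat

lemma nrm_mem {f v : S} {d : ℤ} (hd : 0 < d) (hf : f ∈ 𝒜 d) (hv : v ∈ 𝒜 (-d)) {x : S} {n : ℤ}
    (hx : x ∈ 𝒜 n) : nrm f v d.toNat x n ∈ 𝒜 0 := by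
  have h1 : x ^ d.toNat ∈ 𝒜 (d.toNat • n) := SetLike.pow_mem_graded _ hx
  have h2 : v ^ n.toNat ∈ 𝒜 (n.toNat • (-d)) := SetLike.pow_mem_graded _ hv
  have h3 : f ^ (-n).toNat ∈ 𝒜 ((-n).toNat • d) := SetLike.pow_mem_graded _ hf
  have h4 := SetLike.mul_mem_graded (SetLike.mul_mem_graded h1 h2) h3
  have : d.toNat • n + n.toNat • (-d) + (-n).toNat • d = 0 := by
    have e1 : (d.toNat : ℤ) = d := Int.toNat_of_nonneg hd.le
    have e2 : (n.toNat : ℤ) - ((-n).toNat : ℤ) = n := Int.toNat_sub_toNat_neg n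
    simp only [nsmul_eq_mul, e1]
    linear_combination (-d) * e2
  rw [this] at h4
  exact h4

lemma nrm_mem_iff {f v : S} (hfv : f * v = 1) {D : ℕ} (hD : 0 < D) (P : Ideal S) [P.IsPrime]
    (x : S) (n : ℤ) : nrm f v D x n ∈ P ↔ x ∈ P := by
  have hf : IsUnit f := IsUnit.of_mul_eq_one _ hfv
  have hv : IsUnit v := IsUnit.of_mul_eq_one _ (mul_comm f v ▸ hfv)
  unfold nrm
  rw [mul_assoc, Ideal.mul_unit_mem_iff_mem P ((hv.pow _).mul (hf.pow _))]
  exact ⟨fun h => Ideal.IsPrime.mem_of_pow_mem inferInstance _ h, fun h => Ideal.pow_mem_of_mem _ h _ hD⟩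

end


/-- Let S be a ℤ-graded ring which contains an invertible homogeneous element of positive degree. Then
the set of homogeneous prime ideals of S, with the topology induced from Spec(S), maps
homeomorphically onto Spec(S₀) by p ↦ p ∩ S₀. -/
theorem result {R S : Type u} [CommRing R] [CommRing S] [Algebra R S] (𝒜 : ℤ → Submodule R S) [GradedAlgebra 𝒜]
    (f : S) (d : ℤ) (hd : 0 < d) (hf : f ∈ 𝒜 d) (hu : IsUnit f) :
    IsHomeomorph (fun p : {p : PrimeSpectrum S // p.asIdeal.IsHomogeneous 𝒜} => PrimeSpectrum.comap (SetLike.GradeZero.subring 𝒜).subtype p.1) := by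
  classical
  obtain ⟨v, hv, hfv⟩ := exists_inv_mem 𝒜 hf hu
  set e := (SetLike.GradeZero.subring 𝒜).subtype with he
  have hD : 0 < d.toNat := by omega
  -- the normalisation as element of S₀
  let y : S → ℤ → SetLike.GradeZero.subring 𝒜 := fun x n =>
    ⟨nrm f v d.toNat (decompose 𝒜 x n) n, nrm_mem 𝒜 hd hf hv (SetLike.coe_mem _)⟩
  have hy (P : Ideal S) [P.IsPrime] (x : S) (n : ℤ) : y x n ∈ P.comap e ↔ (decompose 𝒜 x n : S) ∈ P :=
    nrm_mem_iff hfv hD P _ n
  set φ := (fun p : {p : PrimeSpectrum S // p.asIdeal.IsHomogeneous 𝒜} => PrimeSpectrum.comap e p.1) with hφ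
  have hmem (p : {p : PrimeSpectrum S // p.asIdeal.IsHomogeneous 𝒜}) (x : S) :
      x ∈ p.1.asIdeal ↔ ∀ n, y x n ∈ (φ p).asIdeal := by
    rw [p.2.mem_iff]
    exact forall_congr' fun n => (hy p.1.asIdeal x n).symm
  have hinj : Function.Injective φ := by
    intro p p' hpp'
    apply Subtype.ext
    apply PrimeSpectrum.ext
    ext x
    rw [hmem, hmem, hpp']
  have hsurj : Function.Surjective φ := by
    intro q
    have hq : (q.asIdeal.map e).comap e = q.asIdeal := by
      refine le_antisymm ?_ Ideal.le_comap_map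
      intro x hx
      have hx' : e x ∈ q.asIdeal.map e := hx
      have key : ∀ z ∈ q.asIdeal.map e, ∀ s : S,
          (⟨decompose 𝒜 (s * z) 0, SetLike.coe_mem _⟩ : SetLike.GradeZero.subring 𝒜) ∈ q.asIdeal := by
        intro z hz
        refine Submodule.span_induction ?_ ?_ ?_ ?_ hz
        · rintro _ ⟨t, ht, rfl⟩ s
          have : (⟨decompose 𝒜 (s * e t) 0, SetLike.coe_mem _⟩ : SetLike.GradeZero.subring 𝒜) =
              ⟨decompose 𝒜 s 0, SetLike.coe_mem _⟩ * t := by
            apply Subtype.ext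
            exact coe_decompose_mul_of_right_mem_zero 𝒜 t.2
          rw [this]
          exact Ideal.mul_mem_left _ _ ht
        · intro s
          simp only [mul_zero, decompose_zero, DirectSum.zero_apply]
          exact q.asIdeal.zero_mem
        · intro a b _ _ ha hb s
          have : (⟨decompose 𝒜 (s * (a + b)) 0, SetLike.coe_mem _⟩ : SetLike.GradeZero.subring 𝒜) =
              ⟨decompose 𝒜 (s * a) 0, SetLike.coe_mem _⟩ + ⟨decompose 𝒜 (s * b) 0, SetLike.coe_mem _⟩ := by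
            apply Subtype.ext
            show ((decompose 𝒜 (s * (a + b)) 0 : 𝒜 0) : S) =
              (decompose 𝒜 (s * a) 0 : 𝒜 0) + (decompose 𝒜 (s * b) 0 : 𝒜 0)
            rw [mul_add, decompose_add, DirectSum.add_apply]
            rfl
          rw [this]
          exact Ideal.add_mem _ (ha s) (hb s)
        · intro a b _ hb s
          rw [smul_eq_mul, ← mul_assoc]
          exact hb (s * a)
      have h1 := key _ hx' 1
      have : (⟨decompose 𝒜 (1 * e x) 0, SetLike.coe_mem _⟩ : SetLike.GradeZero.subring 𝒜) = x := by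
        apply Subtype.ext
        rw [one_mul]
        exact decompose_of_mem_same 𝒜 x.2
      rwa [this] at h1
    obtain ⟨P, hP, hPq⟩ := (Ideal.comap_map_eq_self_iff_of_isPrime q.asIdeal).mp hq
    have hcore : (P.homogeneousCore 𝒜).toIdeal.IsPrime := hP.homogeneousCore
    refine ⟨⟨⟨(P.homogeneousCore 𝒜).toIdeal, hcore⟩, (P.homogeneousCore 𝒜).isHomogeneous⟩, ?_⟩
    apply PrimeSpectrum.ext
    show ((P.homogeneousCore 𝒜).toIdeal).comap e = q.asIdeal
    rw [← hPq]
    ext t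
    simp only [Ideal.mem_comap]
    exact ⟨fun h => Ideal.toIdeal_homogeneousCore_le 𝒜 P h,
      fun h => Ideal.mem_homogeneousCore_of_homogeneous_of_mem ⟨0, t.2⟩ h⟩
  refine ⟨(PrimeSpectrum.continuous_comap e).comp continuous_subtype_val, ?_, hinj, hsurj⟩
  have hB := (PrimeSpectrum.isTopologicalBasis_basic_opens (R := S)).induced
    (Subtype.val : {p : PrimeSpectrum S // p.asIdeal.IsHomogeneous 𝒜} → PrimeSpectrum S)
  rw [hB.isOpenMap_iff]
  rintro _ ⟨_, ⟨g, rfl⟩, rfl⟩
  rw [isOpen_iff_forall_mem_open]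
  rintro _ ⟨p, hp, rfl⟩
  have hp' : g ∉ p.1.asIdeal := hp
  rw [hmem] at hp'
  push Not at hp'
  obtain ⟨n, hn⟩ := hp'
  refine ⟨(PrimeSpectrum.basicOpen (y g n) : Set _), ?_, (PrimeSpectrum.basicOpen (y g n)).2, hn⟩
  intro q hq
  obtain ⟨p', rfl⟩ := hsurj q
  refine ⟨p', ?_, rfl⟩
  show g ∉ p'.1.asIdeal
  rw [hmem]
  push Not
  exact ⟨n, hq⟩

end Groth.Agent.S9659
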