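import Groth.Statements.S9671
-- import your own Groth.Agent.* helpers here
import Mathlib
import Groth.Agent.Lib.Helper12.GrProjOld4

set_option autoImplicit false
universe u
open CAlg

namespace Groth.Agent.S9671

/-- Let R be a ring and R' an R-algebra of finite type. Then there are an ℕ-graded R-algebra S such that
R → S₀ is bijective and S is generated as an R-algebra by a finite set of degree-1 elements, an
element f ∈ S₁, and a ring isomorphism e between the degree-zero part S_(f) of the localization S_f
and R' which matches r/1 with the image of r in R' for every r ∈ R (so R' is identified with S_(f)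
as an R-algebra). The published statement also produces, from a finite R'-module, a finite graded
S-module whose degree-zero localization at f recovers it; that half is not part of this row. -/
theorem result (R R' : Type u) [CommRing R] [CommRing R'] [Algebra R R'] [Algebra.FiniteType R R'] :
    ∃ (S : Type u) (_ : CommRing S) (_ : Algebra R S) (𝒜 : ℕ → Submodule R S) (_ : GradedAlgebra 𝒜) (f : S) (_ : f ∈ 𝒜 1) (s : Finset S)
      (e : HomogeneousLocalization.Away 𝒜 f ≃+* R'),
      Function.Injective (algebraMap R S) ∧ (∀ x ∈ 𝒜 0, x ∈ Set.range (algebraMap R S)) ∧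
      (↑s ⊆ (𝒜 1 : Set S)) ∧ Algebra.adjoin R (s : Set S) = ⊤ ∧
      ∀ r : R, (e.symm (algebraMap R R' r)).val = algebraMap S (Localization.Away f) (algebraMap R S r) := by
  classical
  obtain ⟨n, φ, hφ⟩ := (Algebra.FiniteType.iff_quotient_mvPolynomial'' (R := R) (S := R')).1 inferInstance
  exact ⟨Groth.Agent.Lib.Helper12.GrProj.S φ, inferInstance, inferInstance,
    Groth.Agent.Lib.Helper12.GrProj.𝒜 (Groth.Agent.Lib.Helper12.GrProj.J φ),
    Groth.Agent.Lib.Helper12.GrProj.instGA φ,
    Groth.Agent.Lib.Helper12.GrProj.f φ,
    Groth.Agent.Lib.Helper12.GrProj.f_mem φ,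
    Groth.Agent.Lib.Helper12.GrProj.s φ,
    Groth.Agent.Lib.Helper12.GrProj.e φ hφ,
    Groth.Agent.Lib.Helper12.GrProj.algebraMap_injective φ,
    Groth.Agent.Lib.Helper12.GrProj.mem_zero φ,
    Groth.Agent.Lib.Helper12.GrProj.s_sub φ,
    Groth.Agent.Lib.Helper12.GrProj.adjoin_s φ,
    Groth.Agent.Lib.Helper12.GrProj.e_symm_val φ hφ⟩

end Groth.Agent.S9671
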