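import Groth.Statements.S9682
import Mathlib.AlgebraicGeometry.Artinian
import Groth.Agent.Lib.Helper5.TopDim

set_option autoImplicit false
universe u
open CategoryTheory CategoryTheory.Limits AlgebraicGeometry
open Mor

namespace Groth.Agent.S9682

/-- In a quasi-sober space, `x` is the generic point of an irreducible component iff it has no
proper generizations. -/
lemma mem_genericPoints_iff {α : Type*} [TopologicalSpace α] [QuasiSober α] (x : α) :
    closure {x} ∈ irreducibleComponents α ↔ ∀ y, y ⤳ x → x ⤳ y := by
  constructor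
  · intro h y hy
    have h1 : closure {x} ⊆ closure {y} := hy.closure_subset
    have h2 : closure {y} ≤ closure {x} := h.2 isIrreducible_singleton.closure h1
    exact specializes_iff_closure_subset.mpr h2
  · intro h
    refine ⟨isIrreducible_singleton.closure, fun Z hZ hxZ => ?_⟩
    have hZc : IsIrreducible (closure Z) := hZ.closure
    obtain ⟨z, hz⟩ := QuasiSober.sober hZc isClosed_closure
    have hzx : z ⤳ x := by
      rw [specializes_iff_mem_closure, hz.def]
      exact subset_closure (hxZ (subset_closure rfl))
    have hxz : x ⤳ z := h z hzx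
    calc Z ≤ closure Z := subset_closure
      _ = closure {z} := hz.def.symm
      _ ≤ closure {x} := hxz.closure_subset

lemma exists_genericPoint_specializes {α : Type*} [TopologicalSpace α] [QuasiSober α] (x : α) :
    ∃ x', closure {x'} ∈ irreducibleComponents α ∧ x' ⤳ x := by
  have hc := irreducibleComponent_mem_irreducibleComponents x
  have hirr : IsIrreducible (irreducibleComponent x) := hc.1
  obtain ⟨z, hz⟩ := QuasiSober.sober hirr (isClosed_of_mem_irreducibleComponents _ hc)
  refine ⟨z, hz.def ▸ hc, ?_⟩
  rw [specializes_iff_mem_closure, hz.def]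
  exact mem_irreducibleComponent

lemma qfAt_iff {X Y : Scheme.{u}} (f : X ⟶ Y) [LocallyOfFiniteType f] (x : X) :
    f.QuasiFiniteAt x ↔ IsOpen ({⟨x, rfl⟩} : Set (f ⁻¹' {f x})) := by
  rw [Scheme.Hom.quasiFiniteAt_iff_isOpen_singleton_asFiber,
    ← (f.fiberHomeo (f x)).isOpen_image]
  simp only [Set.image_singleton, Scheme.Hom.asFiber, Homeomorph.apply_symm_apply]

lemma qfAt_isClosed {X Y : Scheme.{u}} (f : X ⟶ Y) [LocallyOfFiniteType f] (x : X)
    (h : f.QuasiFiniteAt x) : IsClosed ({⟨x, rfl⟩} : Set (f ⁻¹' {f x})) := by
  have := h.isClopen_singleton_asFiber.1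
  rw [← (f.fiberHomeo (f x)).isClosed_image] at this
  simpa only [Set.image_singleton, Scheme.Hom.asFiber, Homeomorph.apply_symm_apply] using this

attribute [local instance] specializationOrder in
lemma discrete_fiber {X Y : Scheme.{u}} (f : X ⟶ Y) [LocallyOfFiniteType f] (y : Y)
    (h : ∀ a b : X, f a = y → f b = y → b ⤳ a → a = b) :
    DiscreteTopology (f.fiber y) := by
  have : IsLocallyNoetherian (f.fiber y) := by
    delta Scheme.Hom.fiber
    infer_instance
  have hdim : topologicalKrullDim (f.fiber y) ≤ 0 := by
    rw [Groth.Agent.Lib.Helper5.topologicalKrullDim_eq_krullDim,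
      Order.krullDim_nonpos_iff_forall_isMax]
    intro a b hab
    have h1 : b ⤳ a := hab
    have h2 : f.fiberι y b ⤳ f.fiberι y a := h1.map (f.fiberι y).continuous
    have ha : f (f.fiberι y a) = y := (f.fiberHomeo y a).2
    have hb : f (f.fiberι y b) = y := (f.fiberHomeo y b).2
    have h3 := h _ _ ha hb h2
    have : a = b := (f.fiberHomeo y).injective (Subtype.ext h3)
    exact le_of_eq this.symm
  have := IsLocallyArtinian.of_topologicalKrullDim_le_zero hdim
  infer_instance


/-- Take f : X ⟶ Y locally of finite type and η the generic point of some irreducible component of Y.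
Three conditions turn out to coincide: (1) each point of X mapping to η is the generic point of some
irreducible component of X; (2) f is quasi-finite at every point over η; (3) f is quasi-finite at
each point over η that is generic in some irreducible component of X. Stated as (1) iff (2) together
with (1) iff (3). -/
theorem result {X Y : Scheme.{u}} (f : X ⟶ Y)
    [LocallyOfFiniteType f] (η : Y) (hη : closure {η} ∈ irreducibleComponents ↥Y) :
    ((∀ x : X, f.base x = η → closure {x} ∈ irreducibleComponents ↥X) ↔
      (∀ x : X, f.base x = η → f.QuasiFiniteAt x)) ∧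
    ((∀ x : X, f.base x = η → closure {x} ∈ irreducibleComponents ↥X) ↔
      (∀ x : X, f.base x = η → closure {x} ∈ irreducibleComponents ↥X → f.QuasiFiniteAt x)) := by
  have hηmax : ∀ y : Y, y ⤳ η → y = η := fun y hy =>
    ((mem_genericPoints_iff η).mp hη y hy).antisymm hy |>.eq.symm
  have h12 : (∀ x : X, f.base x = η → closure {x} ∈ irreducibleComponents ↥X) →
      (∀ x : X, f.base x = η → f.QuasiFiniteAt x) := by
    intro h1 x hx
    have hd : DiscreteTopology (f.fiber η) := by
      refine discrete_fiber f η fun a b ha hb hba => ?_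
      have := (mem_genericPoints_iff a).mp (h1 a ha) b hba
      exact (this.antisymm hba).eq
    subst hx
    rw [Scheme.Hom.quasiFiniteAt_iff_isOpen_singleton_asFiber]
    exact isOpen_discrete _
  have h31 : (∀ x : X, f.base x = η → closure {x} ∈ irreducibleComponents ↥X → f.QuasiFiniteAt x) →
      (∀ x : X, f.base x = η → closure {x} ∈ irreducibleComponents ↥X) := by
    intro h3 x hx
    obtain ⟨x', hx', hsp⟩ := exists_genericPoint_specializes x
    have hfx' : f x' = η := hηmax _ (hx ▸ hsp.map f.continuous)
    have hqf := h3 x' hfx' hx'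
    have hcl := qfAt_isClosed f x' hqf
    have hmem : f x = f x' := hx.trans hfx'.symm
    have hsp' : (⟨x', rfl⟩ : f ⁻¹' {f x'}) ⤳ ⟨x, hmem⟩ := (subtype_specializes_iff _ _).mpr hsp
    have : (⟨x, hmem⟩ : f ⁻¹' {f x'}) ∈ ({⟨x', rfl⟩} : Set (f ⁻¹' {f x'})) := by
      have := specializes_iff_mem_closure.mp hsp'
      rwa [hcl.closure_eq] at this
    have hxx' : x = x' := congrArg Subtype.val this
    rw [hxx']
    exact hx'
  refine ⟨⟨h12, fun h2 => h31 fun x hx _ => h2 x hx⟩, ⟨fun h1 x hx _ => h12 h1 x hx, h31⟩⟩

end Groth.Agent.S9682
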