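import Groth.Statements.S9692
-- import your own Groth.Agent.* helpers here
import Groth.Agent.Lib.Helper29.Segre5

set_option autoImplicit false
universe u
open CategoryTheory CategoryTheory.Limits AlgebraicGeometry
open Mor

namespace Groth.Agent.S9692

/-- A composition of H-projective morphisms (closed immersions into a projective space P^n over the
target, followed by the projection) is H-projective. -/
theorem result {X Y Z : Scheme.{u}} (f : X ⟶ Y) (g : Y ⟶ Z)
    (hf : RelProj.IsHProjective f) (hg : RelProj.IsHProjective g) :
    RelProj.IsHProjective (f ≫ g) := by
  exact Groth.Agent.Lib.Helper29.QCoh.isHProjective_comp f g hf hg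

end Groth.Agent.S9692
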