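import Groth.Statements.S9694
-- import your own Groth.Agent.* helpers here
import Groth.Agent.Lib.Helper29.AffG3
import Groth.Agent.Lib.Helper29.RelAmple

set_option autoImplicit false
universe u
open CategoryTheory CategoryTheory.Limits AlgebraicGeometry
open Mor

namespace Groth.Agent.S9694

/-- Let f : X ⟶ S be universally closed, L an O_X-module ample relative to f and s a global section of
L, viewed as a morphism O_X ⟶ L. Then the open subscheme X_s of X where s generates L is affine over
S: the inclusion of X_s followed by f is an affine morphism. -/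
theorem result {X S : Scheme.{u}} (f : X ⟶ S) [UniversallyClosed f]
    (L : X.Modules) (hL : RelAmple.IsRelAmple f L) (s : Coh.structureModule X ⟶ L) :
    IsAffineHom ((CohB1.genLocus L s).ι ≫ f) := by
  open Groth.Agent.Lib.Helper29.QCoh Groth.Agent.Lib.Helper29.AffG in
  refine ⟨fun U hU => ?_⟩
  have hLinv : PicF.IsInvertible L := isInvertible_of_isRelAmple f hL
  have hM := hL.2 ⟨U, hU⟩
  have : IsAffine (U : Scheme.{u}) := hU
  have hcore := isAffineOpen_genLocus_of_universallyClosed (f ∣_ U) hM
    (restrictHom (f ⁻¹ᵁ U).ι s)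
  rw [genLocus_restrictHom (f ⁻¹ᵁ U).ι hLinv s] at hcore
  have h1 := hcore.image_of_isOpenImmersion (f ⁻¹ᵁ U).ι
  rw [Scheme.Hom.image_preimage_eq_opensRange_inf, Scheme.Opens.opensRange_ι] at h1
  rw [← (CohB1.genLocus L s).ι.isAffineOpen_iff_of_isOpenImmersion, Scheme.Hom.comp_preimage,
    Scheme.Hom.image_preimage_eq_opensRange_inf, Scheme.Opens.opensRange_ι, inf_comm]
  exact h1

end Groth.Agent.S9694
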