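import Groth.Statements.S9695
-- import your own Groth.Agent.* helpers here
import Groth.Agent.Lib.Helper29.VA6

set_option autoImplicit false
universe u
open CategoryTheory CategoryTheory.Limits AlgebraicGeometry
open Mor

namespace Groth.Agent.S9695

/-- Suppose f : X ⟶ S is a morphism of finite type and L is an invertible O_X-module. Then L is
f-relatively ample exactly when S can be covered by open subsets V with the following property: for
every such V there is an integer d ≥ 1 for which the tensor power L^{⊗d}, restricted to f⁻¹(V), is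
isomorphic to the pullback of O(1) under some V-immersion of f⁻¹(V) into a projective space P^n_V. -/
theorem result {X S : Scheme.{u}} (f : X ⟶ S)
    [LocallyOfFiniteType f] [QuasiCompact f] (L : X.Modules) (hLinv : PicF.IsInvertible L) :
    RelAmple.IsRelAmple f L ↔
      ∃ (ι : Type u) (V : ι → S.Opens), (⨆ j, V j) = ⊤ ∧
        ∀ j, ∃ d : ℕ, 0 < d ∧
          RelAmple.IsRelVeryAmplePn (f ∣_ V j) ((CohB1.tensorPow L d).restrict (f ⁻¹ᵁ V j).ι) := by
  constructor
  · intro h
    refine ⟨S.affineOpens, fun V => V.1, ?_, fun V => ?_⟩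
    · exact iSup_affineOpens_eq_top S
    · have hA : CohB1.IsAmple (L.restrict (f ⁻¹ᵁ V.1).ι) := h.2 V
      obtain ⟨n₀, hn₀⟩ := Groth.Agent.Lib.Helper29.QCoh.exists_isRelVeryAmplePn_of_isAmple
        (f ∣_ V.1) hA (Groth.Agent.Lib.Helper29.QCoh.isInvertible_unit _)
      obtain ⟨θ⟩ := Groth.Agent.Lib.Helper29.QCoh.nonempty_restrictTensorPowIso
        (f ⁻¹ᵁ V.1).ι hLinv (n₀ + 1)
      refine ⟨n₀ + 1, Nat.succ_pos _, ?_⟩
      exact Groth.Agent.Lib.Helper29.QCoh.isRelVeryAmplePn_of_iso _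
        (Groth.Agent.Lib.Helper29.QCoh.tensorUnitR _ ≪≫ θ.symm) (hn₀ (n₀ + 1) (Nat.le_succ _))
  · rintro ⟨ι, V, hV, h⟩
    rw [Groth.Agent.Lib.Helper29.QCoh.isRelAmple_iff_of_openCover f L V hV]
    intro j
    obtain ⟨d, hd, hva⟩ := h j
    have h1 := Groth.Agent.Lib.Helper29.QCoh.isRelAmple_of_isRelVeryAmplePn (f ∣_ V j) hva
    obtain ⟨θ⟩ := Groth.Agent.Lib.Helper29.QCoh.nonempty_restrictTensorPowIso
      (f ⁻¹ᵁ V j).ι hLinv d
    have h2 := Groth.Agent.Lib.Helper29.QCoh.isRelAmple_of_iso _ θ h1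
    exact (Groth.Agent.Lib.Helper29.QCoh.isRelAmple_iff_tensorPow _
      (Groth.Agent.Lib.Helper29.QCoh.isInvertible_restrict _ hLinv) d hd).mpr h2

end Groth.Agent.S9695
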