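import Groth.Statements.S9701
import Groth.Agent.Lib.Helper21.RatExt3
-- import your own Groth.Agent.* helpers here

set_option autoImplicit false
universe u
open CategoryTheory CategoryTheory.Limits AlgebraicGeometry
open Mor

namespace Groth.Agent.S9701

/-- Let p : X ⟶ S and q : Y ⟶ S with q proper, let x be a point of X whose local ring is a valuation
ring, U ⊆ X an open with x in the closure of U, and f : U ⟶ Y a morphism over S. Assume that X is
Noetherian, or else that X is reduced and has only finitely many irreducible components. Then there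
are an open U' of X containing U and x and a morphism f' : U' ⟶ Y over S extending f. -/
theorem result {X Y S : Scheme.{u}} (p : X ⟶ S) (q : Y ⟶ S)
    [IsProper q] (x : X) (U : X.Opens) (f : (U : Scheme.{u}) ⟶ Y) (hf : f ≫ q = U.ι ≫ p)
    (hx : x ∈ closure (U : Set ↥X))
    (hX : (IsReduced X ∧ (irreducibleComponents ↥X).Finite) ∨ IsNoetherian X)
    (hdom : IsDomain (X.presheaf.stalk x)) (hval : @ValuationRing (X.presheaf.stalk x) _ hdom) :
    ∃ (U' : X.Opens) (hUU' : U ≤ U'), x ∈ U' ∧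
      ∃ f' : (U' : Scheme.{u}) ⟶ Y, f' ≫ q = U'.ι ≫ p ∧ X.homOfLE hUU' ≫ f' = f := by
  have := hdom
  have := hval
  -- an integral affine neighbourhood of `x`
  obtain ⟨W₀, hxW₀, hW₀⟩ : ∃ W₀ : X.Opens, x ∈ W₀ ∧ IsIntegral (W₀ : Scheme.{u}) := by
    rcases hX with ⟨hred, hfin⟩ | hN
    · exact Groth.Agent.Lib.Helper21.RatExt.exists_integral_nhd_of_finite_irreducibleComponents
        hfin x
    · exact Groth.Agent.Lib.Helper7.exists_integral_nhd X x
  obtain ⟨N₀, hN₀, hxN₀, -, hint⟩ :=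
    Groth.Agent.Lib.Helper21.RatExt.exists_affine_integral_nhd_of_integral_nhd x W₀ hxW₀ ⊤ trivial
  -- the section of the base change
  have hproper : IsProper (pullback.fst p q) := inferInstance
  let s : (U : Scheme.{u}) ⟶ pullback p q := pullback.lift U.ι f hf.symm
  have hs : s ≫ pullback.fst p q = U.ι := pullback.lift_fst _ _ _
  have hsf : s ≫ pullback.snd p q = f := pullback.lift_snd _ _ _
  obtain ⟨N, k, hxN, hkq, hk⟩ := Groth.Agent.Lib.Helper21.RatExt.exists_local_extension'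
    (pullback.fst p q) (pullback.fst p q).isClosedMap U s hs x hx N₀ hN₀ hxN₀ hint
  -- glue `f` and `k ≫ snd`
  let W : ULift.{u} Bool → X.Opens := fun b => match b with
    | ⟨true⟩ => U
    | ⟨false⟩ => N
  let h : ∀ b, (W b : Scheme.{u}) ⟶ Y := fun b => match b with
    | ⟨true⟩ => f
    | ⟨false⟩ => k ≫ pullback.snd p q
  have hUN : X.homOfLE (inf_le_left : U ⊓ N ≤ U) ≫ f =
      X.homOfLE (inf_le_right : U ⊓ N ≤ N) ≫ k ≫ pullback.snd p q := by
    rw [← Category.assoc, hk, Category.assoc, hsf]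
  have hcompat : ∀ i j, X.homOfLE (inf_le_left : W i ⊓ W j ≤ W i) ≫ h i =
      X.homOfLE (inf_le_right : W i ⊓ W j ≤ W j) ≫ h j := by
    rintro ⟨_ | _⟩ ⟨_ | _⟩
    · rfl
    · change X.homOfLE (inf_le_left : N ⊓ U ≤ N) ≫ k ≫ pullback.snd p q =
        X.homOfLE (inf_le_right : N ⊓ U ≤ U) ≫ f
      have e1 : X.homOfLE (inf_le_left : N ⊓ U ≤ N) =
          X.homOfLE (le_inf inf_le_right inf_le_left : N ⊓ U ≤ U ⊓ N) ≫
            X.homOfLE (inf_le_right : U ⊓ N ≤ N) := by
        rw [Scheme.homOfLE_homOfLE]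
      have e2 : X.homOfLE (inf_le_right : N ⊓ U ≤ U) =
          X.homOfLE (le_inf inf_le_right inf_le_left : N ⊓ U ≤ U ⊓ N) ≫
            X.homOfLE (inf_le_left : U ⊓ N ≤ U) := by
        rw [Scheme.homOfLE_homOfLE]
      rw [e1, e2, Category.assoc, Category.assoc, hUN]
    · exact hUN
    · rfl
  obtain ⟨f', hf', hext⟩ := Groth.Agent.Lib.Helper21.DVRExt.exists_glue_family W h hcompat
  refine ⟨⨆ i, W i, le_iSup W ⟨true⟩, TopologicalSpace.Opens.mem_iSup.mpr ⟨⟨false⟩, hxN⟩, f', ?_, hf' ⟨true⟩⟩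
  apply hext
  rintro ⟨_ | _⟩
  · rw [← Category.assoc, hf' ⟨false⟩, ← Category.assoc, Scheme.homOfLE_ι]
    change (k ≫ pullback.snd p q) ≫ q = N.ι ≫ p
    rw [Category.assoc, ← pullback.condition, ← Category.assoc, hkq]
  · rw [← Category.assoc, hf' ⟨true⟩, ← Category.assoc, Scheme.homOfLE_ι]
    exact hf

end Groth.Agent.S9701
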