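import Groth.Statements.S9702
import Groth.Agent.Lib.Helper21.GenFin5
-- import your own Groth.Agent.* helpers here

set_option autoImplicit false
universe u
open CategoryTheory CategoryTheory.Limits AlgebraicGeometry
open Mor

namespace Groth.Agent.S9702

/-- Let X, Y be integral and f : X ⟶ Y dominant and locally of finite type, with ξ the generic point of
X (so f ξ is the generic point of Y). Then the following are equivalent: the residue field of ξ is
finite over that of f ξ; some nonempty affine opens U ⊆ X and V ⊆ Y with f(U) ⊆ V have U ⟶ V finite;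
every point of X that f sends to the generic point of Y equals ξ. Under the extra assumption that f
is quasi-compact or separated, these are also equivalent to: f⁻¹(V) ⟶ V is finite for some nonempty
affine open V ⊆ Y. (The published statement also lists transcendence degree 0 of the function field
extension, which for this finitely generated extension is equivalent to finiteness; this row omits
it.) -/
theorem result {X Y : Scheme.{u}} [IsIntegral X] [IsIntegral Y] (f : X ⟶ Y)
    [IsDominant f] [LocallyOfFiniteType f] :
    let ξ := genericPoint ↥X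
    let A := letI := (f.residueFieldMap ξ).hom.toAlgebra
      Module.Finite (Y.residueField (f.base ξ)) (X.residueField ξ)
    let B := ∃ (U : X.Opens) (V : Y.Opens) (hUV : U ≤ f ⁻¹ᵁ V), IsAffineOpen U ∧ IsAffineOpen V ∧
      Nonempty ↥U ∧ IsFinite (f.resLE V U hUV)
    let C := ∀ x : X, f.base x = genericPoint ↥Y → x = ξ
    let D := ∃ V : Y.Opens, IsAffineOpen V ∧ Nonempty ↥V ∧ IsFinite (f ∣_ V)
    (A ↔ B) ∧ (A ↔ C) ∧ (IsSeparated f ∨ QuasiCompact f → (A ↔ D)) := by
  intro ξ A B C D
  have hfξ : f.base ξ = genericPoint ↥Y := Groth.Agent.Lib.Helper21.GenFin.map_genericPoint f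
  have hAq : A ↔ f.QuasiFiniteAt ξ :=
    Groth.Agent.Lib.Helper21.GenFin.finite_iff_quasiFiniteAt_genericPoint f
  have hAB : A ↔ B := by
    constructor
    · intro hA
      exact Groth.Agent.Lib.Helper21.GenFin.exists_isFinite_resLE f hA
    · rintro ⟨U, V, hUV, -, -, hne, hfin⟩
      exact hAq.mpr (Groth.Agent.Lib.Helper21.GenFin.quasiFiniteAt_genericPoint_of_isFinite_resLE
        f U V hUV hne hfin)
  have hAC : A ↔ C :=
    hAq.trans (Groth.Agent.Lib.Helper21.GenFin.quasiFiniteAt_genericPoint_iff_forall f)
  refine ⟨hAB, hAC, ?_⟩
  intro hsq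
  constructor
  · intro hA
    rcases hsq with hsep | hqc
    · exact Groth.Agent.Lib.Helper21.GenFin.exists_isFinite_morphismRestrict_of_isSeparated f
        (hAB.mp hA)
    · exact Groth.Agent.Lib.Helper21.GenFin.exists_isFinite_morphismRestrict_of_quasiCompact f
        hA (hAB.mp hA)
  · rintro ⟨V, -, hne, hfin⟩
    exact hAq.mpr
      (Groth.Agent.Lib.Helper21.GenFin.quasiFiniteAt_genericPoint_of_isFinite_morphismRestrict
        f V hne hfin)

end Groth.Agent.S9702
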