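import Groth.Statements.S9706
import Groth.Agent.S12478
import Groth.Agent.Lib.Helper3.FTRed6

set_option autoImplicit false
universe u
open CategoryTheory CategoryTheory.Limits AlgebraicGeometry
open Mor

namespace Groth.Agent.S9706
open Groth.Agent.Lib.Helper3

/-- Let S be quasi-compact and quasi-separated and f : X ⟶ S quasi-projective. Then f factors as an open
immersion X ⟶ X' followed by a projective morphism X' ⟶ S. Here X' ⟶ S projective means isomorphic
over S to the relative Proj of a quasi-coherent graded algebra generated by its finite-type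
degree-one part; the published definition uses closed subschemes of P(E) with E of finite type, an
equivalent condition. -/
theorem result {X S : Scheme.{u}} [CompactSpace ↥S]
    [QuasiSeparatedSpace ↥S] (f : X ⟶ S) (hf : RelProj.IsQuasiProjective f) :
    ∃ (X' : Scheme.{u}) (j : X ⟶ X') (g : X' ⟶ S), IsOpenImmersion j ∧ RelProj.IsProjective g ∧ j ≫ g = f := by
  classical
  obtain ⟨hft, hqc, L, hamp⟩ := hf
  haveI := hft
  haveI := hqc
  have hL : PicF.IsInvertible L := Groth.Agent.Lib.Helper29.QCoh.isInvertible_of_isRelAmple f hamp
  obtain ⟨n₀, -, hn⟩ := Groth.Agent.S12478.result f L hL hamp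
  obtain ⟨E, hq, hfE, i, hi, hip, -⟩ := FTRed.exists_immersion_relProj_finiteType' hasFTThrough_of_qcqs f
    (CohB1.tensorPow L n₀) (Groth.Agent.Lib.Helper29.QCoh.isInvertible_tensorPow hL n₀) (hn n₀ le_rfl)
  haveI := hq
  haveI := hfE
  haveI := hi
  exact FTRed.exists_openImmersion_projective f E i hip

end Groth.Agent.S9706
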