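import Groth.Statements.S9711
import Mathlib
import Groth.Agent.Helper19.Conormal6
import Groth.Agent.S9375
-- import your own Groth.Agent.* helpers here

set_option autoImplicit false
universe u
open CategoryTheory CategoryTheory.Limits AlgebraicGeometry
open OmegaSh

namespace Groth.Agent.S9711

section helpers

open TopologicalSpace
open scoped TensorProduct
open Groth.Agent.Lib.Helper29.QCoh Groth.Agent.Helper19.OmegaD Groth.Agent.Helper19.OmegaLocal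
open Groth.Agent.Helper19.OmegaAlg Groth.Agent.Helper19.Conormal

variable {Z X Y : Scheme.{u}} (p : X ⟶ Y) [Smooth p] (i : Z ⟶ X) (j : Z ⟶ Y) [IsImmersion i]
  [IsImmersion j] [QuasiCompact i] [QuasiCompact j] (hij : i ≫ p = j)
  (ψ : (Scheme.Modules.pullback (𝟙 Z)).obj (Omega.conormal j) ⟶ Omega.conormal i)
  (hψ : OmegaSh.IsConormalMap i j p (𝟙 Z) ψ)

set_option maxRecDepth 16000 in
include hij hψ in
theorem local_injective {UX : X.Opens} {UY : Y.Opens} (hUX : IsAffineOpen UX)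
    (hUY : IsAffineOpen UY)
    (hUXc : UX ≤ i.coborderRange) (hUYc : UY ≤ j.coborderRange) (hUXY : UX ≤ p ⁻¹ᵁ UY)
    (hJI : j ⁻¹ᵁ UY ≤ i ⁻¹ᵁ UX) :
    Function.Injective (ψ.app (i ⁻¹ᵁ UX)) := by
  have hV : IsAffineOpen (i ⁻¹ᵁ UX) := isAffineOpen_preimage_of_le_coborder i hUX hUXc
  have hUU : i ⁻¹ᵁ UX ≤ i ⁻¹ᵁ UX := le_rfl
  have eJ := le_preimage_right hUXY hij
  have hVY := le_comp_preimage p i hUU hUXY
  letI := algΓ p hUXY
  letI := algΓ (i ≫ p) hVY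
  letI := algΓ i hUU
  haveI := isScalarTower_tri p i hUU hUXY
  haveI : Algebra.FormallySmooth Γ(Y, UY) Γ(X, UX) :=
    (HasRingHomProperty.appLE (P := @Smooth) p inferInstance ⟨UY, hUY⟩ ⟨UX, hUX⟩
      hUXY).formallySmooth
  have hK : RingHom.ker (algebraMap Γ(X, UX) Γ(Z, i ⁻¹ᵁ UX)) = i.ker.ideal ⟨UX, hUX⟩ :=
    ker_algebraMap_eq i hUX
  have hcr := isClosedChart_right hUY hUYc hUXY hJI hij
  have hRBeq : algebraMap Γ(Y, UY) Γ(Z, i ⁻¹ᵁ UX) = (j.appLE UY (i ⁻¹ᵁ UX) eJ).hom := by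
    change ((i ≫ p).appLE UY (i ⁻¹ᵁ UX) hVY).hom = _
    rw [appLE_congr hij hVY eJ]
  have hRB : Function.Surjective (algebraMap Γ(Y, UY) Γ(Z, i ⁻¹ᵁ UX)) := by
    rw [hRBeq]; exact hcr.1
  have hK' : RingHom.ker (algebraMap Γ(Y, UY) Γ(Z, i ⁻¹ᵁ UX)) = j.ker.ideal ⟨UY, hUY⟩ := by
    rw [hRBeq]; exact hcr.2
  have hcl := isClosedChart_left hUX hUXc
  have hρ : ∀ x' : j.ker.ideal ⟨UY, hUY⟩,
      algebraMap Γ(Y, UY) Γ(X, UX) x'.1 ∈ i.ker.ideal ⟨UX, hUX⟩ := by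
    intro x'
    rw [← hK]
    apply algebraMap_mem_ker_of_mem_ker
    rw [hK']
    exact x'.2
  have hψcls : ∀ x' : j.ker.ideal ⟨UY, hUY⟩,
      ψ.app (i ⁻¹ᵁ UX) (((Scheme.Modules.pullbackId Z).inv.app (Omega.conormal j)).app (i ⁻¹ᵁ UX)
        (clsV j hUY eJ x')) = cls i hUX ⟨algebraMap Γ(Y, UY) Γ(X, UX) x'.1, hρ x'⟩ := fun x' =>
    conormalMap_pbId_inv_clsV hUX hUY hUXY hij ψ hψ x' ⟨_, hρ x'⟩ rfl
  rw [injective_iff_map_eq_zero]
  intro m' hm'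
  obtain ⟨x', rfl⟩ := exists_pbId_inv_clsV hUX hUY hUXc hUYc hUXY hJI hij m'
  rw [hψcls, ← clsV_self, clsV_eq_zero_iff hV hcl] at hm'
  have h1 : algebraMap Γ(Y, UY) Γ(X, UX) x'.1 ∈
      RingHom.ker (algebraMap Γ(X, UX) Γ(Z, i ⁻¹ᵁ UX)) ^ 2 := by
    rw [hK]; exact hm'
  have h2 := mem_sq_of_algebraMap_mem_sq hRB x'.1 h1
  have hsq : ∀ y : Γ(Y, UY), y ∈ RingHom.ker (algebraMap Γ(Y, UY) Γ(Z, i ⁻¹ᵁ UX)) ^ 2 →
      y ∈ (j.ker.ideal ⟨UY, hUY⟩) ^ 2 := by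
    intro y hy
    rw [← hK']; exact hy
  have h3 : x'.1 ∈ (j.ker.ideal ⟨UY, hUY⟩) ^ 2 := hsq _ h2
  rw [(clsV_eq_zero_iff hV hcr x').mpr h3, map_zero]

end helpers

/-- Let p : X ⟶ Y be smooth and i : Z ⟶ X, j : Z ⟶ Y quasi-compact immersions with i ≫ p = j. Then the
canonical sequence 0 → C_{Z/Y} → C_{Z/X} → i^*Ω_{X/Y} → 0 is short exact; here Ω_{X/Y} is any
receptacle of a universal Y-derivation of O_X, the first map is the canonical map of conormal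
sheaves and the second is the one induced by the derivation. (The published statement allows
arbitrary immersions; quasi-compactness of i and j is assumed here to form the conormal sheaves.) -/
theorem result {Z X Y : Scheme.{u}} (p : X ⟶ Y) [Smooth p]
    (i : Z ⟶ X) (j : Z ⟶ Y) [IsImmersion i] [IsImmersion j] [QuasiCompact i] [QuasiCompact j] (hij : i ≫ p = j)
    (Ω : X.Modules) (d : OmegaSh.Der p Ω) (hd : OmegaSh.IsUniversal d)
    (ψ : (Scheme.Modules.pullback (𝟙 Z)).obj (Omega.conormal j) ⟶ Omega.conormal i)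
    (hψ : OmegaSh.IsConormalMap i j p (𝟙 Z) ψ)
    (φ : Omega.conormal i ⟶ (Scheme.Modules.pullback i).obj Ω) (hφ : OmegaSh.IsConormalDiff i d φ) :
    ∃ w : ψ ≫ φ = 0, (ShortComplex.mk ψ φ w).ShortExact := by
  obtain ⟨w, hex, hepi⟩ := Groth.Agent.S9375.result p i j hij Ω d hd ψ hψ φ hφ
  have hB := Groth.Agent.Helper19.Conormal.isBasis_matchB p i j hij
  have hmono : Mono ψ := by
    apply Groth.Agent.Helper19.OmegaD.mono_of_injective_on_basis ψ _ hB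
    rintro V ⟨UX, UY, hUX, hUY, hUXc, hUYc, hUXY, hJI, rfl⟩
    exact local_injective p i j hij ψ hψ hUX hUY hUXc hUYc hUXY hJI
  exact ⟨w, { exact := hex, mono_f := hmono, epi_g := hepi }⟩

end Groth.Agent.S9711
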