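import Groth.Statements.S9712
-- import your own Groth.Agent.* helpers here
import Groth.Agent.Lib.Helper29.VA7

set_option autoImplicit false
universe u
open CategoryTheory CategoryTheory.Limits AlgebraicGeometry
open Mor

namespace Groth.Agent.S9712

/-- A morphism f : X ⟶ S is locally quasi-projective (S is covered by opens U with f⁻¹(U) ⟶ U
quasi-projective) if and only if S is covered by opens U such that f⁻¹(U) ⟶ U is H-quasi-projective
(a quasi-compact immersion into some P^n_U followed by the projection). -/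
theorem result {X S : Scheme.{u}} (f : X ⟶ S) :
    (∀ s : S, ∃ U : S.Opens, s ∈ U ∧ RelProj.IsQuasiProjective (f ∣_ U)) ↔
      (∀ s : S, ∃ U : S.Opens, s ∈ U ∧ RelProj.IsHQuasiProjective (f ∣_ U)) := by
  constructor
  · intro h s
    obtain ⟨U, hsU, hlft, hqc, L, hL⟩ := h s
    obtain ⟨W', hW', hsW', -⟩ := exists_isAffineOpen_mem_and_subset
      (X := (U : Scheme.{u})) (x := (⟨s, hsU⟩ : U)) (U := ⊤) trivial
    have hA : CohB1.IsAmple (L.restrict ((f ∣_ U) ⁻¹ᵁ W').ι) := hL.2 ⟨W', hW'⟩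
    obtain ⟨n₀, hn₀⟩ := Groth.Agent.Lib.Helper29.QCoh.exists_isRelVeryAmplePn_of_isAmple
      ((f ∣_ U) ∣_ W') hA (Groth.Agent.Lib.Helper29.QCoh.isInvertible_unit _)
    obtain ⟨N, i, hi, hif, -⟩ := hn₀ n₀ le_rfl
    have hqci : QuasiCompact i := by
      obtain ⟨i', hi'⟩ : ∃ i' : ((f ∣_ U) ⁻¹ᵁ W' : Scheme.{u}) ⟶
          pullback (CohB1.ProjSpace.toSpec N (ULift.{u} ℤ))
            (specULiftZIsTerminal.from (W' : Scheme.{u})), i' = i := ⟨i, rfl⟩
      haveI : QuasiCompact (i' ≫ pullback.snd (CohB1.ProjSpace.toSpec N (ULift.{u} ℤ))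
          (specULiftZIsTerminal.from (W' : Scheme.{u}))) := by
        have : i' ≫ pullback.snd (CohB1.ProjSpace.toSpec N (ULift.{u} ℤ))
          (specULiftZIsTerminal.from (W' : Scheme.{u})) = (f ∣_ U) ∣_ W' := by rw [hi']; exact hif
        rw [this]; infer_instance
      rw [← hi']
      exact QuasiCompact.of_comp i' (pullback.snd (CohB1.ProjSpace.toSpec N (ULift.{u} ℤ))
          (specULiftZIsTerminal.from (W' : Scheme.{u})))
    have h1 : RelProj.IsHQuasiProjective ((f ∣_ U) ∣_ W') := ⟨N, i, hi, hqci, hif⟩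
    refine ⟨U.ι ''ᵁ W', ⟨⟨s, hsU⟩, hsW', rfl⟩, ?_⟩
    exact Groth.Agent.Lib.Helper29.QCoh.isHQuasiProjective_of_arrow_iso _ _
      (morphismRestrictRestrict f U W') h1
  · intro h s
    obtain ⟨U, hsU, n, i, hi, hqc, hif⟩ := h s
    refine ⟨U, hsU, ?_, ?_, (Scheme.Modules.pullback i).obj (Twist.twistOver n (U : Scheme.{u}) 1), ?_⟩
    · rw [← hif]; infer_instance
    · rw [← hif]; infer_instance
    · haveI : QuasiCompact (f ∣_ U) := by rw [← hif]; infer_instance
      exact Groth.Agent.Lib.Helper29.QCoh.isRelAmple_of_isRelVeryAmplePn (f ∣_ U)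
        ⟨n, i, hi, hif, ⟨Iso.refl _⟩⟩

end Groth.Agent.S9712
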