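import Groth.Statements.S9715
import Groth.Agent.Lib.Helper2.PrinPart.AffineMod
import Groth.Agent.S3815

set_option autoImplicit false
universe u
open CategoryTheory CategoryTheory.Limits AlgebraicGeometry
open Opposite
open Mor

namespace Groth.Agent.S9715

/-- Let f : X ⟶ S be a morphism of affine schemes, R = Γ(S, O_S) → A = Γ(X, O_X) the corresponding ring
map, F a quasi-coherent O_X-module and G an O_X-module, with global sections M and N. Every
differential operator M → N of order at most k relative to A over R is induced on global sections by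
a differential operator F → G of order at most k relative to X over S. (The published statement
asserts that D ↦ Γ(X, D) is a bijection between the two sets of operators of order at most k; its
injectivity is not verified in the published proof and is not claimed here. Differential operators
on X/S are taken in the principal-parts sense, those of A/R in the commutator sense.) -/
theorem result {X S : Scheme.{u}} [IsAffine X] [IsAffine S] (f : X ⟶ S)
    (F G : X.Modules) (hF : Coh.IsQCoh F) (k : ℕ) :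
    letI : Algebra Γ(S, ⊤) Γ(X, ⊤) := f.appTop.hom.toAlgebra
    letI : Module Γ(S, ⊤) Γ(F, ⊤) := Module.compHom Γ(F, ⊤) f.appTop.hom
    letI : Module Γ(S, ⊤) Γ(G, ⊤) := Module.compHom Γ(G, ⊤) f.appTop.hom
    haveI : IsScalarTower Γ(S, ⊤) Γ(X, ⊤) Γ(F, ⊤) := IsScalarTower.of_algebraMap_smul fun _ _ => rfl
    haveI : IsScalarTower Γ(S, ⊤) Γ(X, ⊤) Γ(G, ⊤) := IsScalarTower.of_algebraMap_smul fun _ _ => rfl
    ∀ D' : Γ(F, ⊤) →ₗ[Γ(S, ⊤)] Γ(G, ⊤), Diff16.IsDiffOpLE Γ(S, ⊤) Γ(X, ⊤) Γ(F, ⊤) Γ(G, ⊤) k D' →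
      ∃ D : F.presheaf ⟶ G.presheaf, PrinPart.IsDiffOpLE f F G k D ∧
        ∀ m : Γ(F, ⊤), (D.app (op ⊤)).hom m = D' m := by
  letI : Algebra Γ(S, ⊤) Γ(X, ⊤) := f.appTop.hom.toAlgebra
  letI : Module Γ(S, ⊤) Γ(F, ⊤) := Module.compHom Γ(F, ⊤) f.appTop.hom
  letI : Module Γ(S, ⊤) Γ(G, ⊤) := Module.compHom Γ(G, ⊤) f.appTop.hom
  haveI : IsScalarTower Γ(S, ⊤) Γ(X, ⊤) Γ(F, ⊤) := IsScalarTower.of_algebraMap_smul fun _ _ => rfl
  haveI : IsScalarTower Γ(S, ⊤) Γ(X, ⊤) Γ(G, ⊤) := IsScalarTower.of_algebraMap_smul fun _ _ => rfl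
  intro D' hD'
  haveI : F.IsQuasicoherent := hF
  obtain ⟨u₀, ⟨hlin, hval⟩, -⟩ :=
    (Groth.Agent.S3815.result k Γ(S, ⊤) Γ(X, ⊤) Γ(F, ⊤) Γ(G, ⊤) D').1 hD'
  have hXV : (⊤ : X.Opens) ≤ f ⁻¹ᵁ (⊤ : S.Opens) := fun _ _ => trivial
  have halg : algebraMap Γ(S, ⊤) Γ(X, ⊤) = (f.appLE ⊤ ⊤ hXV).hom := by
    rw [RingHom.algebraMap_toAlgebra]
    congr 1
    exact (Scheme.Hom.appLE_eq_app f).symm
  obtain ⟨u, hu⟩ := Groth.Agent.Lib.Helper2.PrinPartB.exists_hom_PMod_of_factor f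
    (isAffineOpen_top S) hXV halg k F G u₀ hlin
  refine ⟨PrinPart.dPHom f k F ≫ Scheme.Modules.Hom.mapPresheaf u, ⟨u, fun U t => rfl⟩, fun m => ?_⟩
  exact (hu m).trans (hval m)

end Groth.Agent.S9715
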