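import Groth.Statements.S9719
import Groth.Agent.Lib.Helper3.PnRev4

set_option autoImplicit false
universe u
open CategoryTheory CategoryTheory.Limits AlgebraicGeometry
open Mor

namespace Groth.Agent.S9719
open Groth.Agent.Lib.Helper3

/-- (1) ⇒ (2): let f : X ⟶ S be of finite type and L an invertible O_X-module which is very ample
relative to f (isomorphic to the inverse image of O(1) along an S-immersion into the projective
bundle of a quasi-coherent O_S-module). Then there is an open covering of S by opens V such that,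
for each V, the restriction of L to f⁻¹(V) is isomorphic to the inverse image of O(1) along some
immersion of f⁻¹(V) into a projective space P^n_V over V. (The converse implication of the published
statement is not stated here.) -/
theorem result {X S : Scheme.{u}} (f : X ⟶ S)
    [LocallyOfFiniteType f] [QuasiCompact f] (L : X.Modules) (hLinv : PicF.IsInvertible L)
    (hL : RelProj.IsRelVeryAmple f L) :
    ∃ (ι : Type u) (V : ι → S.Opens), (⨆ j, V j) = ⊤ ∧
      ∀ j, RelAmple.IsRelVeryAmplePn (f ∣_ V j) (L.restrict (f ⁻¹ᵁ V j).ι) := by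
  classical
  refine ⟨S.affineOpens, fun V => V.1, ?_, fun V => ?_⟩
  · exact iSup_affineOpens_eq_top S
  · haveI hVa : IsAffine (V.1 : Scheme.{u}) := V.2
    have hsq : IsPullback (f ⁻¹ᵁ V.1).ι (f ∣_ V.1) f V.1.ι := (isPullback_morphismRestrict f V.1).flip
    have h1 : RelProj.IsRelVeryAmple (f ∣_ V.1) ((Scheme.Modules.pullback (f ⁻¹ᵁ V.1).ι).obj L) :=
      ProjBundle.isRelVeryAmple_baseChange f V.1.ι (f ⁻¹ᵁ V.1).ι (f ∣_ V.1) hsq L hL
    have e : (Scheme.Modules.pullback (f ⁻¹ᵁ V.1).ι).obj L ≅ L.restrict (f ⁻¹ᵁ V.1).ι :=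
      ((Scheme.Modules.restrictFunctorIsoPullback (f ⁻¹ᵁ V.1).ι).app L).symm
    have h2 : RelProj.IsRelVeryAmple (f ∣_ V.1) (L.restrict (f ⁻¹ᵁ V.1).ι) := by
      obtain ⟨E, hE, 𝒮, j, hj, P, p, chart, hP, O1, lam, hO1, i, hi, hip, ⟨eL⟩⟩ := h1
      exact ⟨E, hE, 𝒮, j, hj, P, p, chart, hP, O1, lam, hO1, i, hi, hip, ⟨e.symm ≪≫ eL⟩⟩
    haveI hft : LocallyOfFiniteType (f ∣_ V.1) := inferInstance
    haveI hqc : QuasiCompact (f ∣_ V.1) := inferInstance
    have h3 : PicF.IsInvertible (L.restrict (f ⁻¹ᵁ V.1).ι) :=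
      Groth.Agent.Lib.Helper29.QCoh.isInvertible_restrict (f ⁻¹ᵁ V.1).ι hLinv
    exact @PnRev.isRelVeryAmplePn_of_isRelVeryAmple _ _ hVa (f ∣_ V.1) hft hqc _ h3 h2

end Groth.Agent.S9719
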