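import Groth.Statements.S9723
import Mathlib
import Groth.Agent.Lib.Helper11.FormalLift

set_option autoImplicit false
universe u
open FlatMor

namespace Groth.Agent.S9723

section helpers

open AlgebraicGeometry CategoryTheory Groth.Agent.Lib.Helper11.FormalLift

theorem main {X S : Scheme.{u}} (f : X ⟶ S) (hf : MoreMor.IsFormallyEtaleHom f)
    (U : X.Opens) (V : S.Opens) (h : U ≤ f ⁻¹ᵁ V) : MoreMor.IsFormallyEtaleHom (f.resLE V U h) := by
  intro A _ I hI a b w
  have hres : f.resLE V U h ≫ V.ι = U.ι ≫ f := Scheme.Hom.resLE_comp_ι _ _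
  obtain ⟨m, ⟨hm1, hm2⟩, hmu⟩ := hf A I hI (a ≫ U.ι) (b ≫ V.ι) (by
    rw [← Category.assoc, w, Category.assoc, Category.assoc, hres])
  obtain ⟨l', hl'1, hl'2⟩ := exists_lift_opens U I hI m a hm1
  refine ⟨l', ⟨hl'2, ?_⟩, ?_⟩
  · rw [← cancel_mono V.ι, Category.assoc, hres, ← Category.assoc, hl'1, hm2]
  · rintro l'' ⟨h1, h2⟩
    rw [← cancel_mono U.ι, hl'1]
    apply hmu
    exact ⟨by rw [← Category.assoc, h1], by rw [Category.assoc, ← hres, ← Category.assoc, h2]⟩

end helpers

open AlgebraicGeometry CategoryTheory in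
/-- Let f : X ⟶ S be formally étale (unique infinitesimal lifting against square-zero thickenings of
affine schemes), and let U be an open subscheme of X and V an open subscheme of S such that f maps U
into V. Then the restricted morphism U ⟶ V is formally étale. -/
theorem result {X S : Scheme.{u}} (f : X ⟶ S) (hf : MoreMor.IsFormallyEtaleHom f)
    (U : X.Opens) (V : S.Opens) (h : U ≤ f ⁻¹ᵁ V) : MoreMor.IsFormallyEtaleHom (f.resLE V U h) := by
  exact main f hf U V h

end Groth.Agent.S9723
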