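import Groth.Statements.S9727
import Mathlib
import Groth.Agent.Lib.Helper14.EtFib4

set_option autoImplicit false
universe u
open FlatMor

namespace Groth.Agent.S9727

open AlgebraicGeometry CategoryTheory Limits in
/-- Let f : X ⟶ S be a morphism, x a point of X with image s, and (V, v) ⟶ (X_s, x) an étale
neighbourhood of x in its fibre. Then there is an étale neighbourhood (U, u) ⟶ (X, x) whose fibre
U_s over s admits a morphism of étale neighbourhoods (U_s, u) ⟶ (V, v) over X_s which is an open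
immersion. -/
theorem result {X S V : Scheme.{u}} (f : X ⟶ S) (x : X)
    (g : V ⟶ f.fiber (f x)) [Etale g] (v : V) (hv : g v = f.asFiber x) :
    ∃ (U : Scheme.{u}) (p : U ⟶ X) (u : U) (m : (p ≫ f).fiber (f x) ⟶ V) (u' : ↑((p ≫ f).fiber (f x))),
      Etale p ∧ p u = x ∧ IsOpenImmersion m ∧ m ≫ g = MoreMor.fiberMap p f (f x) ∧
      (p ≫ f).fiberι (f x) u' = u ∧ m u' = v := by
  obtain ⟨U, p, m, u', hp, hm, hmg, hmu⟩ :=
    Groth.Agent.Lib.Helper14.EtFib.exists_etale_lift_of_fiber f (f x) g v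
  refine ⟨U, p, (p ≫ f).fiberι (f x) u', m, u', hp, ?_, hm, hmg, rfl, hmu⟩
  have h1 : (p ≫ f).fiberι (f x) ≫ p = MoreMor.fiberMap p f (f x) ≫ f.fiberι (f x) :=
    (Groth.Agent.Lib.Helper14.EtFib.fiberMap_fiberι p f (f x)).symm
  have h2 : p ((p ≫ f).fiberι (f x) u') = f.fiberι (f x) (MoreMor.fiberMap p f (f x) u') := by
    rw [← Scheme.Hom.comp_apply, h1, Scheme.Hom.comp_apply]
  rw [h2, ← hmg, Scheme.Hom.comp_apply, hmu, hv]
  exact Scheme.Hom.fiberι_asFiber f x

end Groth.Agent.S9727
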