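import Groth.Statements.S9734
import Mathlib
import Groth.Agent.Lib.Helper6.EtLocSepScheme
-- import your own Groth.Agent.* helpers here

set_option autoImplicit false
universe u
open FlatMor

namespace Groth.Agent.S9734

open AlgebraicGeometry CategoryTheory Limits in
/-- Let S be a scheme, s a point of S and k a finite separable field extension of the residue field
κ(s). Then there is an étale neighbourhood (U, u) ⟶ (S, s) whose residue field extension κ(u)/κ(s)
is isomorphic to k/κ(s). -/
theorem result (S : Scheme.{u}) (s : S) (k : Type u) [Field k]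
    [Algebra (S.residueField s) k] [FiniteDimensional (S.residueField s) k] [Algebra.IsSeparable (S.residueField s) k] :
    ∃ (U : Scheme.{u}) (g : U ⟶ S) (u : U) (hu : g u = s), Etale g ∧
      letI := ((S.residueFieldCongr hu).inv ≫ g.residueFieldMap u).hom.toAlgebra
      Nonempty (k ≃ₐ[S.residueField s] U.residueField u) := by
  obtain ⟨U, g, φ, hg, -, hφ, hsurj⟩ := Groth.Agent.Lib.Helper6.EtLoc.exists_etale_nbhd_lift S s k
  have h1 : (AlgebraicGeometry.Scheme.SpecToEquivOfField k S) (φ ≫ g) =
      ⟨s, CommRingCat.ofHom (algebraMap (S.residueField s) k)⟩ := by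
    rw [hφ]
    exact (AlgebraicGeometry.Scheme.SpecToEquivOfField k S).apply_symm_apply
      ⟨s, CommRingCat.ofHom (algebraMap (S.residueField s) k)⟩
  rw [AlgebraicGeometry.Scheme.SpecToEquivOfField_eq_iff] at h1
  obtain ⟨e, he⟩ := h1
  have hu : g (φ (IsLocalRing.closedPoint k)) = s := e
  refine ⟨U, g, φ (IsLocalRing.closedPoint k), hu, hg, ?_⟩
  letI := ((S.residueFieldCongr hu).inv ≫ g.residueFieldMap (φ (IsLocalRing.closedPoint k))).hom.toAlgebra
  have hcomm : (S.residueFieldCongr hu).inv ≫ g.residueFieldMap (φ (IsLocalRing.closedPoint k)) ≫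
      AlgebraicGeometry.Scheme.descResidueField (AlgebraicGeometry.Scheme.stalkClosedPointTo φ) =
      CommRingCat.ofHom (algebraMap (S.residueField s) k) := by
    have h2 := AlgebraicGeometry.Scheme.descResidueField_stalkClosedPointTo_comp g φ
    rw [← h2, Iso.inv_comp_eq]
    exact he
  let ψa : U.residueField (φ (IsLocalRing.closedPoint k)) →ₐ[S.residueField s] k :=
    { (AlgebraicGeometry.Scheme.descResidueField (AlgebraicGeometry.Scheme.stalkClosedPointTo φ)).hom with
      commutes' := fun r => by
        have := congr(($hcomm).hom r)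
        exact this }
  have hbij : Function.Bijective ψa := ⟨RingHom.injective _, hsurj⟩
  exact ⟨(AlgEquiv.ofBijective ψa hbij).symm⟩

end Groth.Agent.S9734
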