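import Groth.Statements.S9736
import Mathlib
import Groth.Agent.Helper19.RelGCI13
-- import your own Groth.Agent.* helpers here

set_option autoImplicit false
universe u
open FlatMor

namespace Groth.Agent.S9736

section helpers
open AlgebraicGeometry CategoryTheory Limits Groth.Agent.Helper19.RelGCI

attribute [local instance] presAlgebra

theorem finiteType_int_Γ (R₀ : Type u) [CommRing R₀] [Algebra.FiniteType ℤ R₀] :
    Algebra.FiniteType ℤ Γ(Spec (CommRingCat.of R₀), ⊤) := by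
  refine Algebra.FiniteType.of_surjective
    (RingHom.toIntAlgHom (Scheme.ΓSpecIso (CommRingCat.of R₀)).inv.hom) ?_
  exact (Scheme.ΓSpecIso (CommRingCat.of R₀)).symm.commRingCatIsoToRingEquiv.surjective

theorem main {X S : Scheme.{u}} (f : X ⟶ S) (hf : Synt.IsStandardSyntomic f) :
    ∃ (X₀ S₀ : Scheme.{u}) (f₀ : X₀ ⟶ S₀) (g : S ⟶ S₀) (g' : X ⟶ X₀), IsAffine X₀ ∧ IsAffine S₀ ∧
      IsPullback g' f f₀ g ∧
      Algebra.FiniteType ℤ Γ(S₀, ⊤) ∧ LocallyOfFiniteType f₀ ∧ Synt.IsStandardSyntomic f₀ := by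
  obtain ⟨R, _, n, c, F, hF, e₁, e₂, hcomm⟩ := hf
  obtain ⟨R₀, F₀, hft, hF₀, hG⟩ := exists_subalgebra_isRelGCI R F hF
  have hFe : mapPoly R₀ R F₀ = F := funext hF₀
  subst hFe
  refine ⟨Spec (CommRingCat.of (Synt.RelGCIRing R₀ n c F₀)), Spec (CommRingCat.of R₀),
    sm R₀ (Synt.RelGCIRing R₀ n c F₀), e₂.hom ≫ Spec.map (CommRingCat.ofHom (algebraMap R₀ R)),
    e₁.hom ≫ Spec.map (CommRingCat.ofHom
      (algebraMap (Synt.RelGCIRing R₀ n c F₀) (Synt.RelGCIRing R n c (mapPoly R₀ R F₀)))),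
    inferInstance, inferInstance, ?_, ?_, ?_, ?_⟩
  · refine (isPullback_pres R₀ R F₀).of_iso e₁.symm (Iso.refl _) e₂.symm (Iso.refl _) ?_ ?_ ?_ ?_
    · simp
    · rw [Iso.symm_hom, Iso.symm_hom, Iso.eq_inv_comp, ← Category.assoc, hcomm]
      simp
    · simp
    · simp
  · exact finiteType_int_Γ R₀
  · rw [HasRingHomProperty.Spec_iff (P := @LocallyOfFiniteType)]
    rw [CommRingCat.hom_ofHom, RingHom.finiteType_algebraMap]
    infer_instance
  · exact ⟨R₀, inferInstance, n, c, F₀, hG, Iso.refl _, Iso.refl _, by simp⟩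

end helpers

open AlgebraicGeometry CategoryTheory Limits in

open AlgebraicGeometry CategoryTheory Limits in
/-- Let f : X ⟶ S be a standard syntomic morphism of affine schemes. Then f is the base change of a
morphism of finite type f₀ : X₀ ⟶ S₀ between affine schemes with S₀ of finite type over ℤ and f₀
standard syntomic. -/
theorem result {X S : Scheme.{u}} (f : X ⟶ S) [IsAffine X] [IsAffine S] (hf : Synt.IsStandardSyntomic f) :
    ∃ (X₀ S₀ : Scheme.{u}) (f₀ : X₀ ⟶ S₀) (g : S ⟶ S₀) (g' : X ⟶ X₀), IsAffine X₀ ∧ IsAffine S₀ ∧ IsPullback g' f f₀ g ∧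
      Algebra.FiniteType ℤ Γ(S₀, ⊤) ∧ LocallyOfFiniteType f₀ ∧ Synt.IsStandardSyntomic f₀ := by
  exact main f hf

end Groth.Agent.S9736
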