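import Groth.Statements.S9737
import Mathlib
import Groth.Agent.Lib.Helper18.ApxT

set_option autoImplicit false
universe u
open FlatMor

namespace Groth.Agent.S9737

open AlgebraicGeometry CategoryTheory Limits in
/-- Suppose P and Q are classes of morphisms of schemes preserved by arbitrary pullback, and f : X ⟶ S
is a finitely presented morphism of affine schemes. If f arises by pullback from a finite-type
morphism f₁ : X₁ ⟶ S₁ satisfying P, and also from a finite-type morphism f₂ : X₂ ⟶ S₂ satisfying Q,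
where all four schemes are affine and Γ(S₁), Γ(S₂) are finitely generated ℤ-algebras, then f arises
by pullback from a single finite-type morphism f₀ : X₀ ⟶ S₀ of affine schemes, with Γ(S₀) finitely
generated over ℤ, satisfying both P and Q. -/
theorem result (P Q : MorphismProperty Scheme.{u}) [P.IsStableUnderBaseChange] [Q.IsStableUnderBaseChange]
    {X S : Scheme.{u}} (f : X ⟶ S) [IsAffine X] [IsAffine S] [LocallyOfFinitePresentation f]
    {X₁ S₁ X₂ S₂ : Scheme.{u}} [IsAffine X₁] [IsAffine S₁] [IsAffine X₂] [IsAffine S₂]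
    (f₁ : X₁ ⟶ S₁) (g₁ : S ⟶ S₁) (g₁' : X ⟶ X₁) (h₁ : IsPullback g₁' f f₁ g₁)
    (f₂ : X₂ ⟶ S₂) (g₂ : S ⟶ S₂) (g₂' : X ⟶ X₂) (h₂ : IsPullback g₂' f f₂ g₂)
    (hS₁ : Algebra.FiniteType ℤ Γ(S₁, ⊤)) (hS₂ : Algebra.FiniteType ℤ Γ(S₂, ⊤))
    [LocallyOfFiniteType f₁] [LocallyOfFiniteType f₂] (hP : P f₁) (hQ : Q f₂) :
    ∃ (X₀ S₀ : Scheme.{u}) (f₀ : X₀ ⟶ S₀) (g : S ⟶ S₀) (g' : X ⟶ X₀), IsAffine X₀ ∧ IsAffine S₀ ∧ IsPullback g' f f₀ g ∧
      Algebra.FiniteType ℤ Γ(S₀, ⊤) ∧ LocallyOfFiniteType f₀ ∧ P f₀ ∧ Q f₀ := by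
  have hft₁ : (f₁.appTop).hom.FiniteType :=
    (HasRingHomProperty.iff_of_isAffine (P := @LocallyOfFiniteType)).1 inferInstance
  have hft₂ : (f₂.appTop).hom.FiniteType :=
    (HasRingHomProperty.iff_of_isAffine (P := @LocallyOfFiniteType)).1 inferInstance
  have hp₁ := isPushout_appTop_of_isPullback h₁
  have hp₂ := isPushout_appTop_of_isPullback h₂
  obtain ⟨Λ, φ₁, φ₂, hΛ, hφ₁, hφ₂, C, ψ₀, ψ₁, ψ₂, hq₁, hq₂⟩ :=
    Groth.Agent.Lib.Helper18.Apx.exists_common_model_cat _ _ _ _ _ _ _ hp₁ hp₂ hS₁ hS₂ hft₁ hft₂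
  have nat : ∀ {Y Z : Scheme.{u}} [IsAffine Y] [IsAffine Z] (k : Y ⟶ Z),
      Spec.map k.appTop ≫ Z.isoSpec.inv = Y.isoSpec.inv ≫ k := by
    intro Y Z _ _ k
    rw [Iso.eq_inv_comp, ← Category.assoc, Iso.comp_inv_eq]
    exact Scheme.isoSpec_hom_naturality k
  have sq₁ : IsPullback (Spec.map ψ₁ ≫ X₁.isoSpec.inv) (Spec.map ψ₀) f₁
      (Spec.map φ₁ ≫ S₁.isoSpec.inv) := by
    refine (isPullback_SpecMap_of_isPushout _ _ _ _ hq₁).of_iso (Iso.refl _) X₁.isoSpec.symm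
      (Iso.refl _) S₁.isoSpec.symm ?_ ?_ ?_ ?_
    · simp
    · simp
    · exact nat f₁
    · simp
  have sq₂ : IsPullback (Spec.map ψ₂ ≫ X₂.isoSpec.inv) (Spec.map ψ₀) f₂
      (Spec.map φ₂ ≫ S₂.isoSpec.inv) := by
    refine (isPullback_SpecMap_of_isPushout _ _ _ _ hq₂).of_iso (Iso.refl _) X₂.isoSpec.symm
      (Iso.refl _) S₂.isoSpec.symm ?_ ?_ ?_ ?_
    · simp
    · simp
    · exact nat f₂
    · simp
  let g : S ⟶ Spec (CommRingCat.of Λ) :=
    S.isoSpec.hom ≫ Spec.map (CommRingCat.ofHom (Groth.Agent.Lib.Helper18.Fl.inc Λ))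
  have hg₁ : g ≫ (Spec.map φ₁ ≫ S₁.isoSpec.inv) = g₁ := by
    simp only [g, Category.assoc]
    rw [← Spec.map_comp_assoc, hφ₁, nat g₁, Iso.hom_inv_id_assoc]
  let g' : X ⟶ Spec C := sq₁.lift g₁' (f ≫ g) (by rw [Category.assoc, hg₁]; exact h₁.w)
  have t : IsPullback (g' ≫ (Spec.map ψ₁ ≫ X₁.isoSpec.inv)) f f₁
      (g ≫ (Spec.map φ₁ ≫ S₁.isoSpec.inv)) := by
    rw [sq₁.lift_fst, hg₁]
    exact h₁
  refine ⟨Spec C, Spec (CommRingCat.of Λ), Spec.map ψ₀, g, g', inferInstance, inferInstance,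
    IsPullback.of_right t (sq₁.lift_snd _ _ _) sq₁, ?_, ?_, P.of_isPullback sq₁ hP,
    Q.of_isPullback sq₂ hQ⟩
  · have h1 : Algebra.FiniteType ℤ Λ := (Subalgebra.fg_iff_finiteType Λ).mp hΛ
    exact Algebra.FiniteType.equiv h1
      (Scheme.ΓSpecIso (CommRingCat.of Λ)).symm.commRingCatIsoToRingEquiv.toIntAlgEquiv
  · exact MorphismProperty.of_isPullback (P := @LocallyOfFiniteType) sq₁ inferInstance

end Groth.Agent.S9737
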