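import Groth.Statements.S9739
import Mathlib
import Groth.Agent.Lib.Helper6.FlatFD1
-- import your own Groth.Agent.* helpers here

set_option autoImplicit false
universe u
open FlatMor

namespace Groth.Agent.S9739

open AlgebraicGeometry CategoryTheory Limits in
/-- Let f : X ⟶ S be flat and locally of finite presentation, and let x' ⤳ x be points of X. Assume the
closure of x in its fibre is one of that fibre's irreducible components. Then the fibre through x'
has the same local dimension at x' as the fibre through x has at x. -/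
theorem result {X S : Scheme.{u}} (f : X ⟶ S) [Flat f] [LocallyOfFinitePresentation f]
    (x x' : X) (hsp : x' ⤳ x) (hgen : ∃ Z ∈ irreducibleComponents ↥(f.fiber (f x)), IsGenericPoint (f.asFiber x) Z) :
    FlatMor.fibreDimAt f x' = FlatMor.fibreDimAt f x := by
  obtain ⟨Z, hZ, hgenZ⟩ := hgen
  haveI : LocallyOfFiniteType f := inferInstance
  have hmax : ∀ τ : X, τ ⤳ x → f τ = f x → τ = x := by
    intro τ hτ hfτ
    obtain ⟨τ', rfl⟩ : τ ∈ Set.range (f.fiberι (f x)) := by
      rw [Scheme.Hom.range_fiberι]; exact hfτ
    have h1 : τ' ⤳ f.asFiber x := by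
      rw [← (f.fiberι (f x)).isEmbedding.isInducing.specializes_iff, Scheme.Hom.fiberι_asFiber]
      exact hτ
    have h2 : Z ⊆ closure {τ'} := by
      rw [← hgenZ.def]
      exact specializes_iff_closure_subset.mp h1
    have h3 : Z = closure {τ'} := (hZ.eq_of_ge isIrreducible_singleton.closure h2).symm
    have h4 : f.asFiber x ⤳ τ' := by
      rw [specializes_iff_mem_closure, hgenZ.def, h3]
      exact subset_closure rfl
    rw [(h1.antisymm h4).eq, Scheme.Hom.fiberι_asFiber]
  obtain ⟨N, hN⟩ := Groth.Agent.Lib.Helper21.FibDim.exists_nat_trdeg_residueFieldMap f x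
  obtain ⟨W, hxW, hW⟩ := Groth.Agent.Lib.Helper6.FlatFD.exists_open_fibreDimAt_eq_of_flat f x hmax N hN
  rw [hW x' (hsp.mem_open W.2 hxW), hW x hxW]

end Groth.Agent.S9739
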