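import Groth.Statements.S9740
import Groth.Agent.Lib.Helper1.Thickening

set_option autoImplicit false
universe u
open OmegaSh

namespace Groth.Agent.S9740

open AlgebraicGeometry CategoryTheory Limits in
/-- Let h : Z ⟶ X be formally unramified with universal first order thickening (i : Z ⟶ Z', h' : Z' ⟶
X), let V ⊆ Z and U ⊆ X be opens with h(V) ⊆ U, and let V' ⊆ Z' be the open with i⁻¹(V') = V (so
h'(V') ⊆ U). Then the restricted pair (V ⟶ V', V' ⟶ U) is a universal first-order thickening for the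
restriction V ⟶ U of h. The published statement also asserts that this restriction is formally
unramified and that the conormal sheaf of Z over X restricts on V to that of V over U; this row
states only the thickening part. -/
theorem result {Z Z' X : Scheme.{u}} (h : Z ⟶ X) [FormallyUnramified h] (i : Z ⟶ Z') (h' : Z' ⟶ X)
    (hu : OmegaSh.IsUnivThickening h i h') (V : Z.Opens) (U : X.Opens) (hVU : V ≤ h ⁻¹ᵁ U)
    (V' : Z'.Opens) (hV' : i ⁻¹ᵁ V' = V) (hV'U : V' ≤ h' ⁻¹ᵁ U) :
    OmegaSh.IsUnivThickening (h.resLE U V hVU) (i.resLE V' V hV'.ge) (h'.resLE U V' hV'U) := by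
  subst hV'
  obtain ⟨hi, hih, huu⟩ := hu
  have hsurj : Function.Surjective i := by
    have := hi.1.2
    exact i.surjective
  have hpb : IsPullback (i.resLE V' (i ⁻¹ᵁ V') le_rfl) (i ⁻¹ᵁ V').ι V'.ι i := by
    rw [Scheme.Hom.resLE_eq_morphismRestrict]
    exact isPullback_morphismRestrict i V'
  refine ⟨Groth.Agent.Lib.Helper1.Thickening.isFirstOrderThickening_of_isPullback hpb hi, ?_, ?_⟩
  · rw [Scheme.Hom.resLE_comp_resLE]
    congr 1
  · intro T T' t β α ht hβ
    have htsurj : Function.Surjective t := by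
      have := ht.1.2
      exact t.surjective
    have h1 : t ≫ (β ≫ U.ι) = (α ≫ (i ⁻¹ᵁ V').ι) ≫ h := by
      rw [← Category.assoc, hβ, Category.assoc, Scheme.Hom.resLE_comp_ι, Category.assoc]
    obtain ⟨γ, ⟨hγ1, hγ2⟩, hγu⟩ := huu T T' t (β ≫ U.ι) (α ≫ (i ⁻¹ᵁ V').ι) ht h1
    have hrange : Set.range γ ⊆ Set.range V'.ι := by
      rintro _ ⟨y, rfl⟩
      obtain ⟨x, rfl⟩ := htsurj y
      have : γ (t x) = i ((i ⁻¹ᵁ V').ι (α x)) := by
        rw [← Scheme.Hom.comp_apply, hγ1]
        rfl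
      rw [this]
      have hmem : ((i ⁻¹ᵁ V').ι (α x)) ∈ i ⁻¹ᵁ V' := (α x).2
      exact ⟨⟨_, hmem⟩, rfl⟩
    refine ⟨IsOpenImmersion.lift V'.ι γ hrange, ⟨?_, ?_⟩, ?_⟩
    · rw [← cancel_mono V'.ι, Category.assoc, IsOpenImmersion.lift_fac, hγ1, Category.assoc,
        Category.assoc, Scheme.Hom.resLE_comp_ι]
    · rw [← cancel_mono U.ι, Category.assoc, Scheme.Hom.resLE_comp_ι, ← Category.assoc,
        IsOpenImmersion.lift_fac, hγ2]
    · rintro γ'' ⟨h1'', h2''⟩
      rw [← cancel_mono V'.ι, IsOpenImmersion.lift_fac]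
      apply hγu
      refine ⟨?_, ?_⟩
      · rw [← Category.assoc, h1'', Category.assoc, Scheme.Hom.resLE_comp_ι, Category.assoc]
      · rw [Category.assoc, ← Scheme.Hom.resLE_comp_ι _ hV'U, ← Category.assoc, h2'']

end Groth.Agent.S9740
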