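import Groth.Statements.S9741
import Groth.Agent.Lib.Helper1.Thickening

set_option autoImplicit false
universe u
open OmegaSh

namespace Groth.Agent.S9741

open AlgebraicGeometry CategoryTheory Limits in
/-- Let a : Z ⟶ Y and b : Y ⟶ X be formally unramified, let (i : Z ⟶ Z', c : Z' ⟶ X) be universal among
first order thickenings of Z relative to X (for a ≫ b), and (j : Y ⟶ Y', d : Y' ⟶ X) likewise for Y
relative to X (for b). Then there is a morphism of thickenings m : Z' ⟶ Y' over X (i ≫ m = a ≫ j and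
m ≫ d = c) such that Z ⟶ Y ×_{Y'} Z' (components a and i), together with the projection to Y, is
universal among first order thickenings of Z relative to Y (for a). The published statement also
asserts an exact sequence of conormal sheaves; this row states only the thickening assertion. -/
theorem result {Z Y X Z' Y' : Scheme.{u}} (a : Z ⟶ Y) (b : Y ⟶ X)
    [FormallyUnramified a] [FormallyUnramified b] (i : Z ⟶ Z') (c : Z' ⟶ X) (hZ : OmegaSh.IsUnivThickening (a ≫ b) i c)
    (j : Y ⟶ Y') (d : Y' ⟶ X) (hY : OmegaSh.IsUnivThickening b j d) :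
    ∃ (m : Z' ⟶ Y') (hm : i ≫ m = a ≫ j), m ≫ d = c ∧
      OmegaSh.IsUnivThickening a (pullback.lift a i hm.symm) (pullback.fst j m) := by
  obtain ⟨hi, hic, hZu⟩ := hZ
  obtain ⟨hj, hjd, hYu⟩ := hY
  obtain ⟨m, ⟨hm1, hm2⟩, -⟩ := hYu Z Z' i c a hi hic
  refine ⟨m, hm1, hm2, ?_⟩
  have hfst : pullback.lift a i hm1.symm ≫ pullback.fst j m = a := pullback.lift_fst _ _ _
  have hsnd : pullback.lift a i hm1.symm ≫ pullback.snd j m = i := pullback.lift_snd _ _ _
  have hsndFOT : MoreMor.IsFirstOrderThickening (pullback.snd j m) :=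
    Groth.Agent.Lib.Helper1.Thickening.isFirstOrderThickening_of_isPullback
      (IsPullback.of_hasPullback j m).flip hj
  have hmono : Mono (pullback.snd j m) := by
    have := hsndFOT.1.1
    infer_instance
  have hpb : IsPullback (pullback.lift a i hm1.symm) (𝟙 Z) (pullback.snd j m) i := by
    refine ⟨⟨by rw [hsnd, Category.id_comp]⟩, ⟨PullbackCone.IsLimit.mk _ (fun s => s.snd) ?_ ?_ ?_⟩⟩
    · intro s
      rw [← cancel_mono (pullback.snd j m), Category.assoc, hsnd, s.condition]
    · intro s
      exact Category.comp_id _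
    · intro s u _ hu
      rw [← hu, Category.comp_id]
  refine ⟨Groth.Agent.Lib.Helper1.Thickening.isFirstOrderThickening_of_isPullback hpb hi, hfst, ?_⟩
  intro T T' t β α ht hβ
  have h1 : t ≫ (β ≫ b) = α ≫ (a ≫ b) := by
    rw [← Category.assoc, hβ, Category.assoc]
  obtain ⟨γ, ⟨hγ1, hγ2⟩, hγu⟩ := hZu T T' t (β ≫ b) α ht h1
  have h2 : t ≫ (β ≫ b) = (α ≫ a) ≫ b := by rw [h1, Category.assoc]
  obtain ⟨δ, -, hδu⟩ := hYu T T' t (β ≫ b) (α ≫ a) ht h2
  have e1 : β ≫ j = δ := by
    apply hδu
    refine ⟨?_, ?_⟩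
    · rw [← Category.assoc, hβ]
    · rw [Category.assoc, hjd]
  have e2 : γ ≫ m = δ := by
    apply hδu
    refine ⟨?_, ?_⟩
    · rw [← Category.assoc, hγ1, Category.assoc, hm1, Category.assoc]
    · rw [Category.assoc, hm2, hγ2]
  refine ⟨pullback.lift β γ (e1.trans e2.symm), ⟨?_, pullback.lift_fst _ _ _⟩, ?_⟩
  · apply pullback.hom_ext
    · rw [Category.assoc, pullback.lift_fst, Category.assoc, hfst, hβ]
    · rw [Category.assoc, pullback.lift_snd, Category.assoc, hsnd, hγ1]
  · rintro a'' ⟨ha1, ha2⟩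
    apply pullback.hom_ext
    · rw [pullback.lift_fst, ha2]
    · rw [pullback.lift_snd]
      apply hγu
      refine ⟨?_, ?_⟩
      · rw [← Category.assoc, ha1, Category.assoc, hsnd]
      · rw [← hm2, Category.assoc, ← Category.assoc (pullback.snd j m), ← pullback.condition, Category.assoc, hjd, ← Category.assoc, ha2]

end Groth.Agent.S9741
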