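import Groth.Statements.S9750
import Mathlib
import Groth.Agent.Helper19.UnivConormal
import Groth.Agent.Lib.Helper11.FormalEtale
import Groth.Agent.Lib.Helper1.Thickening
import Groth.Agent.Lib.Helper10.UnivThick2
import Groth.Agent.S1516
-- import your own Groth.Agent.* helpers here

set_option autoImplicit false
universe u
open FlatMor

namespace Groth.Agent.S9750

section helpers

open AlgebraicGeometry CategoryTheory Limits TopologicalSpace
open Groth.Agent.Lib.Helper29.QCoh Groth.Agent.Helper19.OmegaD Groth.Agent.Helper19.OmegaLocal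
open Groth.Agent.Helper19.OmegaAlg Groth.Agent.Helper19.Conormal
open Groth.Agent.Helper19.UnivChart Groth.Agent.Helper19.UnivRing Groth.Agent.Helper19.UnivConormal
open Groth.Agent.Lib.Helper10.UnivThick

variable {X S : Scheme.{u}} (f : X ⟶ S)

theorem formallyUnramified_of_etale (hf : MoreMor.IsFormallyEtaleHom f) : FormallyUnramified f := by
  refine ⟨fun {V} hV {U} hU hUV => ?_⟩
  have := Groth.Agent.Lib.Helper11.FormalEtale.formallyEtale_appLE_of_isFormallyEtaleHom f hf U V
    hU hV hUV
  letI := (f.appLE V U hUV).hom.toAlgebra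
  show Algebra.FormallyUnramified Γ(S, V) Γ(X, U)
  infer_instance

theorem fot_id : MoreMor.IsFirstOrderThickening (𝟙 X) := by
  refine ⟨⟨inferInstance, inferInstance⟩, ?_⟩
  rw [Scheme.Hom.ker_eq_bot_of_isIso]
  exact Scheme.IdealSheafData.mul_bot _

theorem univ_of_etale (hf : MoreMor.IsFormallyEtaleHom f) : OmegaSh.IsUnivThickening f (𝟙 X) f := by
  refine ⟨fot_id, Category.id_comp f, ?_⟩
  intro T T' j b a hj w
  have := Groth.Agent.S1516.result f hf j hj a b w
  simpa only [Category.comp_id] using this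

theorem etale_of_univ (hu : OmegaSh.IsUnivThickening f (𝟙 X) f) : MoreMor.IsFormallyEtaleHom f := by
  intro A _ I hI a b w
  have hj : MoreMor.IsFirstOrderThickening
      (Spec.map (CommRingCat.ofHom (Ideal.Quotient.mk I))) := by
    apply Groth.Agent.Lib.Helper1.Thickening.isFirstOrderThickening_SpecMap
    · exact Ideal.Quotient.mk_surjective
    · change RingHom.ker (Ideal.Quotient.mk I) ^ 2 = ⊥
      rw [Ideal.mk_ker]; exact hI
  have := hu.2.2 _ _ _ b a hj w
  simpa only [Category.comp_id] using this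

/-- The chart opens. -/
def chartB {X' : Scheme.{u}} (i : X ⟶ X') : Set X.Opens :=
  {W | ∃ U' : X'.Opens, IsAffineOpen U' ∧ W = i ⁻¹ᵁ U'}

theorem isBasis_chartB {X' : Scheme.{u}} (i : X ⟶ X') (hi : MoreMor.IsFirstOrderThickening i) :
    Opens.IsBasis (chartB i) := by
  rw [Opens.isBasis_iff_nbhd]
  intro N z hz
  obtain ⟨O, hO⟩ := fot_exists_opens hi N
  have hzO : i z ∈ O := by
    have : z ∈ i ⁻¹ᵁ O := by rw [hO]; exact hz
    exact this
  obtain ⟨U', hU', hzU', hU'le⟩ := exists_isAffineOpen_mem_and_subset (x := i z) (U := O) hzO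
  refine ⟨i ⁻¹ᵁ U', ⟨U', hU', rfl⟩, hzU', ?_⟩
  intro x hx
  have h2 : x ∈ i ⁻¹ᵁ O := hU'le hx
  rw [hO] at h2
  exact h2

theorem conormal_isZero_iff {X' : Scheme.{u}} (i : X ⟶ X') (hi : MoreMor.IsFirstOrderThickening i) :
    IsZero (Omega.conormal i) ↔ i.ker = ⊥ := by
  haveI : IsClosedImmersion i := hi.1.1
  have hB := isBasis_chartB i hi
  constructor
  · intro hz
    have h0 : ∀ (W : X.Opens) (m : Γ(Omega.conormal i, W)), m = 0 := by
      intro W m
      have h1 : (𝟙 (Omega.conormal i)) = 0 := hz.eq_of_src _ _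
      have h2 := congrArg (fun q => (Scheme.Modules.Hom.app q W) m) h1
      exact h2
    apply Scheme.IdealSheafData.ext
    funext U'
    obtain ⟨U', hU'⟩ := U'
    change _ = (⊥ : Ideal _)
    rw [eq_bot_iff]
    intro x hx
    have hW : IsAffineOpen (i ⁻¹ᵁ U') := isAffineOpen_preimage_of_fot hi hU'
    have cC : IsClosedChart i hU' (le_refl (i ⁻¹ᵁ U')) := isClosedChart_fot i hU'
    have h3 := h0 _ (clsV i hU' (le_refl (i ⁻¹ᵁ U')) ⟨x, hx⟩)
    rw [clsV_eq_zero_iff hW cC, ideal_sq_eq_bot i hi hU'] at h3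
    exact h3
  · intro hk
    rw [IsZero.iff_id_eq_zero]
    apply hom_ext_of_basis _ hB
    rintro W ⟨U', hU', rfl⟩ m
    have hW : IsAffineOpen (i ⁻¹ᵁ U') := isAffineOpen_preimage_of_fot hi hU'
    have cC : IsClosedChart i hU' (le_refl (i ⁻¹ᵁ U')) := isClosedChart_fot i hU'
    obtain ⟨x, rfl⟩ := exists_clsV_eq hW cC m
    have hx : x.1 ∈ (i.ker.ideal ⟨U', hU'⟩) ^ 2 := by
      have h4 : i.ker.ideal ⟨U', hU'⟩ = (⊥ : Ideal _) := by rw [hk]; rfl
      have h5 : ∀ y : Γ(X', U'), y ∈ i.ker.ideal ⟨U', hU'⟩ → y = 0 := by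
        intro y hy
        rw [h4] at hy
        exact hy
      have h2 : x.1 = 0 := h5 x.1 x.2
      rw [h2]; exact zero_mem _
    have h3 := (clsV_eq_zero_iff hW cC x).mpr hx
    rw [h3, map_zero, map_zero]

end helpers

open AlgebraicGeometry CategoryTheory Limits in

open AlgebraicGeometry CategoryTheory Limits in
/-- (1) ⇔ (2) ⇔ (3): a morphism f : X ⟶ S is formally étale (unique infinitesimal lifting against
square-zero thickenings of affine schemes) if and only if f is formally unramified and X, through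
the identity and f, is its own universal square-zero (first order) thickening relative to f; and,
for f formally unramified with universal first order thickening data (i : X ⟶ X', h' : X' ⟶ S), f is
formally étale if and only if the conormal sheaf of i (the conormal sheaf of f) is zero. The
published statement also lists a fourth equivalent condition, the vanishing of both the sheaf of
differentials and the conormal sheaf; this row omits it. -/
theorem result {X S : Scheme.{u}} (f : X ⟶ S) :
    (MoreMor.IsFormallyEtaleHom f ↔ FormallyUnramified f ∧ OmegaSh.IsUnivThickening f (𝟙 X) f) ∧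
    (∀ {X' : Scheme.{u}} (i : X ⟶ X') (h' : X' ⟶ S) [QuasiCompact i], FormallyUnramified f →
      OmegaSh.IsUnivThickening f i h' → (MoreMor.IsFormallyEtaleHom f ↔ IsZero (Omega.conormal i))) := by
  refine ⟨⟨fun hf => ⟨formallyUnramified_of_etale f hf, univ_of_etale f hf⟩,
    fun h => etale_of_univ f h.2⟩, ?_⟩
  intro X' i h' _ _ hu
  haveI : IsClosedImmersion i := hu.1.1.1
  rw [conormal_isZero_iff i hu.1, ← IsClosedImmersion.isIso_iff_ker_eq_bot]
  constructor
  · intro hf
    obtain ⟨e, he1, he2⟩ := Groth.Agent.Lib.Helper10.UnivThick.exists_iso_of_isUnivThickening f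
      (𝟙 X) f i h' (univ_of_etale f hf) hu
    rw [Category.id_comp] at he1
    rw [← he1]
    infer_instance
  · intro hiso
    apply etale_of_univ
    refine ⟨fot_id, Category.id_comp f, ?_⟩
    intro T T' j b a hj w
    obtain ⟨a', ⟨ha1, ha2⟩, hau⟩ := hu.2.2 T T' j b a hj w
    refine ⟨a' ≫ inv i, ⟨?_, ?_⟩, ?_⟩
    · rw [← Category.assoc, ha1, Category.assoc, IsIso.hom_inv_id]
    · rw [← hu.2.1, Category.assoc, IsIso.inv_hom_id_assoc, ha2]
    · rintro l ⟨hl1, hl2⟩
      rw [Category.comp_id] at hl1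
      have := hau (l ≫ i) ⟨by rw [← Category.assoc, hl1], by rw [Category.assoc, hu.2.1, hl2]⟩
      rw [← this, Category.assoc, IsIso.hom_inv_id, Category.comp_id]

end Groth.Agent.S9750
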