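import Groth.Statements.S9756
import Groth.Agent.S9501
import Groth.Agent.Lib.Helper14.FibCrit
import Groth.Agent.Lib27.Flat.SliceNZD
import Groth.Agent.Lib27.Sch.StalkTools
import Groth.Agent.Lib27.Sch.FibInjSch

set_option autoImplicit false
universe u
open FlatMor

namespace Groth.Agent.S9756

section helpers

open AlgebraicGeometry CategoryTheory Limits Function
open Groth.Agent.Lib27.StalkTools Groth.Agent.Lib27.LocalCore

theorem exists_regular_of_one_le_depth {R : Type u} [CommRing R] [IsLocalRing R]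
    (h : 1 ≤ LocCoh.depth R R) : ∃ r ∈ IsLocalRing.maximalIdeal R, IsSMulRegular R r := by
  classical
  unfold LocCoh.depth LocCoh.idealDepth at h
  have hne : ¬ (IsLocalRing.maximalIdeal R • (⊤ : Submodule R R) = ⊤) := by
    rw [smul_eq_mul, Ideal.mul_top]
    exact Ideal.IsMaximal.ne_top inferInstance
  rw [if_neg hne] at h
  by_contra hcon
  push_neg at hcon
  have h0 : (⨆ (rs : List R) (_ : RingTheory.Sequence.IsWeaklyRegular R rs ∧
      ∀ r ∈ rs, r ∈ IsLocalRing.maximalIdeal R), (rs.length : ℕ∞)) ≤ 0 := by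
    refine iSup₂_le fun rs hrs => ?_
    cases rs with
    | nil => simp
    | cons a l =>
      exfalso
      have h1 := (RingTheory.Sequence.isWeaklyRegular_cons_iff R a l).mp hrs.1
      exact hcon a (hrs.2 a (List.mem_cons_self ..)) h1.1
  have : (1 : ℕ∞) ≤ 0 := h.trans h0
  simp at this

theorem exists_lift {X S : Scheme.{u}} (f : X ⟶ S) (x : X)
    (hdepth : 1 ≤ LocCoh.depth ↑((f.fiber (f x)).presheaf.stalk (f.asFiber x))
      ↑((f.fiber (f x)).presheaf.stalk (f.asFiber x))) :
    ∃ r : X.presheaf.stalk x, r ∈ IsLocalRing.maximalIdeal (X.presheaf.stalk x) ∧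
      ∀ z : X.presheaf.stalk x,
        r * z ∈ Ideal.map (f.stalkMap x).hom (IsLocalRing.maximalIdeal (S.presheaf.stalk (f x))) →
        z ∈ Ideal.map (f.stalkMap x).hom (IsLocalRing.maximalIdeal (S.presheaf.stalk (f x))) := by
  obtain ⟨rb, hrbm, hrbreg⟩ := exists_regular_of_one_le_depth hdepth
  have e : x = (f.fiberι (f x)) (f.asFiber x) := (Scheme.Hom.fiberι_asFiber f x).symm
  obtain ⟨hs, hk⟩ := Groth.Agent.S9501.result f (f x) (f.asFiber x)
  obtain ⟨hsurj, hker⟩ := Groth.Agent.Lib.Helper14.AS.ker_stalkCongr_comp f e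
    ((f.fiberι (f x)).stalkMap (f.asFiber x)) hs hk
  set σ := ((X.presheaf.stalkCongr (.of_eq e)).hom ≫
    (f.fiberι (f x)).stalkMap (f.asFiber x)).hom with hσ
  obtain ⟨r, hr⟩ := hsurj rb
  refine ⟨r, ?_, ?_⟩
  · rw [IsLocalRing.mem_maximalIdeal, mem_nonunits_iff]
    intro hu
    have : IsUnit (σ r) := hu.map σ
    rw [hr] at this
    exact (IsLocalRing.mem_maximalIdeal _).mp hrbm this
  · intro z hz
    rw [← hker, RingHom.mem_ker] at hz ⊢
    rw [map_mul, hr] at hz
    apply hrbreg
    change rb * σ z = rb * 0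
    rw [hz, mul_zero]

end helpers


open AlgebraicGeometry CategoryTheory Limits in
/-- Let f : X ⟶ S be locally of finite presentation and flat at a point x, and assume the local ring of
the fibre X_{f x} at x has depth at least 1. Then there are an affine open U ∋ x and a
nonzerodivisor h' of Γ(X, U) vanishing at x such that the closed subscheme V(h') of U, an effective
Cartier divisor through x, is flat and locally of finite presentation over S. The published
statement concludes that V(h') ⟶ S is of finite presentation; this row concludes only that it is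
flat and locally of finite presentation, which is what the published argument (slicing by a lift of
a fibrewise nonzerodivisor) yields, and which is equivalent when S is quasi-separated, V(h') being
affine. -/
theorem result {X S : Scheme.{u}} (f : X ⟶ S) [LocallyOfFinitePresentation f] (x : X)
    (hflat : (f.stalkMap x).hom.Flat)
    (hdepth : 1 ≤ LocCoh.depth ↑((f.fiber (f x)).presheaf.stalk (f.asFiber x)) ↑((f.fiber (f x)).presheaf.stalk (f.asFiber x))) :
    ∃ (U : X.Opens) (hU : IsAffineOpen U) (hx : x ∈ U) (h' : Γ(X, U)), h' ∈ nonZeroDivisors Γ(X, U) ∧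
      X.presheaf.germ U x hx h' ∈ IsLocalRing.maximalIdeal ↑(X.presheaf.stalk x) ∧
      Flat (Spec.map (CommRingCat.ofHom (Ideal.Quotient.mk (Ideal.span {h'}))) ≫ hU.fromSpec ≫ f) ∧
      LocallyOfFinitePresentation (Spec.map (CommRingCat.ofHom (Ideal.Quotient.mk (Ideal.span {h'}))) ≫ hU.fromSpec ≫ f) := by
  classical
  obtain ⟨r, hrm, hrreg⟩ := exists_lift f x hdepth
  obtain ⟨U, V, hU, hV, hUV, hxU⟩ := Groth.Agent.Lib27.FibInjSch.exists_affine_pair f x
  have hfp : RingHom.FinitePresentation (f.appLE V U hUV).hom :=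
    HasRingHomProperty.appLE (P := @LocallyOfFinitePresentation) f inferInstance ⟨V, hV⟩ ⟨U, hU⟩
      hUV
  letI algAB : Algebra Γ(S, V) Γ(X, U) := (f.appLE V U hUV).hom.toAlgebra
  haveI : Algebra.FinitePresentation Γ(S, V) Γ(X, U) := hfp
  letI algBBq : Algebra Γ(X, U) (X.presheaf.stalk x) :=
    TopCat.Presheaf.algebra_section_stalk X.presheaf ⟨x, hxU⟩
  haveI hloc := hU.isLocalization_stalk ⟨x, hxU⟩
  letI algABq : Algebra Γ(S, V) (X.presheaf.stalk x) :=
    ((X.presheaf.germ U x hxU).hom.comp (f.appLE V U hUV).hom).toAlgebra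
  haveI : IsScalarTower Γ(S, V) Γ(X, U) (X.presheaf.stalk x) :=
    IsScalarTower.of_algebraMap_eq (fun _ => rfl)
  set q := (hU.primeIdealOf ⟨x, hxU⟩).asIdeal with hq
  have hfx : f x ∈ V := hUV hxU
  haveI hflA : Module.Flat Γ(S, V) (X.presheaf.stalk x) := by
    letI algAy : Algebra Γ(S, V) (S.presheaf.stalk (f x)) :=
      TopCat.Presheaf.algebra_section_stalk S.presheaf ⟨f x, hfx⟩
    haveI := hV.isLocalization_stalk ⟨f x, hfx⟩
    have h1 : (S.presheaf.germ V (f x) hfx).hom.Flat := by
      have : Module.Flat Γ(S, V) (S.presheaf.stalk (f x)) :=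
        IsLocalization.flat _ (hV.primeIdealOf ⟨f x, hfx⟩).asIdeal.primeCompl
      exact RingHom.flat_algebraMap_iff.mpr this
    have h2 : ((f.stalkMap x).hom.comp (S.presheaf.germ V (f x) hfx).hom).Flat :=
      RingHom.Flat.comp h1 hflat
    have h3 : (f.stalkMap x).hom.comp (S.presheaf.germ V (f x) hfx).hom =
        (X.presheaf.germ U x hxU).hom.comp (f.appLE V U hUV).hom :=
      RingHom.ext fun r => (Groth.Agent.Lib.Helper8.FlatAffine.germ_appLE f hUV x hxU r).symm
    rw [h3] at h2
    exact h2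
  obtain ⟨⟨b, s⟩, hbs⟩ := IsLocalization.surj q.primeCompl r
  have hsu : IsUnit (algebraMap Γ(X, U) (X.presheaf.stalk x) s) := IsLocalization.map_units _ s
  have hJ : Ideal.map (f.stalkMap x).hom (IsLocalRing.maximalIdeal (S.presheaf.stalk (f x))) =
      Groth.Agent.Lib27.LocalCore.fibIdeal (A := Γ(S, V)) q (X.presheaf.stalk x) :=
    Groth.Agent.Lib27.StalkTools.map_stalkMap_maximalIdeal f hU hV hUV x hxU
  rw [hJ] at hrreg
  have hreg : ∀ z : X.presheaf.stalk x,
      algebraMap Γ(X, U) (X.presheaf.stalk x) b * z ∈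
        Groth.Agent.Lib27.LocalCore.fibIdeal (A := Γ(S, V)) q (X.presheaf.stalk x) →
      z ∈ Groth.Agent.Lib27.LocalCore.fibIdeal (A := Γ(S, V)) q (X.presheaf.stalk x) := by
    intro z hz
    rw [← hbs, mul_assoc] at hz
    have h1 := hrreg _ hz
    obtain ⟨u, hu⟩ := hsu
    have : z = ↑u⁻¹ * (algebraMap Γ(X, U) (X.presheaf.stalk x) s * z) := by
      rw [← hu, ← mul_assoc, Units.inv_mul, one_mul]
    rw [this]
    exact Ideal.mul_mem_left _ _ h1
  obtain ⟨a, haq, hslice⟩ := Groth.Agent.Lib27.SliceNZD.exists_slice (A := Γ(S, V)) q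
    (X.presheaf.stalk x) b hreg
  have hU' : IsAffineOpen (X.basicOpen a) := hU.basicOpen a
  have hxU' : x ∈ X.basicOpen a := by
    rw [Scheme.mem_basicOpen X a x hxU]
    exact (IsLocalization.AtPrime.isUnit_to_map_iff (X.presheaf.stalk x) q a).mpr haq
  have hU'V : X.basicOpen a ≤ f ⁻¹ᵁ V := le_trans (X.basicOpen_le a) hUV
  haveI := hU.isLocalization_basicOpen a
  letI algABa : Algebra Γ(S, V) Γ(X, X.basicOpen a) := (f.appLE V (X.basicOpen a) hU'V).hom.toAlgebra
  haveI : IsScalarTower Γ(S, V) Γ(X, U) Γ(X, X.basicOpen a) :=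
    IsScalarTower.of_algebraMap_eq (fun t =>
      (congr($(Scheme.Hom.appLE_map f hUV (homOfLE (X.basicOpen_le a)).op).hom t)).symm)
  obtain ⟨hnzd, hflat'⟩ := hslice Γ(X, X.basicOpen a)
  refine ⟨X.basicOpen a, hU', hxU', algebraMap Γ(X, U) Γ(X, X.basicOpen a) b, hnzd, ?_, ?_, ?_⟩
  · have h1 : X.presheaf.germ (X.basicOpen a) x hxU' (algebraMap Γ(X, U) Γ(X, X.basicOpen a) b) =
        algebraMap Γ(X, U) (X.presheaf.stalk x) b :=
      TopCat.Presheaf.germ_res_apply X.presheaf (homOfLE (X.basicOpen_le a)) x hxU' b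
    rw [h1, ← hbs]
    exact Ideal.mul_mem_right _ _ hrm
  · rw [← IsAffineOpen.SpecMap_appLE_fromSpec f hV hU' hU'V, ← Spec.map_comp_assoc]
    haveI : Flat (Spec.map (f.appLE V (X.basicOpen a) hU'V ≫ CommRingCat.ofHom (Ideal.Quotient.mk
        (Ideal.span {algebraMap Γ(X, U) Γ(X, X.basicOpen a) b})))) := by
      rw [Flat.SpecMap_iff]
      exact RingHom.flat_algebraMap_iff.mpr hflat'
    infer_instance
  · haveI : LocallyOfFinitePresentation (Spec.map (CommRingCat.ofHom (Ideal.Quotient.mk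
        (Ideal.span {algebraMap Γ(X, U) Γ(X, X.basicOpen a) b})))) := by
      rw [HasRingHomProperty.Spec_iff (P := @LocallyOfFinitePresentation)]
      refine RingHom.FinitePresentation.of_surjective _ Ideal.Quotient.mk_surjective ?_
      rw [CommRingCat.hom_ofHom, Ideal.mk_ker]
      exact ⟨{algebraMap Γ(X, U) Γ(X, X.basicOpen a) b}, by simp⟩
    infer_instance

end Groth.Agent.S9756
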