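import Groth.Statements.S9757
import Mathlib
import Groth.Agent.Lib.Helper6.FlatFD1
-- import your own Groth.Agent.* helpers here

set_option autoImplicit false
universe u
open FlatMor

namespace Groth.Agent.S9757

open AlgebraicGeometry CategoryTheory Limits in
/-- Suppose the morphism f : X ⟶ S is flat and locally of finite presentation. Then X contains open
subsets U_d, indexed by d ∈ ℕ, such that for every s ∈ S the union of all U_d intersects the fibre
X_s in a dense subset of X_s, and each U_d ⟶ S is of relative dimension d. Because U_d is open in X,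
this is the same as requiring that at every point x of U_d the fibre of f containing x has local
dimension d at x; that pointwise form is the one this row uses. -/
theorem result {X S : Scheme.{u}} (f : X ⟶ S) [Flat f] [LocallyOfFinitePresentation f] :
    ∃ U : ℕ → X.Opens, (∀ s : S, Dense ((f.fiberι s) ⁻¹' ((⨆ d, U d : X.Opens) : Set ↑X))) ∧
      ∀ (d : ℕ) (x : ↑X), x ∈ U d → FlatMor.fibreDimAt f x = d := by
  haveI : LocallyOfFiniteType f := inferInstance
  refine ⟨fun d => ⟨interior {x : X | FlatMor.fibreDimAt f x = d}, isOpen_interior⟩, ?_, ?_⟩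
  · intro s
    rw [dense_iff_inter_open]
    rintro O hO ⟨y, hy⟩
    -- a maximal generisation of `y` in the fibre
    obtain ⟨ζ', hζ'y, hζ'max⟩ : ∃ ζ' : ↥(f.fiber s), ζ' ⤳ y ∧ ∀ t : ↥(f.fiber s), t ⤳ ζ' → t = ζ' := by
      obtain ⟨ζ, hζ⟩ := QuasiSober.sober (isIrreducible_irreducibleComponent (x := y))
        isClosed_irreducibleComponent
      refine ⟨ζ, hζ.specializes mem_irreducibleComponent, fun t ht => ?_⟩
      have h1 : irreducibleComponent y ⊆ closure {t} := by
        rw [← hζ.def]
        exact (specializes_iff_closure_subset.mp ht)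
      have h2 : closure {t} = irreducibleComponent y :=
        eq_irreducibleComponent isIrreducible_singleton.closure.isPreirreducible h1
      have h3 : IsGenericPoint t (irreducibleComponent y) := h2
      exact h3.eq hζ
    have hfζ : f (f.fiberι s ζ') = s := (f.fiberHomeo s ζ').2
    have hmax : ∀ τ : X, τ ⤳ f.fiberι s ζ' → f τ = f (f.fiberι s ζ') → τ = f.fiberι s ζ' := by
      intro τ hτ hfτ
      obtain ⟨τ', rfl⟩ : τ ∈ Set.range (f.fiberι s) := by
        rw [Scheme.Hom.range_fiberι]; exact hfτ.trans hfζ
      have h1 : τ' ⤳ ζ' := (f.fiberι s).isEmbedding.isInducing.specializes_iff.mp hτ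
      rw [hζ'max τ' h1]
    obtain ⟨N, hN⟩ := Groth.Agent.Lib.Helper21.FibDim.exists_nat_trdeg_residueFieldMap f (f.fiberι s ζ')
    obtain ⟨W, hζW, hW⟩ := Groth.Agent.Lib.Helper6.FlatFD.exists_open_fibreDimAt_eq_of_flat f
      (f.fiberι s ζ') hmax N hN
    refine ⟨ζ', hζ'y.mem_open hO hy, ?_⟩
    rw [Set.mem_preimage, TopologicalSpace.Opens.coe_iSup]
    refine Set.mem_iUnion.mpr ⟨N, ?_⟩
    exact mem_interior.mpr ⟨W, fun x hx => hW x hx, W.2, hζW⟩
  · intro d x hx
    have hx' : x ∈ interior {x : X | FlatMor.fibreDimAt f x = d} := hx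
    have h2 : x ∈ {x : X | FlatMor.fibreDimAt f x = d} := interior_subset hx'
    exact h2

end Groth.Agent.S9757
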