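import Groth.Statements.S9759
import Mathlib
import Groth.Agent.Lib.Helper18.FlL

set_option autoImplicit false
universe u
open FlatMor

namespace Groth.Agent.S9759

open AlgebraicGeometry CategoryTheory Limits in
/-- Let f : X ⟶ S be a flat morphism of finite presentation between affine schemes. Then f is the base
change of a morphism of finite type f₀ : X₀ ⟶ S₀ between affine schemes with S₀ of finite type over
ℤ and f₀ flat. -/
theorem result {X S : Scheme.{u}} (f : X ⟶ S) [IsAffine X] [IsAffine S] [LocallyOfFinitePresentation f] [Flat f] :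
    ∃ (X₀ S₀ : Scheme.{u}) (f₀ : X₀ ⟶ S₀) (g : S ⟶ S₀) (g' : X ⟶ X₀), IsAffine X₀ ∧ IsAffine S₀ ∧ IsPullback g' f f₀ g ∧
      Algebra.FiniteType ℤ Γ(S₀, ⊤) ∧ LocallyOfFiniteType f₀ ∧ Flat f₀ := by
  classical
  letI : Algebra Γ(S, ⊤) Γ(X, ⊤) := f.appTop.hom.toAlgebra
  have hfp : f.appTop.hom.FinitePresentation :=
    (HasRingHomProperty.iff_of_isAffine (P := @LocallyOfFinitePresentation)).mp inferInstance
  have hfl : f.appTop.hom.Flat :=
    (HasRingHomProperty.iff_of_isAffine (P := @Flat)).mp inferInstance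
  haveI : Algebra.FinitePresentation Γ(S, ⊤) Γ(X, ⊤) := hfp
  haveI : Module.Flat Γ(S, ⊤) Γ(X, ⊤) := hfl
  obtain ⟨R₀, _, _, S₀, _, _, _, _, _, _, hR₀, hS₀, hflat, hpo⟩ :=
    Groth.Agent.Lib.Helper18.Fl.exists_finiteType_int_flat_algebra_model Γ(S, ⊤) Γ(X, ⊤)
  refine ⟨Spec (.of S₀), Spec (.of R₀), Spec.map (CommRingCat.ofHom (algebraMap R₀ S₀)),
    S.isoSpec.hom ≫ Spec.map (CommRingCat.ofHom (algebraMap R₀ Γ(S, ⊤))),
    X.isoSpec.hom ≫ Spec.map (CommRingCat.ofHom (algebraMap S₀ Γ(X, ⊤))),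
    inferInstance, inferInstance, ?_, ?_, ?_, ?_⟩
  · have h1 := CommRingCat.isPushout_of_isPushout R₀ Γ(S, ⊤) S₀ Γ(X, ⊤)
    have h2 := (isPullback_SpecMap_of_isPushout _ _ _ _ h1).flip
    refine h2.of_iso X.isoSpec.symm (Iso.refl _) S.isoSpec.symm (Iso.refl _) ?_ ?_ ?_ ?_
    · simp
    · have : CommRingCat.ofHom (algebraMap Γ(S, ⊤) Γ(X, ⊤)) = f.appTop := rfl
      rw [this]
      exact Scheme.isoSpec_inv_naturality f
    · simp
    · simp
  · exact hR₀.equiv (Scheme.ΓSpecIso (.of R₀)).commRingCatIsoToRingEquiv.symm.toIntAlgEquiv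
  · rw [HasRingHomProperty.Spec_iff (P := @LocallyOfFiniteType)]
    exact RingHom.finiteType_algebraMap.mpr hS₀
  · rw [HasRingHomProperty.Spec_iff (P := @Flat)]
    exact RingHom.flat_algebraMap_iff.mpr hflat

end Groth.Agent.S9759
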