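import Groth.Statements.S9761
import Mathlib
import Groth.Agent.Lib.Helper18.FlO

set_option autoImplicit false
universe u
open FlatMor

namespace Groth.Agent.S9761

open AlgebraicGeometry CategoryTheory Limits in
/-- For a finitely presented morphism f : X ⟶ S of affine schemes and a quasi-coherent, finitely
presented O_X-module F that is flat over S, f is the base change along some g' : X ⟶ X₀ of a finite
type morphism f₀ : X₀ ⟶ S₀ of affine schemes with S₀ of finite type over ℤ, and some coherent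
O_{X₀}-module F₀, flat over S₀, satisfies g'^*F₀ ≅ F. -/
theorem result {X S : Scheme.{u}} (f : X ⟶ S) [IsAffine X] [IsAffine S] [LocallyOfFinitePresentation f]
    (F : X.Modules) [Coh.IsQCoh F] (hF : CohB1.IsFP F) (hfl : FlatMod.IsFlatOver f F) :
    ∃ (X₀ S₀ : Scheme.{u}) (f₀ : X₀ ⟶ S₀) (g : S ⟶ S₀) (g' : X ⟶ X₀), IsAffine X₀ ∧ IsAffine S₀ ∧ IsPullback g' f f₀ g ∧
      Algebra.FiniteType ℤ Γ(S₀, ⊤) ∧ LocallyOfFiniteType f₀ ∧
      ∃ F₀ : X₀.Modules, Coh.IsCoh F₀ ∧ FlatMod.IsFlatOver f₀ F₀ ∧ Nonempty ((Scheme.Modules.pullback g').obj F₀ ≅ F) := by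
  classical
  letI : Algebra Γ(S, ⊤) Γ(X, ⊤) := f.appTop.hom.toAlgebra
  have hfp : f.appTop.hom.FinitePresentation :=
    (HasRingHomProperty.iff_of_isAffine (P := @LocallyOfFinitePresentation)).mp inferInstance
  haveI : Algebra.FinitePresentation Γ(S, ⊤) Γ(X, ⊤) := hfp
  haveI : F.IsFinitePresentation := hF
  haveI : Module.FinitePresentation Γ(X, ⊤) Γ(F, ⊤) :=
    Groth.Agent.Lib.Helper29.QCoh.module_finitePresentation_of_isFinitePresentation F
      (isAffineOpen_top X)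
  letI : Module Γ(S, ⊤) Γ(F, ⊤) := Module.compHom _ f.appTop.hom
  haveI : IsScalarTower Γ(S, ⊤) Γ(X, ⊤) Γ(F, ⊤) :=
    IsScalarTower.of_algebraMap_smul (fun _ _ => rfl)
  haveI : Module.Flat Γ(S, ⊤) Γ(F, ⊤) :=
    Groth.Agent.Lib.Helper18.Fl.flat_sections_top_of_isFlatOver f F hfl
  obtain ⟨R₀, _, _, S₀, _, _, _, _, _, _, M₀, _, _, _, _, _, _, φ, hR₀, hS₀, hfin, hflat, hpo,
    hbc⟩ := Groth.Agent.Lib.Helper18.Fl.exists_finiteType_int_model Γ(S, ⊤) Γ(X, ⊤) Γ(F, ⊤)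
  obtain ⟨e⟩ := Groth.Agent.Lib.Helper18.Fl.exists_pullback_tilde_iso F M₀ φ hbc
  haveI : Module.Finite (CommRingCat.of S₀) (ModuleCat.of S₀ M₀) := hfin
  refine ⟨Spec (.of S₀), Spec (.of R₀), Spec.map (CommRingCat.ofHom (algebraMap R₀ S₀)),
    S.isoSpec.hom ≫ Spec.map (CommRingCat.ofHom (algebraMap R₀ Γ(S, ⊤))),
    X.isoSpec.hom ≫ Spec.map (CommRingCat.ofHom (algebraMap S₀ Γ(X, ⊤))),
    inferInstance, inferInstance, ?_, ?_, ?_,
    tilde (R := CommRingCat.of S₀) (ModuleCat.of S₀ M₀),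
    ⟨inferInstance, Groth.Agent.Lib.Helper29.QCoh.isFiniteType_tilde _⟩,
    Groth.Agent.Lib.Helper18.Fl.isFlatOver_SpecMap_tilde M₀, ⟨e⟩⟩
  · have h1 := CommRingCat.isPushout_of_isPushout R₀ Γ(S, ⊤) S₀ Γ(X, ⊤)
    have h2 := (isPullback_SpecMap_of_isPushout _ _ _ _ h1).flip
    refine h2.of_iso X.isoSpec.symm (Iso.refl _) S.isoSpec.symm (Iso.refl _) ?_ ?_ ?_ ?_
    · simp
    · have : CommRingCat.ofHom (algebraMap Γ(S, ⊤) Γ(X, ⊤)) = f.appTop := rfl
      rw [this]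
      exact Scheme.isoSpec_inv_naturality f
    · simp
    · simp
  · exact hR₀.equiv (Scheme.ΓSpecIso (.of R₀)).commRingCatIsoToRingEquiv.symm.toIntAlgEquiv
  · rw [HasRingHomProperty.Spec_iff (P := @LocallyOfFiniteType)]
    exact RingHom.finiteType_algebraMap.mpr hS₀

end Groth.Agent.S9761
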