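import Groth.Statements.S9762
import Mathlib
import Groth.Agent.Lib.Helper6.EtLocScheme4
import Groth.Agent.Lib.Helper13.QuasiFiniteBaseChange
-- import your own Groth.Agent.* helpers here

set_option autoImplicit false
universe u
open FlatMor

namespace Groth.Agent.S9762

open AlgebraicGeometry CategoryTheory Limits in
/-- For f : X ⟶ S separated and locally of finite type, and a point s of S such that only finitely many
points of the fibre over s are isolated, some elementary étale neighbourhood (U, u) of (S, s) admits
an open and closed V ⊆ U ×_S X, finite over U, such that no point of the fibre over u lying outside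
V is isolated in that fibre. The published statement also asserts that the complement of V has empty
fibre over u when the fibre over s is finite; this row omits that clause. -/
theorem result {X S : Scheme.{u}} (f : X ⟶ S) [LocallyOfFiniteType f] [IsSeparated f] (s : S)
    (hfin : {x : ↑(f.fiber s) | IsOpen ({x} : Set ↑(f.fiber s))}.Finite) :
    ∃ (U : Scheme.{u}) (g : U ⟶ S) (u : U), Hens2.IsEtaleNbhd g u s ∧
      ∃ V : (pullback f g).Opens, IsClopen (V : Set ↑(pullback f g)) ∧ IsFinite (V.ι ≫ pullback.snd f g) ∧
        ∀ w : ↑((pullback.snd f g).fiber u), (pullback.snd f g).fiberι u w ∉ V →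
          ¬ IsOpen ({w} : Set ↑((pullback.snd f g).fiber u)) := by
  classical
  let I : Set ↑(f.fiber s) := {x | IsOpen ({x} : Set ↑(f.fiber s))}
  haveI : Finite I := hfin.to_subtype
  let x : I → X := fun i => f.fiberι s i.1
  have hinj : Function.Injective x := fun i j h =>
    Subtype.ext ((f.fiberι s).isEmbedding.injective h)
  have hs : ∀ i, f (x i) = s := by
    intro i
    have : x i ∈ Set.range (f.fiberι s) := ⟨_, rfl⟩
    rw [f.range_fiberι] at this
    exact this
  have hx : ∀ i, f.QuasiFiniteAt (x i) := fun i =>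
    (Groth.Agent.Lib.Helper13.quasiFiniteAt_iff_isOpen_singleton_fiber f s i.1 _ rfl).mpr i.2
  obtain ⟨U, g, u, -, hEt, hgu, hbij, V, v, hdisj, hVv, hclopen, hfinite⟩ :=
    Groth.Agent.Lib.Helper6.EtLoc.exists_etale_nbhd_family_separated f s x hinj hs hx
  refine ⟨U, g, u, ⟨hEt, hgu, hbij⟩, ⨆ i, V i, hclopen, hfinite, ?_⟩
  intro w hw hopen
  set z := (pullback.snd f g).fiberι u w with hz
  have hzu : pullback.snd f g z = u := by
    have : z ∈ Set.range ((pullback.snd f g).fiberι u) := ⟨w, rfl⟩
    rw [(pullback.snd f g).range_fiberι] at this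
    exact this
  have hqf : (pullback.snd f g).QuasiFiniteAt z :=
    (Groth.Agent.Lib.Helper13.quasiFiniteAt_iff_isOpen_singleton_fiber _ u w z rfl).mpr hopen
  have hqf' : f.QuasiFiniteAt (pullback.fst f g z) :=
    Groth.Agent.Lib.Helper13.quasiFiniteAt_of_isPullback (IsPullback.of_hasPullback f g) z hqf
  have hfz : f (pullback.fst f g z) = s := by
    rw [← Scheme.Hom.comp_apply, pullback.condition, Scheme.Hom.comp_apply, hzu, hgu]
  obtain ⟨y, hy⟩ : pullback.fst f g z ∈ Set.range (f.fiberι s) := by
    rw [f.range_fiberι]; exact hfz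
  have hyopen : IsOpen ({y} : Set ↑(f.fiber s)) :=
    (Groth.Agent.Lib.Helper13.quasiFiniteAt_iff_isOpen_singleton_fiber f s y _ hy).mp hqf'
  let i : I := ⟨y, hyopen⟩
  have hzv : z = v i := (hVv i).2.2.2.2.2.2.2 z hzu hy.symm
  apply hw
  rw [hzv]
  exact (le_iSup V i) (hVv i).2.1

end Groth.Agent.S9762
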