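import Groth.Statements.S9763
import Mathlib
import Groth.Agent.Lib.Helper11.FormalLift

set_option autoImplicit false
universe u
open FlatMor

namespace Groth.Agent.S9763

section helpers

open AlgebraicGeometry CategoryTheory Groth.Agent.Lib.Helper11.FormalLift

theorem main {X S : Scheme.{u}} (f : X ⟶ S) (hf : MoreMor.IsFormallySmoothHom f)
    (U : X.Opens) (V : S.Opens) (h : U ≤ f ⁻¹ᵁ V) : MoreMor.IsFormallySmoothHom (f.resLE V U h) := by
  intro A _ I hI a b w
  have hres : f.resLE V U h ≫ V.ι = U.ι ≫ f := Scheme.Hom.resLE_comp_ι _ _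
  obtain ⟨m, hm1, hm2⟩ := hf A I hI (a ≫ U.ι) (b ≫ V.ι) (by
    rw [← Category.assoc, w, Category.assoc, Category.assoc, hres])
  obtain ⟨l', hl'1, hl'2⟩ := exists_lift_opens U I hI m a hm1
  refine ⟨l', hl'2, ?_⟩
  rw [← cancel_mono V.ι, Category.assoc, hres, ← Category.assoc, hl'1, hm2]

end helpers

open AlgebraicGeometry CategoryTheory Limits in
/-- Let f : X ⟶ S be formally smooth (infinitesimal lifting against square-zero thickenings of affine
schemes), and let U be an open of X and V an open of S with U contained in the preimage of V under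
f. Then the induced morphism U ⟶ V is formally smooth. -/
theorem result {X S : Scheme.{u}} (f : X ⟶ S) (hf : MoreMor.IsFormallySmoothHom f)
    (U : X.Opens) (V : S.Opens) (h : U ≤ f ⁻¹ᵁ V) : MoreMor.IsFormallySmoothHom (f.resLE V U h) := by
  exact main f hf U V h

end Groth.Agent.S9763
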