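import Groth.Statements.S9769
import Groth.Agent.Lib27.Sch.FibreBCSch
import Groth.Agent.Lib27.Sch.FibFreeSch
set_option backward.isDefEq.respectTransparency.types false
open scoped TensorProduct

set_option autoImplicit false
universe u
open FlatMor

namespace Groth.Agent.S9769

open AlgebraicGeometry CategoryTheory Limits in
/-- Let f : X ⟶ S be locally of finite presentation and F a finitely presented O_X-module which is flat
over S. Then the formation of the locus of points of X near which F is free (equivalently, for
finitely presented F, where the stalk of F is a free module) commutes with arbitrary base change: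
for a cartesian square with g' : X' ⟶ X over S' ⟶ S, the free locus of (g')^*F is the preimage of
that of F. The published statement also asserts that this locus is open; this row states only that
its formation commutes with base change. -/
theorem result {X S X' S' : Scheme.{u}} (f : X ⟶ S) [LocallyOfFinitePresentation f]
    (F : X.Modules) (hF : CohB1.IsFP F) (hfl : FlatMod.IsFlatOver f F)
    (g : S' ⟶ S) (f' : X' ⟶ S') (g' : X' ⟶ X) (hc : IsPullback g' f' f g) :
    {x' : ↑X' | Module.Free ↑(X'.presheaf.stalk x') ↑(((Scheme.Modules.pullback g').obj F).presheaf.stalk x')} =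
      g' ⁻¹' {x : ↑X | Module.Free ↑(X.presheaf.stalk x) ↑(F.presheaf.stalk x)} := by
  classical
  haveI : F.IsFinitePresentation := hF
  haveI : F.IsQuasicoherent := inferInstance
  ext x'
  simp only [Set.mem_setOf_eq, Set.mem_preimage]
  -- algebra structures
  letI algAC : Algebra (S.presheaf.stalk (f (g' x'))) (X.presheaf.stalk (g' x')) :=
    (f.stalkMap (g' x')).hom.toAlgebra
  letI algAA' : Algebra (S.presheaf.stalk (f (g' x'))) (S'.presheaf.stalk (f' x')) :=
    (Groth.Agent.Lib.Helper10.FibreProductStalk.baseStalkMap hc x').hom.toAlgebra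
  letI algCC' : Algebra (X.presheaf.stalk (g' x')) (X'.presheaf.stalk x') :=
    (g'.stalkMap x').hom.toAlgebra
  letI algA'C' : Algebra (S'.presheaf.stalk (f' x')) (X'.presheaf.stalk x') :=
    (f'.stalkMap x').hom.toAlgebra
  letI algAC' : Algebra (S.presheaf.stalk (f (g' x'))) (X'.presheaf.stalk x') :=
    ((g'.stalkMap x').hom.comp (f.stalkMap (g' x')).hom).toAlgebra
  haveI twACC' : IsScalarTower (S.presheaf.stalk (f (g' x'))) (X.presheaf.stalk (g' x'))
      (X'.presheaf.stalk x') := IsScalarTower.of_algebraMap_eq fun _ => rfl
  haveI twAA'C' : IsScalarTower (S.presheaf.stalk (f (g' x'))) (S'.presheaf.stalk (f' x'))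
      (X'.presheaf.stalk x') := by
    refine IsScalarTower.of_algebraMap_eq fun r => ?_
    change (g'.stalkMap x').hom ((f.stalkMap (g' x')).hom r) =
      (f'.stalkMap x').hom ((Groth.Agent.Lib.Helper10.FibreProductStalk.baseStalkMap hc x').hom r)
    exact congrArg (fun φ => φ.hom r)
      (Groth.Agent.Lib.Helper10.FibreProductStalk.stalkMap_comp_eq hc x')
  haveI : IsLocalHom (algebraMap (X.presheaf.stalk (g' x')) (X'.presheaf.stalk x')) :=
    inferInstanceAs (IsLocalHom (g'.stalkMap x').hom)
  obtain ⟨e⟩ := Groth.Agent.Lib.Helper10.PullbackStalk.nonempty_stalk_pullback_equiv g' F x'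
  constructor
  · intro hfree
    haveI := hfree
    -- flatness of the base change
    haveI : Module.Flat (X'.presheaf.stalk x')
        ((X'.presheaf.stalk x') ⊗[X.presheaf.stalk (g' x')] (F.presheaf.stalk (g' x'))) := by
      haveI : Module.Free (X'.presheaf.stalk x')
          ((X'.presheaf.stalk x') ⊗[X.presheaf.stalk (g' x')] (F.presheaf.stalk (g' x'))) :=
        Module.Free.of_equiv e
      infer_instance
    have hX1 : ∀ a : S'.presheaf.stalk (f' x'),
        (Algebra.TensorProduct.productMap
        (IsScalarTower.toAlgHom (S.presheaf.stalk (f (g' x')))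
          (S'.presheaf.stalk (f' x')) (X'.presheaf.stalk x'))
        (IsScalarTower.toAlgHom (S.presheaf.stalk (f (g' x')))
          (X.presheaf.stalk (g' x')) (X'.presheaf.stalk x'))).toRingHom (a ⊗ₜ 1) =
        (f'.stalkMap x').hom a := by
      intro a
      change (Algebra.TensorProduct.productMap _ _) (a ⊗ₜ 1) = _
      rw [Algebra.TensorProduct.productMap_apply_tmul, map_one, mul_one]
      rfl
    have hX2 : ∀ b : X.presheaf.stalk (g' x'),
        (Algebra.TensorProduct.productMap
        (IsScalarTower.toAlgHom (S.presheaf.stalk (f (g' x')))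
          (S'.presheaf.stalk (f' x')) (X'.presheaf.stalk x'))
        (IsScalarTower.toAlgHom (S.presheaf.stalk (f (g' x')))
          (X.presheaf.stalk (g' x')) (X'.presheaf.stalk x'))).toRingHom (1 ⊗ₜ b) =
        (g'.stalkMap x').hom b := by
      intro b
      change (Algebra.TensorProduct.productMap _ _) (1 ⊗ₜ b) = _
      rw [Algebra.TensorProduct.productMap_apply_tmul, map_one, one_mul]
      rfl
    have hXflat : (Algebra.TensorProduct.productMap
        (IsScalarTower.toAlgHom (S.presheaf.stalk (f (g' x')))
          (S'.presheaf.stalk (f' x')) (X'.presheaf.stalk x'))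
        (IsScalarTower.toAlgHom (S.presheaf.stalk (f (g' x')))
          (X.presheaf.stalk (g' x')) (X'.presheaf.stalk x'))).toRingHom.Flat :=
      Groth.Agent.Lib.Helper10.FibreProductStalk.flat_of_comp_include hc x' _ hX1 hX2
    have hT := Groth.Agent.Lib27.FibreBC.flat_quot_tensor_of_flat_baseChange
      (A := S.presheaf.stalk (f (g' x'))) (A' := S'.presheaf.stalk (f' x'))
      (B := X.presheaf.stalk (g' x')) (B' := X'.presheaf.stalk x')
      (C := X.presheaf.stalk (g' x')) (C' := X'.presheaf.stalk x')
      (M := F.presheaf.stalk (g' x')) hXflat hXflat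
    haveI := hT
    have h2 : Module.Flat (X.presheaf.stalk (g' x') ⧸ Ideal.map (f.stalkMap (g' x')).hom
          (IsLocalRing.maximalIdeal (S.presheaf.stalk (f (g' x')))))
        (F.presheaf.stalk (g' x') ⧸ (Ideal.map (f.stalkMap (g' x')).hom
          (IsLocalRing.maximalIdeal (S.presheaf.stalk (f (g' x'))))) •
            (⊤ : Submodule (X.presheaf.stalk (g' x')) (F.presheaf.stalk (g' x')))) :=
      Module.Flat.of_linearEquiv
        ((TensorProduct.quotTensorEquivQuotSMul (F.presheaf.stalk (g' x'))
          (Ideal.map (f.stalkMap (g' x')).hom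
            (IsLocalRing.maximalIdeal (S.presheaf.stalk (f (g' x')))))).extendScalarsOfSurjective
          Ideal.Quotient.mk_surjective).symm
    exact Groth.Agent.Lib27.FibFreeSch.free_stalk_of_flat_fibre f F (g' x') (hfl (g' x')) h2
  · intro hfree
    haveI := hfree
    haveI : Module.Free (X'.presheaf.stalk x')
        ((X'.presheaf.stalk x') ⊗[X.presheaf.stalk (g' x')] (F.presheaf.stalk (g' x'))) :=
      inferInstance
    exact Module.Free.of_equiv e.symm

end Groth.Agent.S9769
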