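import Groth.Statements.S9772
import Mathlib
import Groth.Agent.Helper19.UnivConormal
import Groth.Agent.Helper19.UnivRing4
import Groth.Agent.Lib.Helper29.QCohLocFree
import Groth.Agent.S8679
-- import your own Groth.Agent.* helpers here

set_option autoImplicit false
universe u
open OmegaSh

namespace Groth.Agent.S9772

section helpers

open AlgebraicGeometry CategoryTheory Limits TopologicalSpace
open scoped TensorProduct
open Groth.Agent.Lib.Helper29.QCoh Groth.Agent.Helper19.OmegaD Groth.Agent.Helper19.OmegaLocal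
open Groth.Agent.Helper19.OmegaAlg Groth.Agent.Helper19.Conormal
open Groth.Agent.Helper19.UnivChart Groth.Agent.Helper19.UnivRing Groth.Agent.Helper19.UnivConormal
open Groth.Agent.Lib.Helper10.UnivThick

theorem hom_comp_eq {R S T : CommRingCat.{u}} (f : R ⟶ S) (g : S ⟶ T) (k : R ⟶ T)
    (h : f ≫ g = k) : g.hom.comp f.hom = k.hom := by
  rw [← h]; rfl

/-- For an open immersion `ι` and `ι ''ᵁ O = T`, the map `Γ(X, T) → Γ(Z, O)` is bijective. -/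
theorem appLE_bijective_of_image_eq {Z X : Scheme.{u}} (ι : Z ⟶ X) [IsOpenImmersion ι]
    (O : Z.Opens) (T : X.Opens) (hT : ι ''ᵁ O = T) (e : O ≤ ι ⁻¹ᵁ T) :
    Function.Bijective (ι.appLE T O e).hom := by
  subst hT
  have h1 : ι.appLE (ι ''ᵁ O) O e = (ι.appIso O).hom := by
    rw [Scheme.Hom.appIso_hom']
  rw [h1]
  exact ConcreteCategory.bijective_of_isIso (ι.appIso O).hom

variable {X Y X' : Scheme.{u}} (f : X ⟶ Y) (i : X ⟶ X') (h' : X' ⟶ Y)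
  (hu : OmegaSh.IsUnivThickening f i h')
  {Z₁ P₁ : Scheme.{u}} (ι : Z₁ ⟶ X) [IsOpenImmersion ι] (j₁ : Z₁ ⟶ P₁) [IsClosedImmersion j₁]
  (π₁ : P₁ ⟶ Y) [Smooth π₁] (hjπ : j₁ ≫ π₁ = ι ≫ f)
  {T₁ : P₁.Opens} (hT₁ : IsAffineOpen T₁)
  {r : ℕ} (rs : Fin r → Γ(P₁, T₁)) (hrs : CAlgX.IsH1Regular rs)
  (hker : RingHom.ker (j₁.app T₁).hom = Ideal.span (Set.range rs))

set_option maxRecDepth 16000 in
include hu hjπ hT₁ hrs hker in
theorem chart_main {VY : Y.Opens} (hVY : IsAffineOpen VY) {V₁ : P₁.Opens} (hV₁ : IsAffineOpen V₁)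
    (hV₁T : V₁ ≤ T₁) (hV₁Y : V₁ ≤ π₁ ⁻¹ᵁ VY) {W' : X'.Opens} (hW'eq : ι ''ᵁ (j₁ ⁻¹ᵁ V₁) = i ⁻¹ᵁ W') :
    IsAffineOpen (i ⁻¹ᵁ W') ∧
    Module.Finite Γ(X, i ⁻¹ᵁ W') Γ(Omega.conormal i, i ⁻¹ᵁ W') ∧
    Module.Projective Γ(X, i ⁻¹ᵁ W') Γ(Omega.conormal i, i ⁻¹ᵁ W') := by
  haveI : IsClosedImmersion i := hu.1.1.1
  have hO₁ : IsAffineOpen (j₁ ⁻¹ᵁ V₁) := hV₁.preimage j₁
  have hW : IsAffineOpen (i ⁻¹ᵁ W') := by
    rw [← hW'eq]
    exact hO₁.image_of_isOpenImmersion ι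
  have hW' : IsAffineOpen W' := isAffineOpen_of_preimage i hu.1 hW
  have eσ : j₁ ⁻¹ᵁ V₁ ≤ ι ⁻¹ᵁ (i ⁻¹ᵁ W') := by
    intro z hz
    change ι z ∈ i ⁻¹ᵁ W'
    rw [← hW'eq]
    exact ⟨z, hz, rfl⟩
  have e : i ⁻¹ᵁ W' ≤ f ⁻¹ᵁ VY := by
    intro x hx
    rw [← hW'eq] at hx
    obtain ⟨z, hz, rfl⟩ := hx
    have h1 : f (ι z) = π₁ (j₁ z) := by
      rw [← Scheme.Hom.comp_apply, ← hjπ, Scheme.Hom.comp_apply]
    change f (ι z) ∈ VY
    rw [h1]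
    exact hV₁Y hz
  have e' : W' ≤ h' ⁻¹ᵁ VY := by
    intro x' hx'
    obtain ⟨x, rfl⟩ := fot_surjective hu.1 x'
    have h1 : h' (i x) = f x := by rw [← Scheme.Hom.comp_apply, hu.2.1]
    change h' (i x) ∈ VY
    rw [h1]
    exact e hx'
  refine ⟨hW, ?_⟩
  have hUT := isUT_chart f i h' hu hVY hW' e' e
  -- the ring maps
  have hσ := appLE_bijective_of_image_eq ι (j₁ ⁻¹ᵁ V₁) (i ⁻¹ᵁ W') hW'eq eσ
  let σ : Γ(X, i ⁻¹ᵁ W') ≃+* Γ(Z₁, j₁ ⁻¹ᵁ V₁) :=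
    RingEquiv.ofBijective (ι.appLE (i ⁻¹ᵁ W') (j₁ ⁻¹ᵁ V₁) eσ).hom hσ
  let θ' : Γ(P₁, V₁) →+* Γ(Z₁, j₁ ⁻¹ᵁ V₁) := (j₁.app V₁).hom
  let θ : Γ(P₁, V₁) →+* Γ(X, i ⁻¹ᵁ W') := (σ.symm : _ →+* _).comp θ'
  have hθ's : Function.Surjective θ' := j₁.app_surjective V₁ hV₁
  have hθs : Function.Surjective θ := σ.symm.surjective.comp hθ's
  have hkerθ : RingHom.ker θ = RingHom.ker θ' := by
    ext x
    rw [RingHom.mem_ker, RingHom.mem_ker]
    change σ.symm (θ' x) = 0 ↔ θ' x = 0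
    exact map_eq_zero_iff _ σ.symm.injective
  -- the kernel
  let fV : Fin r → Γ(P₁, V₁) := fun k => (P₁.presheaf.map (homOfLE hV₁T).op).hom (rs k)
  have hkerθ' : RingHom.ker θ' = Ideal.span (Set.range fV) := by
    have h1 := j₁.ker.map_ideal (U := ⟨V₁, hV₁⟩) (V := ⟨T₁, hT₁⟩) hV₁T
    rw [Scheme.Hom.ker_apply j₁ ⟨T₁, hT₁⟩, Scheme.Hom.ker_apply j₁ ⟨V₁, hV₁⟩, hker,
      Ideal.map_span, ← Set.range_comp] at h1
    exact h1.symm
  have hfV : CAlgX.IsH1Regular fV := by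
    have eT : V₁ ≤ (𝟙 P₁) ⁻¹ᵁ T₁ := hV₁T
    letI := algΓ (𝟙 P₁) eT
    haveI : Module.Flat Γ(P₁, T₁) Γ(P₁, V₁) :=
      HasRingHomProperty.appLE (P := @Flat) (𝟙 P₁) inferInstance ⟨T₁, hT₁⟩ ⟨V₁, hV₁⟩ eT
    exact isH1Regular_of_flat rs hrs
  -- formal smoothness
  have hsm : letI := (π₁.appLE VY V₁ hV₁Y).hom.toAlgebra
      Algebra.FormallySmooth Γ(Y, VY) Γ(P₁, V₁) := by
    letI := (π₁.appLE VY V₁ hV₁Y).hom.toAlgebra
    have h1 : (π₁.appLE VY V₁ hV₁Y).hom.Smooth := π₁.smooth_appLE hVY hV₁ hV₁Y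
    have h2 : Algebra.Smooth Γ(Y, VY) Γ(P₁, V₁) := h1
    infer_instance
  -- compatibility
  have hcomp : (f.appLE VY (i ⁻¹ᵁ W') e).hom = θ.comp (π₁.appLE VY V₁ hV₁Y).hom := by
    have h1 : (σ : _ →+* _).comp (f.appLE VY (i ⁻¹ᵁ W') e).hom =
        θ'.comp (π₁.appLE VY V₁ hV₁Y).hom := by
      have e1 : j₁ ⁻¹ᵁ V₁ ≤ (ι ≫ f) ⁻¹ᵁ VY := fun z hz => e (eσ hz)
      have e2 : j₁ ⁻¹ᵁ V₁ ≤ (j₁ ≫ π₁) ⁻¹ᵁ VY := fun z hz => hV₁Y hz
      have h2 := hom_comp_eq _ _ _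
        (Scheme.Hom.appLE_comp_appLE ι f VY (i ⁻¹ᵁ W') (j₁ ⁻¹ᵁ V₁) e eσ)
      have h3 := hom_comp_eq _ _ _
        (Scheme.Hom.appLE_comp_appLE j₁ π₁ VY V₁ (j₁ ⁻¹ᵁ V₁) hV₁Y le_rfl)
      rw [Scheme.Hom.appLE_eq_app] at h3
      change (ι.appLE (i ⁻¹ᵁ W') (j₁ ⁻¹ᵁ V₁) eσ).hom.comp (f.appLE VY (i ⁻¹ᵁ W') e).hom =
        (j₁.app V₁).hom.comp (π₁.appLE VY V₁ hV₁Y).hom
      rw [h2, h3]
      exact congrArg _ (appLE_congr' hjπ.symm _ _)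
    ext a
    have h4 := congr($h1 a)
    change σ ((f.appLE VY (i ⁻¹ᵁ W') e).hom a) = θ' ((π₁.appLE VY V₁ hV₁Y).hom a) at h4
    change (f.appLE VY (i ⁻¹ᵁ W') e).hom a = σ.symm (θ' ((π₁.appLE VY V₁ hV₁Y).hom a))
    rw [← h4, RingEquiv.symm_apply_apply]
  rw [hcomp] at hUT
  have hI : RingHom.ker (i.appLE W' (i ⁻¹ᵁ W') le_rfl).hom = i.ker.ideal ⟨W', hW'⟩ := by
    rw [Scheme.Hom.appLE_eq_app, Scheme.Hom.ker_apply]
  letI := (i.appLE W' (i ⁻¹ᵁ W') (le_refl _)).hom.toAlgebra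
  have hfp := finite_projective_of_isUT' (π₁.appLE VY V₁ hV₁Y).hom hsm θ hθs fV
    (hkerθ.trans hkerθ') hfV (h'.appLE VY W' e').hom (i.appLE W' (i ⁻¹ᵁ W') le_rfl).hom hUT
    (i.ker.ideal ⟨W', hW'⟩) hI
  haveI := hfp.1
  haveI := hfp.2
  let Qe := conormalSectionsEquiv i hW' hW (le_refl _)
  exact ⟨Module.Finite.equiv Qe.symm, Module.Projective.of_equiv Qe.symm⟩

/-- Kernel of `f.app` along an equality of opens. -/
theorem ker_app_of_eq {X Y : Scheme.{u}} (g : X ⟶ Y) {A B : Y.Opens} (e : A = B) (hAB : A ≤ B) :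
    RingHom.ker (g.app A).hom =
      Ideal.map (Y.presheaf.map (homOfLE hAB).op).hom (RingHom.ker (g.app B).hom) := by
  subst e
  have h1 : Y.presheaf.map (homOfLE hAB).op = 𝟙 _ := Y.presheaf.map_id _
  rw [h1]
  exact (Ideal.map_id _).symm

/-- Kernel of a restricted morphism on sections. -/
theorem ker_morphismRestrict_app {X Y : Scheme.{u}} (g : X ⟶ Y) (U : Y.Opens)
    (V : (U : Scheme.{u}).Opens) :
    RingHom.ker ((g ∣_ U).app V).hom = RingHom.ker (g.app (U.ι ''ᵁ V)).hom := by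
  have h := morphismRestrict_app g U V
  have h2 : ∀ x : Γ(Y, U.ι ''ᵁ V), ((g ∣_ U).app V).hom x =
      (X.presheaf.map (eqToHom (image_morphismRestrict_preimage g U V)).op).hom
        ((g.app (U.ι ''ᵁ V)).hom x) := fun x => congrArg (fun k => k.hom x) h
  have hinj := (ConcreteCategory.bijective_of_isIso
    (X.presheaf.map (eqToHom (image_morphismRestrict_preimage g U V)).op)).1
  apply le_antisymm
  · intro x hx
    have hx' : ((g ∣_ U).app V).hom x = 0 := hx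
    rw [h2 x] at hx'
    exact (show (g.app (U.ι ''ᵁ V)).hom x = 0 from (map_eq_zero_iff _ hinj).mp hx')
  · intro x hx
    have hx' : (g.app (U.ι ''ᵁ V)).hom x = 0 := hx
    show ((g ∣_ U).app V).hom x = 0
    rw [h2 x, hx']
    exact map_zero _

end helpers

open AlgebraicGeometry CategoryTheory Limits in

open AlgebraicGeometry CategoryTheory Limits in
/-- Suppose f : X ⟶ Y is Koszul at every point of X (a local complete intersection morphism) and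
formally unramified, and (i : X ⟶ X', h' : X' ⟶ Y) is universal first order thickening data for f.
Then the conormal sheaf of i (the conormal sheaf of f) is finite locally free. The published
statement also asserts that for a local complete intersection morphism unramified and formally
unramified are equivalent; this row states only the conormal clause. -/
theorem result {X Y X' : Scheme.{u}} (f : X ⟶ Y)
    (hf : ∀ x : X, Synt.IsKoszulAt f x) [FormallyUnramified f] (i : X ⟶ X') (h' : X' ⟶ Y)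
    (hu : OmegaSh.IsUnivThickening f i h') : FlatMod.IsFinLocFree (Omega.conormal i) := by
  have key : ∀ x : X, ∃ W' : X'.Opens, x ∈ i ⁻¹ᵁ W' ∧ IsAffineOpen (i ⁻¹ᵁ W') ∧
      Module.Finite Γ(X, i ⁻¹ᵁ W') Γ(Omega.conormal i, i ⁻¹ᵁ W') ∧
      Module.Projective Γ(X, i ⁻¹ᵁ W') Γ(Omega.conormal i, i ⁻¹ᵁ W') := by
    intro x
    obtain ⟨U, P, j, π, hxU, -, hreg, hsm, hjπ⟩ := hf x
    haveI := hsm
    obtain ⟨UP, hjuUP, hcl, rs, hrs, hker⟩ := hreg.2 ⟨x, hxU⟩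
    haveI := hcl
    have hrs1 : CAlgX.IsH1Regular rs.get :=
      Groth.Agent.S8679.isH1Regular_of_isKoszulRegularSeq rs hrs
    -- the data for `chart_main`
    let ι : ((j ⁻¹ᵁ UP.1 : (U : Scheme.{u}).Opens) : Scheme.{u}) ⟶ X := (j ⁻¹ᵁ UP.1).ι ≫ U.ι
    let π₁ : (UP.1 : Scheme.{u}) ⟶ Y := UP.1.ι ≫ π
    have hjπ₁ : (j ∣_ UP.1) ≫ π₁ = ι ≫ f := by
      change (j ∣_ UP.1) ≫ UP.1.ι ≫ π = ((j ⁻¹ᵁ UP.1).ι ≫ U.ι) ≫ f
      rw [← Category.assoc, morphismRestrict_ι, Category.assoc, hjπ, Category.assoc]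
    have hA : IsAffineOpen (UP.1.ι ''ᵁ ⊤) := (isAffineOpen_top _).image_of_isOpenImmersion UP.1.ι
    have hAB : UP.1.ι ''ᵁ ⊤ ≤ UP.1 := UP.1.ι_image_top.le
    let rs' : Fin rs.length → Γ((UP.1 : Scheme.{u}), ⊤) :=
      fun k => (P.presheaf.map (homOfLE hAB).op).hom (rs.get k)
    have hrs' : CAlgX.IsH1Regular rs' := by
      have eT : UP.1.ι ''ᵁ ⊤ ≤ (𝟙 P) ⁻¹ᵁ UP.1 := hAB
      letI := Groth.Agent.Helper19.OmegaLocal.algΓ (𝟙 P) eT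
      haveI : Module.Flat Γ(P, UP.1) Γ(P, UP.1.ι ''ᵁ ⊤) :=
        HasRingHomProperty.appLE (P := @Flat) (𝟙 P) inferInstance UP ⟨UP.1.ι ''ᵁ ⊤, hA⟩ eT
      exact Groth.Agent.Helper19.OmegaAlg.isH1Regular_of_flat (R' := Γ(P, UP.1.ι ''ᵁ ⊤))
        rs.get hrs1
    have hker' : RingHom.ker ((j ∣_ UP.1).app ⊤).hom = Ideal.span (Set.range rs') := by
      rw [ker_morphismRestrict_app, ker_app_of_eq j UP.1.ι_image_top hAB, hker, Ideal.ofList,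
        Ideal.map_span]
      congr 1
      ext y
      constructor
      · rintro ⟨x, hx, rfl⟩
        obtain ⟨k, rfl⟩ := List.mem_iff_get.mp hx
        exact ⟨k, rfl⟩
      · rintro ⟨k, rfl⟩
        exact ⟨rs.get k, List.get_mem _ _, rfl⟩
    -- the charts
    have hfx : π (j ⟨x, hxU⟩) = f x := by
      rw [← Scheme.Hom.comp_apply, hjπ]; rfl
    obtain ⟨VY, hVY, hxVY, -⟩ :=
      exists_isAffineOpen_mem_and_subset (x := f x) (U := ⊤) trivial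
    have hp₁ : (⟨j ⟨x, hxU⟩, hjuUP⟩ : (UP.1 : Scheme.{u})) ∈ π₁ ⁻¹ᵁ VY := by
      change π (j ⟨x, hxU⟩) ∈ VY
      rw [hfx]; exact hxVY
    obtain ⟨V₁, hV₁, hpV₁, hV₁Y⟩ := exists_isAffineOpen_mem_and_subset
      (x := (⟨j ⟨x, hxU⟩, hjuUP⟩ : (UP.1 : Scheme.{u}))) (U := π₁ ⁻¹ᵁ VY) hp₁
    obtain ⟨W', hW'⟩ := Groth.Agent.Lib.Helper10.UnivThick.fot_exists_opens hu.1
      (ι ''ᵁ ((j ∣_ UP.1) ⁻¹ᵁ V₁))
    have hmain := chart_main f i h' hu ι (j ∣_ UP.1) π₁ hjπ₁ (isAffineOpen_top _) rs' hrs' hker'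
      hVY hV₁ le_top hV₁Y hW'.symm
    refine ⟨W', ?_, hmain⟩
    rw [hW']
    let z₁ : ((j ⁻¹ᵁ UP.1 : (U : Scheme.{u}).Opens) : Scheme.{u}) := ⟨⟨x, hxU⟩, hjuUP⟩
    refine ⟨z₁, ?_, rfl⟩
    change (j ∣_ UP.1) z₁ ∈ V₁
    have h1 : (j ∣_ UP.1) z₁ = (⟨j ⟨x, hxU⟩, hjuUP⟩ : (UP.1 : Scheme.{u})) :=
      Subtype.ext (morphismRestrict_base_coe j UP.1 z₁)
    rw [h1]; exact hpV₁
  choose W' hxW' haff hfin hproj using key
  haveI := Groth.Agent.Helper19.Conormal.isQuasicoherent_conormal i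
  refine Groth.Agent.Lib.Helper29.QCoh.isFinLocFree_of_finite_projective_sections
    (Omega.conormal i) (fun x : X => i ⁻¹ᵁ W' x) ?_ haff hfin hproj
  rw [TopologicalSpace.IsOpenCover, eq_top_iff]
  intro x _
  exact TopologicalSpace.Opens.mem_iSup.mpr ⟨x, hxW' x⟩

end Groth.Agent.S9772
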