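import Groth.Statements.S9773
import Groth.Agent.S15821

set_option autoImplicit false
universe u
open FlatMor

namespace Groth.Agent.S9773

open AlgebraicGeometry CategoryTheory Limits in
theorem aux {Z X : Scheme.{u}} (i : Z ⟶ X) (k : RegImm.Kind)
    (hk : k = RegImm.Kind.regular ∨ k = RegImm.Kind.koszul) (hi : RegImm.IsRegularImmersion k i) (z : Z) :
    Synt.IsKoszulAt i z := by
  have himm : IsImmersion i := hi.1
  have : IsIso (⊤ : Z.Opens).ι := (Scheme.topIso Z).isIso_hom
  refine ⟨⊤, X, (⊤ : Z.Opens).ι ≫ i, 𝟙 X, trivial, inferInstance, ⟨inferInstance, ?_⟩, inferInstance,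
    Category.comp_id _⟩
  intro z'
  obtain ⟨U, hzU, hcl, rs, hrs, hker⟩ := hi.2 ((⊤ : Z.Opens).ι z')
  refine ⟨U, hzU, ?_, rs, ?_, ?_⟩
  · rw [morphismRestrict_comp]
    have := hcl
    refine @IsClosedImmersion.comp _ _ _ _ _ ?_ hcl
    show IsClosedImmersion ((⊤ : Z.Opens).ι ∣_ i ⁻¹ᵁ U.1)
    infer_instance
  · rcases hk with rfl | rfl
    · exact (Groth.Agent.S15821.result _ rs hrs.toIsWeaklyRegular).1
    · exact hrs
  · rw [← hker]
    ext x
    have hinj : Function.Injective (((⊤ : Z.Opens).ι).app (i ⁻¹ᵁ U.1)).hom :=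
      (ConcreteCategory.bijective_of_isIso (((⊤ : Z.Opens).ι).app (i ⁻¹ᵁ U.1))).1
    have hcomp : (((⊤ : Z.Opens).ι ≫ i).app U.1).hom x
        = (((⊤ : Z.Opens).ι).app (i ⁻¹ᵁ U.1)).hom ((i.app U.1).hom x) := by
      rw [Scheme.Hom.comp_app]
      rfl
    rw [RingHom.mem_ker, RingHom.mem_ker, hcomp]
    constructor
    · intro h
      apply hinj
      rw [map_zero]
      exact h
    · intro h
      exact (congrArg _ h).trans (map_zero _)

open AlgebraicGeometry CategoryTheory Limits in
/-- A regular immersion of schemes, and likewise a Koszul-regular immersion, is a local complete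
intersection morphism (Koszul at every point). -/
theorem result {Z X : Scheme.{u}} (i : Z ⟶ X) (k : RegImm.Kind)
    (hk : k = RegImm.Kind.regular ∨ k = RegImm.Kind.koszul) (hi : RegImm.IsRegularImmersion k i) (z : Z) :
    Synt.IsKoszulAt i z := by
  exact aux i k hk hi z

end Groth.Agent.S9773
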