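import Groth.Statements.S9779
import Mathlib
import Groth.Agent.S1411
-- import your own Groth.Agent.* helpers here

set_option autoImplicit false
universe u
open FlatMor

namespace Groth.Agent.S9779

open AlgebraicGeometry CategoryTheory TopologicalSpace

/-- In a quasi-sober Noetherian space, a point of the closure of an open set is a specialization
of a point of that open set. -/
theorem exists_specializes_of_mem_closure_noetherianSpace {Y : Type u} [TopologicalSpace Y]
    [QuasiSober Y] [NoetherianSpace Y] (U : Set Y) (hU : IsOpen U) (x : Y) (hx : x ∈ closure U) :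
    ∃ ξ ∈ U, ξ ⤳ x := by
  have hfin : (irreducibleComponents Y).Finite := NoetherianSpace.finite_irreducibleComponents
  let T : Set Y := ⋃ C ∈ {C ∈ irreducibleComponents Y | (C ∩ U).Nonempty}, C
  have hTcl : IsClosed T := by
    refine Set.Finite.isClosed_biUnion (hfin.subset (fun C hC => hC.1)) ?_
    intro C hC
    exact isClosed_of_mem_irreducibleComponents C hC.1
  have hUT : U ⊆ T := by
    intro u hu
    simp only [T, Set.mem_iUnion]
    exact ⟨irreducibleComponent u, ⟨irreducibleComponent_mem_irreducibleComponents u,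
      ⟨u, mem_irreducibleComponent, hu⟩⟩, mem_irreducibleComponent⟩
  have hxT : x ∈ T := (closure_minimal hUT hTcl) hx
  simp only [T, Set.mem_iUnion] at hxT
  obtain ⟨C, ⟨hC, hCU⟩, hxC⟩ := hxT
  obtain ⟨ξ, hξ⟩ := QuasiSober.sober hC.1 (isClosed_of_mem_irreducibleComponents C hC)
  refine ⟨ξ, (hξ.mem_open_set_iff hU).mpr hCU, ?_⟩
  rw [specializes_iff_mem_closure, hξ.def]
  exact hxC

/-- In a locally Noetherian scheme, a point of the closure of an open set is a specialization
of a point of that open set. -/
theorem exists_specializes_of_mem_closure {X : Scheme.{u}} [IsLocallyNoetherian X] (U : X.Opens)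
    (x : X) (hx : x ∈ closure (U : Set X)) : ∃ ξ ∈ U, ξ ⤳ x := by
  obtain ⟨_, ⟨N, hN, rfl⟩, hxN, -⟩ :=
    X.isBasis_affineOpens.exists_subset_of_mem_open (Set.mem_univ x) isOpen_univ
  haveI : IsNoetherianRing Γ(X, N) := IsLocallyNoetherian.component_noetherian ⟨N, hN⟩
  haveI : NoetherianSpace ↥(N : Set X) := noetherianSpace_of_isAffineOpen N hN
  haveI : QuasiSober ↥(N : Set X) := N.isOpenEmbedding'.quasiSober
  let x' : ↥(N : Set X) := ⟨x, hxN⟩
  have hx' : x' ∈ closure (Subtype.val ⁻¹' (U : Set X) : Set ↥(N : Set X)) := by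
    have h := N.2.isOpenMap_subtype_val.preimage_closure_eq_closure_preimage
      continuous_subtype_val (U : Set X)
    exact h.subset hx
  obtain ⟨ξ, hξU, hξx⟩ := exists_specializes_of_mem_closure_noetherianSpace _
    (U.2.preimage continuous_subtype_val) x' hx'
  exact ⟨ξ.1, hξU, hξx.map continuous_subtype_val⟩


open AlgebraicGeometry CategoryTheory Limits in
/-- Suppose S is locally Noetherian and the morphism f : X ⟶ S is locally of finite type; take x a point
of X closed in its fibre, and U ⊆ X an open subscheme not meeting the fibre through x but with x in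
the closure of U. Then there is a closed subscheme Z of X passing through x such that Z ⟶ S is
quasi-finite at x and Z contains a point z of U specializing to x with f z ≠ f x. -/
theorem result {X S : Scheme.{u}} (f : X ⟶ S) [LocallyOfFiniteType f] [IsLocallyNoetherian S] (x : X)
    (hcl : IsClosed (Subtype.val ⁻¹' {x} : Set ↑(f ⁻¹' {f x}))) (U : X.Opens)
    (hU : ∀ x' ∈ U, f x' ≠ f x) (hxU : x ∈ closure (U : Set ↑X)) :
    ∃ (I : X.IdealSheafData) (z₀ x₀ : ↑I.subscheme), I.subschemeι x₀ = x ∧ (I.subschemeι ≫ f).QuasiFiniteAt x₀ ∧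
      I.subschemeι z₀ ∈ U ∧ I.subschemeι z₀ ⤳ x ∧ f (I.subschemeι z₀) ≠ f x := by
  haveI : IsLocallyNoetherian X := LocallyOfFiniteType.isLocallyNoetherian f
  obtain ⟨ξ, hξU, hξx⟩ := exists_specializes_of_mem_closure U x hxU
  exact Groth.Agent.S1411.result f x hcl U ⟨ξ, hξU, hξx, hU ξ hξU⟩

end Groth.Agent.S9779
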