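import Groth.Statements.S9781
import Mathlib
import Groth.Agent.Lib.Helper4.EtNbhd8
import Groth.Agent.S9752
import Groth.Agent.S9235

set_option autoImplicit false
universe u
open Brnch

namespace Groth.Agent.S9781

open AlgebraicGeometry CategoryTheory Limits in
open Groth.Agent.Lib.Helper4 in
/-- The local ring of X at x is unibranch exactly when, for each étale morphism g : U ⟶ X and point u
over x with trivial residue field extension (an elementary étale neighbourhood), the point u lies on
a single irreducible component of U. -/
theorem result (X : Scheme.{u}) (x : X) :
    CAlg2.IsUnibranch ↑(X.presheaf.stalk x) ↔ ∀ (U : Scheme.{u}) (g : U ⟶ X) (u : U), Hens2.IsEtaleNbhd g u x →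
      {Z : Set ↑U | Z ∈ irreducibleComponents ↑U ∧ u ∈ Z}.encard = 1 := by
  rw [← Groth.Agent.S9235.result]
  constructor
  · intro h1 U g u hg
    apply le_antisymm
    · have := EtNbhd.encard_components_le_numBranchesAt g u x hg
      unfold Brnch.numBranchesAt at this
      rwa [h1] at this
    · exact EtNbhd.one_le_encard_components U u
  · intro h
    apply le_antisymm
    · have h2 := Groth.Agent.S9752.result X x
      unfold Brnch.numBranchesAt at h2
      rw [h2]
      refine iSup_le fun U => iSup_le fun g => iSup_le fun u => iSup_le fun hg => ?_
      exact (h U g u hg).le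
    · exact EtNbhd.one_le_numBranches _

end Groth.Agent.S9781
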