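import Groth.Statements.S9783
import Mathlib
import Groth.Agent.Helper19.UnivConormal
import Groth.Agent.Helper19.UnivRing3
import Groth.Agent.Helper19.PullSectNat
import Groth.Agent.Helper19.OmegaD9
import Groth.Agent.Lib.Helper3.StalkBij
import Groth.Agent.S9427
-- import your own Groth.Agent.* helpers here

set_option autoImplicit false
universe u
open OmegaSh

namespace Groth.Agent.S9783

section helpers

open AlgebraicGeometry CategoryTheory Limits TopologicalSpace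
open scoped TensorProduct
open Groth.Agent.Lib.Helper29.QCoh Groth.Agent.Helper19.OmegaD Groth.Agent.Helper19.OmegaLocal
open Groth.Agent.Helper19.OmegaAlg Groth.Agent.Helper19.Conormal
open Groth.Agent.Helper19.UnivChart Groth.Agent.Helper19.UnivRing Groth.Agent.Helper19.UnivConormal
open Groth.Agent.Lib.Helper10.UnivThick Groth.Agent.Helper19.PullSectNat

variable {Z X S Z' : Scheme.{u}} (h : Z ⟶ X) (q : X ⟶ S) [FormallyUnramified h]
  (i : Z ⟶ Z') (h' : Z' ⟶ X) (hu : OmegaSh.IsUnivThickening h i h')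
  (ΩX : X.Modules) (dX : OmegaSh.Der q ΩX) (hdX : OmegaSh.IsUniversal dX)
  (ΩZ' : Z'.Modules) (dZ' : OmegaSh.Der (h' ≫ q) ΩZ') (hdZ' : OmegaSh.IsUniversal dZ')
  (c : (Scheme.Modules.pullback h').obj ΩX ⟶ ΩZ') (hc : OmegaSh.IsDiffCompat h' dX dZ' c)

set_option maxRecDepth 16000 in
include hu hdX hdZ' hc in
theorem app_bijective {W : S.Opens} (hW : IsAffineOpen W) {V : X.Opens} (hV : IsAffineOpen V)
    (hVW : V ≤ q ⁻¹ᵁ W) {U' : Z'.Opens} (hU' : IsAffineOpen U') (hU'V : U' ≤ h' ⁻¹ᵁ V) :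
    Function.Bijective (((Scheme.Modules.pullback i).map c).app (i ⁻¹ᵁ U')) := by
  haveI : IsClosedImmersion i := hu.1.1.1
  have hU : IsAffineOpen (i ⁻¹ᵁ U') := isAffineOpen_preimage_of_fot hu.1 hU'
  have hU'W : U' ≤ (h' ≫ q) ⁻¹ᵁ W := fun z hz => hVW (hU'V hz)
  have hUV : i ⁻¹ᵁ U' ≤ h ⁻¹ᵁ V := by
    intro z hz
    have h3 : h' (i z) ∈ V := hU'V hz
    have h4 : h' (i z) = h z := by rw [← Scheme.Hom.comp_apply, hu.2.1]
    rw [h4] at h3
    exact h3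
  have eUU : i ⁻¹ᵁ U' ≤ i ⁻¹ᵁ U' := le_rfl
  haveI := isQuasicoherent_of_universal q dX hdX
  haveI := isQuasicoherent_of_universal (h' ≫ q) dZ' hdZ'
  letI := algΓ q hVW
  letI := algΓ (h' ≫ q) hU'W
  letI := algΓ h' hU'V
  letI := algΓ h hUV
  letI := algΓ i eUU
  haveI : IsScalarTower Γ(S, W) Γ(X, V) Γ(Z', U') := by
    apply IsScalarTower.of_algebraMap_eq'
    change ((h' ≫ q).appLE W U' hU'W).hom = (h'.appLE V U' hU'V).hom.comp (q.appLE W V hVW).hom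
    have h1 := Scheme.Hom.appLE_comp_appLE h' q W V U' hVW hU'V
    rw [← h1]; rfl
  haveI : IsScalarTower Γ(X, V) Γ(Z', U') Γ(Z, i ⁻¹ᵁ U') := by
    apply IsScalarTower.of_algebraMap_eq'
    change (h.appLE V (i ⁻¹ᵁ U') hUV).hom = (i.appLE U' (i ⁻¹ᵁ U') eUU).hom.comp
      (h'.appLE V U' hU'V).hom
    have h1 := Scheme.Hom.appLE_comp_appLE i h' V U' (i ⁻¹ᵁ U') hU'V eUU
    rw [appLE_congr' hu.2.1 _ hUV] at h1
    rw [← h1]; rfl
  haveI : Algebra.FormallyUnramified Γ(X, V) Γ(Z, i ⁻¹ᵁ U') :=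
    h.formallyUnramified_appLE hV hU hUV
  have hUT := isUT_chart h i h' hu hV hU' hU'V hUV
  have hUTR : OmegaSh.IsUnivThickeningRing Γ(X, V) Γ(Z, i ⁻¹ᵁ U') Γ(Z', U')
      (IsScalarTower.toAlgHom Γ(X, V) Γ(Z', U') Γ(Z, i ⁻¹ᵁ U')) :=
    isUnivThickeningRing_of_isUT hUT
  obtain ⟨-, hbij⟩ := Groth.Agent.S9427.result Γ(S, W) Γ(X, V) Γ(Z, i ⁻¹ᵁ U') Γ(Z', U') hUTR
  obtain ⟨P, E', hPE⟩ := exists_local_diffCompat q (h' ≫ q) h' dX hdX dZ' hdZ' c hc hV hW hVW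
    hU' hW hU'W hU'V
  apply pullback_map_app_bijective i c hU hU' eUU
  refine baseChange_bijective_of_conj Γ(Z, i ⁻¹ᵁ U') (appₗ c U') P E'
    (KaehlerDifferential.mapBaseChange Γ(S, W) Γ(X, V) Γ(Z', U')) ?_ hbij
  intro x
  have key : (E'.toLinearMap ∘ₗ (appₗ c U') ∘ₗ P.symm.toLinearMap) =
      KaehlerDifferential.mapBaseChange Γ(S, W) Γ(X, V) Γ(Z', U') :=
    eq_mapBaseChange Γ(S, W) Γ(X, V) Γ(Z', U') _ (fun b' b => hPE b' b)
  exact congr($key x)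

end helpers

open AlgebraicGeometry CategoryTheory Limits in

open AlgebraicGeometry CategoryTheory Limits in
/-- Let q : X ⟶ S be a morphism, h : Z ⟶ X formally unramified, and (i : Z ⟶ Z', h' : Z' ⟶ X) the
universal first order thickening attached to h. Let d_X : O_X → Ω_X be a universal S-derivation,
d_{Z'} : O_{Z'} → Ω_{Z'} a universal S-derivation for Z' over S via h' ≫ q, and c : (h')^*Ω_X ⟶
Ω_{Z'} the O_{Z'}-linear map compatible with them (the canonical map c_{h'}). Then the pullback of c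
along i, a map h^*Ω_X ⟶ Ω_{Z'} ⊗ O_Z, is an isomorphism. -/
theorem result {Z X S Z' : Scheme.{u}} (h : Z ⟶ X) (q : X ⟶ S) [FormallyUnramified h]
    (i : Z ⟶ Z') (h' : Z' ⟶ X) (hu : OmegaSh.IsUnivThickening h i h')
    (ΩX : X.Modules) (dX : OmegaSh.Der q ΩX) (hdX : OmegaSh.IsUniversal dX)
    (ΩZ' : Z'.Modules) (dZ' : OmegaSh.Der (h' ≫ q) ΩZ') (hdZ' : OmegaSh.IsUniversal dZ')
    (c : (Scheme.Modules.pullback h').obj ΩX ⟶ ΩZ') (hc : OmegaSh.IsDiffCompat h' dX dZ' c) :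
    IsIso ((Scheme.Modules.pullback i).map c) := by
  haveI := Groth.Agent.Helper19.OmegaD.isQuasicoherent_of_universal q dX hdX
  haveI := Groth.Agent.Helper19.OmegaD.isQuasicoherent_of_universal (h' ≫ q) dZ' hdZ'
  rw [Groth.Agent.Lib.Helper29.QCoh.isIso_iff_stalkMap_bijective]
  intro z
  obtain ⟨W, hW, hzW, -⟩ :=
    exists_isAffineOpen_mem_and_subset (x := q (h' (i z))) (U := ⊤) trivial
  obtain ⟨V, hV, hzV, hVW⟩ :=
    exists_isAffineOpen_mem_and_subset (x := h' (i z)) (U := q ⁻¹ᵁ W) hzW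
  obtain ⟨U', hU', hzU', hU'V⟩ :=
    exists_isAffineOpen_mem_and_subset (x := i z) (U := h' ⁻¹ᵁ V) hzV
  have hb := app_bijective h q i h' hu ΩX dX hdX ΩZ' dZ' hdZ' c hc hW hV hVW hU' hU'V
  have hU : IsAffineOpen (i ⁻¹ᵁ U') :=
    Groth.Agent.Helper19.UnivChart.isAffineOpen_preimage_of_fot hu.1 hU'
  exact Groth.Agent.Lib.Helper3.stalkMap_bijective_of_app_bijective _ hU hb z hzU'

end Groth.Agent.S9783
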