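import Groth.Statements.S9784
import Mathlib
import Groth.Agent.Helper19.UnivConormal
-- import your own Groth.Agent.* helpers here

set_option autoImplicit false
universe u
open OmegaSh

namespace Groth.Agent.S9784

section helpers

open AlgebraicGeometry CategoryTheory Limits TopologicalSpace
open scoped TensorProduct
open Groth.Agent.Lib.Helper29.QCoh Groth.Agent.Helper19.OmegaD Groth.Agent.Helper19.OmegaLocal
open Groth.Agent.Helper19.OmegaAlg Groth.Agent.Helper19.Conormal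
open Groth.Agent.Helper19.UnivChart Groth.Agent.Helper19.UnivRing Groth.Agent.Helper19.UnivConormal
open Groth.Agent.Lib.Helper10.UnivThick

theorem hom_comp_eq {R S T : CommRingCat.{u}} (f : R ⟶ S) (g : S ⟶ T) (k : R ⟶ T)
    (h : f ≫ g = k) : g.hom.comp f.hom = k.hom := by
  rw [← h]; rfl

variable {Z Y X Z' Y' Z'' : Scheme.{u}} (i : Z ⟶ Y) (b : Y ⟶ X)
  (i' : Z ⟶ Z') (c : Z' ⟶ X) (hZ' : OmegaSh.IsUnivThickening (i ≫ b) i' c)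
  (j : Y ⟶ Y') (d : Y' ⟶ X) (hY' : OmegaSh.IsUnivThickening b j d)
  (m : Z' ⟶ Y') (hm₁ : i' ≫ m = i ≫ j) (hm₂ : m ≫ d = c)
  (i'' : Z ⟶ Z'') (e : Z'' ⟶ Y) (hZ'' : OmegaSh.IsUnivThickening i i'' e)
  (n : Z'' ⟶ Z') (hn₁ : i'' ≫ n = i') (hn₂ : n ≫ c = e ≫ b)

include hm₁ in
theorem le_aux {WY' : Y'.Opens} {WZ' : Z'.Opens} (h2 : WZ' ≤ m ⁻¹ᵁ WY') :
    i' ⁻¹ᵁ WZ' ≤ i ⁻¹ᵁ (j ⁻¹ᵁ WY') := by
  intro z hz
  have h3 : m (i' z) ∈ WY' := h2 hz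
  have h4 : m (i' z) = j (i z) := by
    rw [← Scheme.Hom.comp_apply, hm₁]; rfl
  rw [h4] at h3
  exact h3

include hZ' hY' hZ'' hm₁ hm₂ hn₁ hn₂ in
theorem chart_ring {VX : X.Opens} (hVX : IsAffineOpen VX) {WY' : Y'.Opens}
    (hWY' : IsAffineOpen WY') (h1 : WY' ≤ d ⁻¹ᵁ VX) {WZ' : Z'.Opens} (hWZ' : IsAffineOpen WZ')
    (h2 : WZ' ≤ m ⁻¹ᵁ WY') :
    Function.Surjective (n.app WZ').hom ∧
      RingHom.ker (n.app WZ').hom =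
        Ideal.map (m.appLE WY' WZ' h2).hom (j.ker.ideal ⟨WY', hWY'⟩) := by
  subst hn₁
  subst hm₂
  haveI : IsClosedImmersion j := hY'.1.1.1
  haveI : IsClosedImmersion i'' := hZ''.1.1.1
  have hWY : IsAffineOpen (j ⁻¹ᵁ WY') := isAffineOpen_preimage_of_fot hY'.1 hWY'
  have hW : IsAffineOpen ((i'' ≫ n) ⁻¹ᵁ WZ') := isAffineOpen_preimage_of_fot hZ'.1 hWZ'
  have hWZ'' : IsAffineOpen (n ⁻¹ᵁ WZ') := isAffineOpen_of_preimage i'' hZ''.1 hW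
  have eB : j ⁻¹ᵁ WY' ≤ b ⁻¹ᵁ VX := by
    intro y hy
    have h3 : d (j y) ∈ VX := h1 hy
    have h4 : d (j y) = b y := by
      rw [← Scheme.Hom.comp_apply, hY'.2.1]
    rw [h4] at h3
    exact h3
  have eBC : (i'' ≫ n) ⁻¹ᵁ WZ' ≤ i ⁻¹ᵁ (j ⁻¹ᵁ WY') := le_aux i (i'' ≫ n) j m hm₁ h2
  have h3 : WZ' ≤ (m ≫ d) ⁻¹ᵁ VX := fun z hz => h1 (h2 hz)
  have eC : (i'' ≫ n) ⁻¹ᵁ WZ' ≤ (i ≫ b) ⁻¹ᵁ VX := fun z hz => eB (eBC hz)
  have e5 : n ⁻¹ᵁ WZ' ≤ e ⁻¹ᵁ (j ⁻¹ᵁ WY') := by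
    intro z'' hz''
    obtain ⟨z, rfl⟩ := fot_surjective hZ''.1 z''
    have h5 : e (i'' z) = i z := by
      rw [← Scheme.Hom.comp_apply, hZ''.2.1]
    change e (i'' z) ∈ j ⁻¹ᵁ WY'
    rw [h5]
    exact eBC hz''
  have e6 : i'' ⁻¹ᵁ (n ⁻¹ᵁ WZ') ≤ i ⁻¹ᵁ (j ⁻¹ᵁ WY') := eBC
  have hB := isUT_chart b j d hY' hVX hWY' h1 eB
  have hC0 := isUT_chart (i ≫ b) (i'' ≫ n) (m ≫ d) hZ' hVX hWZ' h3 eC
  have hC'' := isUT_chart i i'' e hZ'' hWY hWZ'' e5 e6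
  have hφ : ((i ≫ b).appLE VX ((i'' ≫ n) ⁻¹ᵁ WZ') eC).hom =
      (i.appLE (j ⁻¹ᵁ WY') ((i'' ≫ n) ⁻¹ᵁ WZ') eBC).hom.comp (b.appLE VX (j ⁻¹ᵁ WY') eB).hom :=
    (hom_comp_eq _ _ _ (Scheme.Hom.appLE_comp_appLE i b VX _ _ eB eBC)).symm
  rw [hφ] at hC0
  have key := surjective_and_ker_eq (b.appLE VX (j ⁻¹ᵁ WY') eB).hom
    (i.appLE (j ⁻¹ᵁ WY') ((i'' ≫ n) ⁻¹ᵁ WZ') eBC).hom
    (d.appLE VX WY' h1).hom (j.appLE WY' (j ⁻¹ᵁ WY') le_rfl).hom hB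
    ((m ≫ d).appLE VX WZ' h3).hom ((i'' ≫ n).appLE WZ' ((i'' ≫ n) ⁻¹ᵁ WZ') le_rfl).hom hC0
    (e.appLE (j ⁻¹ᵁ WY') (n ⁻¹ᵁ WZ') e5).hom
    (i''.appLE (n ⁻¹ᵁ WZ') (i'' ⁻¹ᵁ (n ⁻¹ᵁ WZ')) le_rfl).hom hC''
    (m.appLE WY' WZ' h2).hom
    (hom_comp_eq _ _ _ (Scheme.Hom.appLE_comp_appLE m d VX WY' WZ' h1 h2))
    (by
      rw [hom_comp_eq _ _ _ (Scheme.Hom.appLE_comp_appLE (i'' ≫ n) m WY' WZ' _ h2 le_rfl),
        hom_comp_eq _ _ _ (Scheme.Hom.appLE_comp_appLE i j WY' _ _ le_rfl eBC)]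
      exact congrArg _ (appLE_congr' hm₁ _ _))
    (n.appLE WZ' (n ⁻¹ᵁ WZ') le_rfl).hom
    (hom_comp_eq _ _ _ (Scheme.Hom.appLE_comp_appLE i'' n WZ' _ _ le_rfl le_rfl))
    (by
      rw [hom_comp_eq _ _ _ (Scheme.Hom.appLE_comp_appLE n (m ≫ d) VX WZ' _ h3 le_rfl),
        hom_comp_eq _ _ _ (Scheme.Hom.appLE_comp_appLE e b VX _ _ eB e5)]
      exact congrArg _ (appLE_congr' hn₂ _ _))
  rw [Scheme.Hom.appLE_eq_app] at key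
  have hk : RingHom.ker (j.appLE WY' (j ⁻¹ᵁ WY') le_rfl).hom = j.ker.ideal ⟨WY', hWY'⟩ := by
    rw [Scheme.Hom.appLE_eq_app, Scheme.Hom.ker_apply]
  rw [hk] at key
  exact key

variable (ψ₁ : (Scheme.Modules.pullback i).obj (Omega.conormal j) ⟶ Omega.conormal i')
  (hψ₁ : OmegaSh.IsConormalMap i' j m i ψ₁)
  (ψ₂ : (Scheme.Modules.pullback (𝟙 Z)).obj (Omega.conormal i') ⟶ Omega.conormal i'')
  (hψ₂ : OmegaSh.IsConormalMap i'' i' n (𝟙 Z) ψ₂)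

set_option maxRecDepth 16000 in
include hZ' hY' hZ'' hm₁ hm₂ hn₁ hn₂ hψ₁ hψ₂ in
theorem local_main {VX : X.Opens} (hVX : IsAffineOpen VX) {WY' : Y'.Opens}
    (hWY' : IsAffineOpen WY') (h1 : WY' ≤ d ⁻¹ᵁ VX) {WZ' : Z'.Opens} (hWZ' : IsAffineOpen WZ')
    (h2 : WZ' ≤ m ⁻¹ᵁ WY') :
    Function.Exact (ψ₁.app (i' ⁻¹ᵁ WZ'))
      (((Scheme.Modules.pullbackId Z).inv.app (Omega.conormal i') ≫ ψ₂).app (i' ⁻¹ᵁ WZ')) ∧
    Function.Surjective (ψ₂.app (i' ⁻¹ᵁ WZ')) := by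
  obtain ⟨hsurj, hker⟩ := chart_ring i b i' c hZ' j d hY' m hm₁ hm₂ i'' e hZ'' n hn₁ hn₂
    hVX hWY' h1 hWZ' h2
  subst hn₁
  haveI : IsClosedImmersion j := hY'.1.1.1
  haveI : IsClosedImmersion i'' := hZ''.1.1.1
  haveI : IsClosedImmersion (i'' ≫ n) := hZ'.1.1.1
  have hWY : IsAffineOpen (j ⁻¹ᵁ WY') := isAffineOpen_preimage_of_fot hY'.1 hWY'
  have hW : IsAffineOpen ((i'' ≫ n) ⁻¹ᵁ WZ') := isAffineOpen_preimage_of_fot hZ'.1 hWZ'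
  have hWZ'' : IsAffineOpen (n ⁻¹ᵁ WZ') := isAffineOpen_of_preimage i'' hZ''.1 hW
  have eW : (i'' ≫ n) ⁻¹ᵁ WZ' ≤ i ⁻¹ᵁ (j ⁻¹ᵁ WY') := le_aux i (i'' ≫ n) j m hm₁ h2
  have eWW : (i'' ≫ n) ⁻¹ᵁ WZ' ≤ (i'' ≫ n) ⁻¹ᵁ WZ' := le_rfl
  have eW'' : (i'' ≫ n) ⁻¹ᵁ WZ' ≤ i'' ⁻¹ᵁ (n ⁻¹ᵁ WZ') := le_rfl
  have eVV : n ⁻¹ᵁ WZ' ≤ n ⁻¹ᵁ WZ' := le_rfl
  have eYY : j ⁻¹ᵁ WY' ≤ j ⁻¹ᵁ WY' := le_rfl
  have cC' : IsClosedChart (i'' ≫ n) hWZ' eWW := isClosedChart_fot (i'' ≫ n) hWZ'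
  have cj : IsClosedChart j hWY' eYY := isClosedChart_fot j hWY'
  have cC'' : IsClosedChart i'' hWZ'' eW'' := isClosedChart_fot i'' hWZ''
  have hI'' : ∀ y : Γ(Z'', n ⁻¹ᵁ WZ'), y ∈ (i''.ker.ideal ⟨n ⁻¹ᵁ WZ', hWZ''⟩) ^ 2 → y = 0 := by
    intro y hy
    rw [ideal_sq_eq_bot i'' hZ''.1 hWZ''] at hy
    exact hy
  have hJ : (i'' ≫ n).ker.ideal ⟨WZ', hWZ'⟩ =
      Ideal.comap (n.app WZ').hom (i''.ker.ideal ⟨n ⁻¹ᵁ WZ', hWZ''⟩) := by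
    rw [Scheme.Hom.ker_apply (i'' ≫ n) ⟨WZ', hWZ'⟩, Scheme.Hom.ker_apply i'' ⟨n ⁻¹ᵁ WZ', hWZ''⟩,
      RingHom.comap_ker]
    rfl
  have hJb : ∀ y : Γ(Z', WZ'), y ∈ (i'' ≫ n).ker.ideal ⟨WZ', hWZ'⟩ →
      (n.app WZ').hom y ∈ i''.ker.ideal ⟨n ⁻¹ᵁ WZ', hWZ''⟩ := by
    intro y hy
    rw [hJ, Ideal.mem_comap] at hy
    exact hy
  have hmI : ∀ x' : j.ker.ideal ⟨WY', hWY'⟩,
      (m.appLE WY' WZ' h2).hom x'.1 ∈ (i'' ≫ n).ker.ideal ⟨WZ', hWZ'⟩ := fun x' =>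
    appLE_mem_ker_ideal (i'' ≫ n) j m i ψ₁ hψ₁ hWY' hWZ' h2 x'
  -- ψ₁ on classes
  have h1c : ∀ x' : j.ker.ideal ⟨WY', hWY'⟩,
      ψ₁.app ((i'' ≫ n) ⁻¹ᵁ WZ') (res _ eW (Groth.Agent.Lib.Helper29.QCoh.pullSect i
        (Omega.conormal j) (j ⁻¹ᵁ WY') (clsV j hWY' eYY x'))) =
        clsV (i'' ≫ n) hWZ' eWW ⟨(m.appLE WY' WZ' h2).hom x'.1, hmI x'⟩ := fun x' =>
    conormalMap_clsV (i'' ≫ n) j m i ψ₁ hψ₁ hWY' hWZ' h2 eYY eWW eW x'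
      ⟨(m.appLE WY' WZ' h2).hom x'.1, hmI x'⟩ rfl
  -- ψ₂ on classes
  have h2c : ∀ y : (i'' ≫ n).ker.ideal ⟨WZ', hWZ'⟩,
      ψ₂.app ((i'' ≫ n) ⁻¹ᵁ WZ')
        (((Scheme.Modules.pullbackId Z).inv.app (Omega.conormal (i'' ≫ n))).app
          ((i'' ≫ n) ⁻¹ᵁ WZ') (clsV (i'' ≫ n) hWZ' eWW y)) =
        clsV i'' hWZ'' eW'' ⟨(n.app WZ').hom y.1, hJb y.1 y.2⟩ := by
    intro y
    have h := conormalMap_clsV i'' (i'' ≫ n) n (𝟙 Z) ψ₂ hψ₂ hWZ' hWZ'' eVV eWW eW''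
      (le_refl ((i'' ≫ n) ⁻¹ᵁ WZ')) y ⟨(n.app WZ').hom y.1, hJb y.1 y.2⟩
      (by rw [Scheme.Hom.appLE_eq_app])
    rw [pullbackId_inv_app_app]
    refine (congrArg (fun t => ψ₂.app ((i'' ≫ n) ⁻¹ᵁ WZ') t) ?_).trans h
    exact (res_self _ _).symm
  have hzero : ∀ yb : i''.ker.ideal ⟨n ⁻¹ᵁ WZ', hWZ''⟩, yb.1 = 0 → clsV i'' hWZ'' eW'' yb = 0 := by
    intro yb h0
    rw [clsV_eq_zero_iff hW cC'', h0]
    exact zero_mem _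
  have hkerle : ∀ y : Γ(Z', WZ'),
      y ∈ Ideal.map (m.appLE WY' WZ' h2).hom (j.ker.ideal ⟨WY', hWY'⟩) → (n.app WZ').hom y = 0 := by
    intro y hy
    rw [← hker] at hy
    exact hy
  have hkerge : ∀ y : Γ(Z', WZ'), (n.app WZ').hom y = 0 →
      y ∈ Ideal.map (m.appLE WY' WZ' h2).hom (j.ker.ideal ⟨WY', hWY'⟩) := by
    intro y hy
    rw [← hker]
    exact hy
  refine ⟨?_, ?_⟩
  · intro mC
    constructor
    · intro hm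
      obtain ⟨y, rfl⟩ := exists_clsV_eq hW cC' mC
      have h3 : clsV i'' hWZ'' eW'' ⟨(n.app WZ').hom y.1, hJb y.1 y.2⟩ = 0 := by
        rw [← h2c]; exact hm
      rw [clsV_eq_zero_iff hW cC''] at h3
      have h4 : (n.app WZ').hom y.1 = 0 := hI'' _ h3
      have h5 := hkerge y.1 h4
      -- induction over the span
      have key : ∀ y : Γ(Z', WZ'),
          y ∈ Ideal.map (m.appLE WY' WZ' h2).hom (j.ker.ideal ⟨WY', hWY'⟩) →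
          ∃ hy : y ∈ (i'' ≫ n).ker.ideal ⟨WZ', hWZ'⟩,
            clsV (i'' ≫ n) hWZ' eWW ⟨y, hy⟩ ∈ Set.range (ψ₁.app ((i'' ≫ n) ⁻¹ᵁ WZ')) := by
        intro y hy
        rw [Ideal.map] at hy
        induction hy using Submodule.span_induction with
        | mem y hy =>
          obtain ⟨x', hx', rfl⟩ := hy
          exact ⟨hmI ⟨x', hx'⟩, ⟨_, h1c ⟨x', hx'⟩⟩⟩
        | zero =>
          refine ⟨zero_mem _, ⟨0, ?_⟩⟩
          rw [map_zero, (clsV_eq_zero_iff hW cC' _).mpr (zero_mem _)]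
        | add a b _ _ ha hb =>
          obtain ⟨ha1, ta, hta⟩ := ha
          obtain ⟨hb1, tb, htb⟩ := hb
          refine ⟨add_mem ha1 hb1, ⟨ta + tb, ?_⟩⟩
          rw [map_add, hta, htb, ← clsV_add hW]
          rfl
        | smul r a _ ha =>
          obtain ⟨ha1, ta, hta⟩ := ha
          refine ⟨Ideal.mul_mem_left _ _ ha1, ⟨((i'' ≫ n).appLE WZ' _ eWW).hom r • ta, ?_⟩⟩
          rw [Scheme.Modules.Hom.app_smul, hta, ← clsV_smul hW]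
          rfl
      obtain ⟨hy, t, ht⟩ := key y.1 h5
      exact ⟨t, ht⟩
    · rintro ⟨t, rfl⟩
      have hspan := pullback_span i (Omega.conormal j) hW hWY eW t
      induction hspan using Submodule.span_induction with
      | mem t ht =>
        obtain ⟨s, rfl⟩ := ht
        obtain ⟨x', rfl⟩ := exists_clsV_eq hWY cj s
        change ψ₂.app _ (((Scheme.Modules.pullbackId Z).inv.app (Omega.conormal (i'' ≫ n))).app _
          (ψ₁.app _ (res _ eW (Groth.Agent.Lib.Helper29.QCoh.pullSect i (Omega.conormal j)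
            (j ⁻¹ᵁ WY') (clsV j hWY' eYY x'))))) = 0
        rw [h1c, h2c]
        apply hzero
        change (n.app WZ').hom ((m.appLE WY' WZ' h2).hom x'.1) = 0
        exact hkerle _ (Ideal.mem_map_of_mem _ x'.2)
      | zero => rw [map_zero, map_zero]
      | add a b _ _ ha hb => rw [map_add, map_add, ha, hb, add_zero]
      | smul c a _ ha =>
        rw [Scheme.Modules.Hom.app_smul, Scheme.Modules.Hom.app_smul, ha, smul_zero]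
  · intro m''
    obtain ⟨yb, rfl⟩ := exists_clsV_eq hW cC'' m''
    obtain ⟨y, hy⟩ := hsurj yb.1
    have hyJ : y ∈ (i'' ≫ n).ker.ideal ⟨WZ', hWZ'⟩ := by
      rw [hJ, Ideal.mem_comap, hy]
      exact yb.2
    refine ⟨((Scheme.Modules.pullbackId Z).inv.app (Omega.conormal (i'' ≫ n))).app
      ((i'' ≫ n) ⁻¹ᵁ WZ') (clsV (i'' ≫ n) hWZ' eWW ⟨y, hyJ⟩), ?_⟩
    rw [h2c]
    exact clsV_congr _ _ hy

/-- The chart opens of `Z`. -/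
def chartB : Set Z.Opens :=
  {W | ∃ (VX : X.Opens) (WY' : Y'.Opens) (WZ' : Z'.Opens), IsAffineOpen VX ∧ IsAffineOpen WY' ∧
    WY' ≤ d ⁻¹ᵁ VX ∧ IsAffineOpen WZ' ∧ WZ' ≤ m ⁻¹ᵁ WY' ∧ W = i' ⁻¹ᵁ WZ'}

theorem isBasis_chartB (hi' : MoreMor.IsFirstOrderThickening i') :
    Opens.IsBasis (chartB i' d m) := by
  rw [Opens.isBasis_iff_nbhd]
  intro N z hz
  obtain ⟨O, hO⟩ := fot_exists_opens hi' N
  obtain ⟨VX, hVX, hxVX, -⟩ := exists_isAffineOpen_mem_and_subset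
    (x := d (m (i' z))) (U := ⊤) trivial
  obtain ⟨WY', hWY', hyWY', hWY'le⟩ := exists_isAffineOpen_mem_and_subset
    (x := m (i' z)) (U := d ⁻¹ᵁ VX) hxVX
  have hzO : i' z ∈ O := by
    have : z ∈ i' ⁻¹ᵁ O := by rw [hO]; exact hz
    exact this
  obtain ⟨WZ', hWZ', hzWZ', hWZ'le⟩ := exists_isAffineOpen_mem_and_subset
    (x := i' z) (U := m ⁻¹ᵁ WY' ⊓ O) ⟨hyWY', hzO⟩
  refine ⟨i' ⁻¹ᵁ WZ', ⟨VX, WY', WZ', hVX, hWY', hWY'le, hWZ', fun x hx => (hWZ'le hx).1, rfl⟩,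
    hzWZ', ?_⟩
  intro x hx
  have h1 : i' x ∈ O := (hWZ'le hx).2
  have h2 : x ∈ i' ⁻¹ᵁ O := h1
  rw [hO] at h2
  exact h2

end helpers

open AlgebraicGeometry CategoryTheory Limits in

open AlgebraicGeometry CategoryTheory Limits in
/-- Let i : Z ⟶ Y and b : Y ⟶ X be formally unramified, let (i' : Z ⟶ Z', c) be a first order thickening
over X that is universal for i ≫ b, (j : Y ⟶ Y', d) one universal for b, m : Z' ⟶ Y' the morphism of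
thickenings over X compatible with i, (i'' : Z ⟶ Z'', e) a first order thickening over Y that is
universal for i, and n : Z'' ⟶ Z' the morphism of thickenings over X extending the identity of Z.
Let ψ₁ : i^*C_{Y/Y'} ⟶ C_{Z/Z'} and ψ₂ : C_{Z/Z'} ⟶ C_{Z/Z''} be the canonical maps of conormal
sheaves induced by (i, m) and (id, n). These are the conormal sheaves C_{Y/X}, C_{Z/X}, C_{Z/Y} of
the formally unramified morphisms and the canonical maps between them. Then the sequence i^*C_{Y/X}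
⟶ C_{Z/X} ⟶ C_{Z/Y} ⟶ 0 they form is exact. -/
theorem result {Z Y X Z' Y' Z'' : Scheme.{u}} (i : Z ⟶ Y) (b : Y ⟶ X)
    [FormallyUnramified i] [FormallyUnramified b]
    (i' : Z ⟶ Z') (c : Z' ⟶ X) (hZ' : OmegaSh.IsUnivThickening (i ≫ b) i' c)
    (j : Y ⟶ Y') (d : Y' ⟶ X) (hY' : OmegaSh.IsUnivThickening b j d)
    (m : Z' ⟶ Y') (hm₁ : i' ≫ m = i ≫ j) (hm₂ : m ≫ d = c)
    (i'' : Z ⟶ Z'') (e : Z'' ⟶ Y) (hZ'' : OmegaSh.IsUnivThickening i i'' e)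
    (n : Z'' ⟶ Z') (hn₁ : i'' ≫ n = i') (hn₂ : n ≫ c = e ≫ b)
    (ψ₁ : (Scheme.Modules.pullback i).obj (Omega.conormal j) ⟶ Omega.conormal i') (hψ₁ : OmegaSh.IsConormalMap i' j m i ψ₁)
    (ψ₂ : (Scheme.Modules.pullback (𝟙 Z)).obj (Omega.conormal i') ⟶ Omega.conormal i'') (hψ₂ : OmegaSh.IsConormalMap i'' i' n (𝟙 Z) ψ₂) :
    ∃ w : (Scheme.Modules.pullback (𝟙 Z)).map ψ₁ ≫ ψ₂ = 0, (ShortComplex.mk _ _ w).Exact ∧ Epi ψ₂ := by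
  have hB := isBasis_chartB i' d m hZ'.1
  have hloc : ∀ W ∈ chartB i' d m,
      Function.Exact (ψ₁.app W)
        (((Scheme.Modules.pullbackId Z).inv.app (Omega.conormal i') ≫ ψ₂).app W) ∧
      Function.Surjective (ψ₂.app W) := by
    rintro W ⟨VX, WY', WZ', hVX, hWY', h1, hWZ', h2, rfl⟩
    exact local_main i b i' c hZ' j d hY' m hm₁ hm₂ i'' e hZ'' n hn₁ hn₂ ψ₁ hψ₁ ψ₂ hψ₂
      hVX hWY' h1 hWZ' h2
  have hepi : Epi ψ₂ := by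
    apply Groth.Agent.Helper19.OmegaD.epi_of_surjective_on_basis ψ₂ _ hB
    intro W hW
    exact (hloc W hW).2
  have w' : ψ₁ ≫ ((Scheme.Modules.pullbackId Z).inv.app (Omega.conormal i') ≫ ψ₂) = 0 := by
    apply Groth.Agent.Helper19.OmegaD.hom_ext_of_basis _ hB
    intro W hW t
    exact (((hloc W hW).1) _).mpr ⟨t, rfl⟩
  have hex' : (ShortComplex.mk ψ₁ _ w').Exact :=
    Groth.Agent.Helper19.OmegaD.exact_of_exact_on_basis _ hB _ (fun W hW => (hloc W hW).1)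
  have hnat : (Scheme.Modules.pullback (𝟙 Z)).map ψ₁ ≫
      (Scheme.Modules.pullbackId Z).hom.app (Omega.conormal i') =
      (Scheme.Modules.pullbackId Z).hom.app _ ≫ ψ₁ :=
    (Scheme.Modules.pullbackId Z).hom.naturality ψ₁
  have hmap : (Scheme.Modules.pullback (𝟙 Z)).map ψ₁ =
      (Scheme.Modules.pullbackId Z).hom.app _ ≫ ψ₁ ≫
        (Scheme.Modules.pullbackId Z).inv.app (Omega.conormal i') := by
    rw [← Category.assoc, ← hnat, Category.assoc, Iso.hom_inv_id_app, Category.comp_id]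
  have w : (Scheme.Modules.pullback (𝟙 Z)).map ψ₁ ≫ ψ₂ = 0 := by
    rw [hmap, Category.assoc, Category.assoc, w', comp_zero]
  refine ⟨w, ?_, hepi⟩
  let eS : ShortComplex.mk ((Scheme.Modules.pullback (𝟙 Z)).map ψ₁) ψ₂ w ≅
      ShortComplex.mk ψ₁ ((Scheme.Modules.pullbackId Z).inv.app (Omega.conormal i') ≫ ψ₂) w' :=
    ShortComplex.isoMk ((Scheme.Modules.pullbackId Z).app _) ((Scheme.Modules.pullbackId Z).app _)
      (Iso.refl _) (by exact hnat.symm) (by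
        change ((Scheme.Modules.pullbackId Z).hom.app (Omega.conormal i')) ≫
          ((Scheme.Modules.pullbackId Z).inv.app (Omega.conormal i') ≫ ψ₂) = ψ₂ ≫ 𝟙 _
        rw [Category.comp_id, Iso.hom_inv_id_app_assoc])
  exact (ShortComplex.exact_iff_of_iso eS).mpr hex'

end Groth.Agent.S9784
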