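import Groth.Statements.S9785
import Mathlib
import Groth.Agent.Helper19.UnivConormal
import Groth.Agent.Helper19.UnivRing5
import Groth.Agent.Helper19.FlatLift
import Groth.Agent.Lib.Helper29.QCohLocFree
import Groth.Agent.S8679
import Groth.Agent.S9772
import Groth.Agent.S9784
-- import your own Groth.Agent.* helpers here

set_option autoImplicit false
universe u
open OmegaSh

namespace Groth.Agent.S9785

section helpers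

open AlgebraicGeometry CategoryTheory Limits TopologicalSpace
open scoped TensorProduct
open Groth.Agent.Lib.Helper29.QCoh Groth.Agent.Helper19.OmegaD Groth.Agent.Helper19.OmegaLocal
open Groth.Agent.Helper19.OmegaAlg Groth.Agent.Helper19.Conormal
open Groth.Agent.Helper19.UnivChart Groth.Agent.Helper19.UnivRing Groth.Agent.Helper19.UnivConormal
open Groth.Agent.Lib.Helper10.UnivThick

theorem hom_comp_eq {R S T : CommRingCat.{u}} (f : R ⟶ S) (g : S ⟶ T) (k : R ⟶ T)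
    (h : f ≫ g = k) : g.hom.comp f.hom = k.hom := by
  rw [← h]; rfl

/-- Standard smooth basic open neighbourhoods. -/
theorem exists_basicOpen_isStandardSmooth {P Y : Scheme.{u}} (π : P ⟶ Y) [Smooth π]
    {VY : Y.Opens} (hVY : IsAffineOpen VY) {V : P.Opens} (hV : IsAffineOpen V)
    (e : V ≤ π ⁻¹ᵁ VY) (p : P) (hp : p ∈ V) :
    ∃ (V₁ : P.Opens) (_ : IsAffineOpen V₁) (hle : V₁ ≤ V), p ∈ V₁ ∧
      (π.appLE VY V₁ (hle.trans e)).hom.IsStandardSmooth := by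
  have h1 : (π.appLE VY V e).hom.Smooth := π.smooth_appLE hVY hV e
  rw [RingHom.smooth_iff_locally_isStandardSmooth,
    RingHom.locally_iff_isLocalization RingHom.isStandardSmooth_respectsIso] at h1
  obtain ⟨s, hs, h⟩ := h1
  have hcov := iSup_basicOpen_of_span_eq_top V (s : Set Γ(P, V)) hs
  rw [← hcov] at hp
  obtain ⟨t, hp⟩ := Opens.mem_iSup.mp hp
  obtain ⟨ht, hp⟩ := Opens.mem_iSup.mp hp
  refine ⟨P.basicOpen t, hV.basicOpen t, P.basicOpen_le t, hp, ?_⟩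
  haveI := hV.isLocalization_basicOpen t
  have h2 := h t ht Γ(P, P.basicOpen t)
  have h3 : (algebraMap Γ(P, V) Γ(P, P.basicOpen t)).comp (π.appLE VY V e).hom =
      (π.appLE VY (P.basicOpen t) ((P.basicOpen_le t).trans e)).hom :=
    hom_comp_eq _ _ _ (Scheme.Hom.appLE_map π e (homOfLE (P.basicOpen_le t)).op)
  rw [h3] at h2
  exact h2

section cls

variable {Z X : Scheme.{u}} (i : Z ⟶ X) {U : X.Opens} (hU : IsAffineOpen U)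
  {V : Z.Opens} (e : V ≤ i ⁻¹ᵁ U)

theorem clsV_zero (hV : IsAffineOpen V) : clsV i hU e 0 = 0 := by
  have h : (0 : i.ker.ideal ⟨U, hU⟩) = (0 : Γ(X, U)) • 0 := (zero_smul _ _).symm
  rw [h, clsV_smul hV, map_zero, zero_smul]

theorem clsV_sum (hV : IsAffineOpen V) {κ : Type*} (s : Finset κ) (a : κ → Γ(X, U))
    (y : κ → i.ker.ideal ⟨U, hU⟩) :
    ∑ k ∈ s, (i.appLE U V e).hom (a k) • clsV i hU e (y k) =
      clsV i hU e (∑ k ∈ s, a k • y k) := by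
  classical
  induction s using Finset.induction_on with
  | empty => rw [Finset.sum_empty, Finset.sum_empty, clsV_zero i hU e hV]
  | insert k s hk ih =>
    rw [Finset.sum_insert hk, Finset.sum_insert hk, clsV_add hV, clsV_smul hV, ih]

end cls

variable {Z Y X Z' Y' : Scheme.{u}} (i : Z ⟶ Y) (b : Y ⟶ X)
  (i' : Z ⟶ Z') (c : Z' ⟶ X) (hZ' : OmegaSh.IsUnivThickening (i ≫ b) i' c)
  (j : Y ⟶ Y') (d : Y' ⟶ X) (hY' : OmegaSh.IsUnivThickening b j d)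
  (m : Z' ⟶ Y') (hm₁ : i' ≫ m = i ≫ j) (hm₂ : m ≫ d = c)
  (ψ₁ : (Scheme.Modules.pullback i).obj (Omega.conormal j) ⟶ Omega.conormal i')
  (hψ₁ : OmegaSh.IsConormalMap i' j m i ψ₁)
  {Z₁ P₁ : Scheme.{u}} (ι : Z₁ ⟶ Z) [IsOpenImmersion ι] (j₁ : Z₁ ⟶ P₁) [IsClosedImmersion j₁]
  (π₁ : P₁ ⟶ Y) [Smooth π₁] (hjπ : j₁ ≫ π₁ = ι ≫ i)
  {T₁ : P₁.Opens} (hT₁ : IsAffineOpen T₁)
  {r : ℕ} (rs : Fin r → Γ(P₁, T₁)) (hrs : CAlgX.IsH1Regular rs)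
  (hker : RingHom.ker (j₁.app T₁).hom = Ideal.span (Set.range rs))

set_option maxRecDepth 16000 in
set_option maxHeartbeats 1600000 in
include hZ' hY' hm₁ hm₂ hψ₁ hjπ hT₁ hrs hker in
theorem chart_mono {VX : X.Opens} (hVX : IsAffineOpen VX) {WY' : Y'.Opens}
    (hWY' : IsAffineOpen WY') (h1 : WY' ≤ d ⁻¹ᵁ VX)
    {V₁ : P₁.Opens} (hV₁ : IsAffineOpen V₁) (hV₁T : V₁ ≤ T₁)
    (hV₁Y : V₁ ≤ π₁ ⁻¹ᵁ (j ⁻¹ᵁ WY'))
    (hstd : (π₁.appLE (j ⁻¹ᵁ WY') V₁ hV₁Y).hom.IsStandardSmooth)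
    {WZ' : Z'.Opens} (hWeq : ι ''ᵁ (j₁ ⁻¹ᵁ V₁) = i' ⁻¹ᵁ WZ') :
    Function.Injective (ψ₁.app (i' ⁻¹ᵁ WZ')) := by
  subst hm₂
  haveI : IsClosedImmersion j := hY'.1.1.1
  haveI : IsClosedImmersion i' := hZ'.1.1.1
  have hO₁ : IsAffineOpen (j₁ ⁻¹ᵁ V₁) := hV₁.preimage j₁
  have hW : IsAffineOpen (i' ⁻¹ᵁ WZ') := by
    rw [← hWeq]
    exact hO₁.image_of_isOpenImmersion ι
  have hWZ' : IsAffineOpen WZ' := isAffineOpen_of_preimage i' hZ'.1 hW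
  have hVY : IsAffineOpen (j ⁻¹ᵁ WY') := isAffineOpen_preimage_of_fot hY'.1 hWY'
  have eσ : j₁ ⁻¹ᵁ V₁ ≤ ι ⁻¹ᵁ (i' ⁻¹ᵁ WZ') := by
    intro z hz
    change ι z ∈ i' ⁻¹ᵁ WZ'
    rw [← hWeq]
    exact ⟨z, hz, rfl⟩
  have eBC : i' ⁻¹ᵁ WZ' ≤ i ⁻¹ᵁ (j ⁻¹ᵁ WY') := by
    intro z hz
    rw [← hWeq] at hz
    obtain ⟨z₁, hz₁, rfl⟩ := hz
    have h : i (ι z₁) = π₁ (j₁ z₁) := by
      rw [← Scheme.Hom.comp_apply, ← hjπ, Scheme.Hom.comp_apply]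
    change i (ι z₁) ∈ j ⁻¹ᵁ WY'
    rw [h]
    exact hV₁Y hz₁
  have h2 : WZ' ≤ m ⁻¹ᵁ WY' := by
    intro z' hz'
    obtain ⟨z, rfl⟩ := fot_surjective hZ'.1 z'
    have h4 : m (i' z) = j (i z) := by
      rw [← Scheme.Hom.comp_apply, hm₁]; rfl
    change m (i' z) ∈ WY'
    rw [h4]
    exact eBC hz'
  have eB : j ⁻¹ᵁ WY' ≤ b ⁻¹ᵁ VX := by
    intro y hy
    have h3 : d (j y) ∈ VX := h1 hy
    have h4 : d (j y) = b y := by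
      rw [← Scheme.Hom.comp_apply, hY'.2.1]
    rw [h4] at h3
    exact h3
  have h3 : WZ' ≤ (m ≫ d) ⁻¹ᵁ VX := fun z hz => h1 (h2 hz)
  have eC : i' ⁻¹ᵁ WZ' ≤ (i ≫ b) ⁻¹ᵁ VX := fun z hz => eB (eBC hz)
  have hB := isUT_chart b j d hY' hVX hWY' h1 eB
  have hC0 := isUT_chart (i ≫ b) i' (m ≫ d) hZ' hVX hWZ' h3 eC
  have hφ : ((i ≫ b).appLE VX (i' ⁻¹ᵁ WZ') eC).hom =
      (i.appLE (j ⁻¹ᵁ WY') (i' ⁻¹ᵁ WZ') eBC).hom.comp (b.appLE VX (j ⁻¹ᵁ WY') eB).hom :=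
    (hom_comp_eq _ _ _ (Scheme.Hom.appLE_comp_appLE i b VX _ _ eB eBC)).symm
  rw [hφ] at hC0
  have hm1r : (m.appLE WY' WZ' h2).hom.comp (d.appLE VX WY' h1).hom =
      ((m ≫ d).appLE VX WZ' h3).hom :=
    hom_comp_eq _ _ _ (Scheme.Hom.appLE_comp_appLE m d VX WY' WZ' h1 h2)
  have hm2r : (i'.appLE WZ' (i' ⁻¹ᵁ WZ') le_rfl).hom.comp (m.appLE WY' WZ' h2).hom =
      (i.appLE (j ⁻¹ᵁ WY') (i' ⁻¹ᵁ WZ') eBC).hom.comp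
        (j.appLE WY' (j ⁻¹ᵁ WY') le_rfl).hom := by
    rw [hom_comp_eq _ _ _ (Scheme.Hom.appLE_comp_appLE i' m WY' WZ' _ h2 le_rfl),
      hom_comp_eq _ _ _ (Scheme.Hom.appLE_comp_appLE i j WY' _ _ le_rfl eBC)]
    exact congrArg _ (appLE_congr' hm₁ _ _)
  -- the closed chart of `P₁`
  have hσ := Groth.Agent.S9772.appLE_bijective_of_image_eq ι (j₁ ⁻¹ᵁ V₁) (i' ⁻¹ᵁ WZ') hWeq eσ
  let σe : Γ(Z, i' ⁻¹ᵁ WZ') ≃+* Γ(Z₁, j₁ ⁻¹ᵁ V₁) :=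
    RingEquiv.ofBijective (ι.appLE (i' ⁻¹ᵁ WZ') (j₁ ⁻¹ᵁ V₁) eσ).hom hσ
  let θ' : Γ(P₁, V₁) →+* Γ(Z₁, j₁ ⁻¹ᵁ V₁) := (j₁.app V₁).hom
  let θ : Γ(P₁, V₁) →+* Γ(Z, i' ⁻¹ᵁ WZ') := (σe.symm : _ →+* _).comp θ'
  have hθ's : Function.Surjective θ' := j₁.app_surjective V₁ hV₁
  have hθs : Function.Surjective θ := σe.symm.surjective.comp hθ's
  have hkerθ : RingHom.ker θ = RingHom.ker θ' := by
    ext x
    rw [RingHom.mem_ker, RingHom.mem_ker]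
    change σe.symm (θ' x) = 0 ↔ θ' x = 0
    exact map_eq_zero_iff _ σe.symm.injective
  let fV : Fin r → Γ(P₁, V₁) := fun k => (P₁.presheaf.map (homOfLE hV₁T).op).hom (rs k)
  have hkerθ' : RingHom.ker θ' = Ideal.span (Set.range fV) := by
    have h1 := j₁.ker.map_ideal (U := ⟨V₁, hV₁⟩) (V := ⟨T₁, hT₁⟩) hV₁T
    rw [Scheme.Hom.ker_apply j₁ ⟨T₁, hT₁⟩, Scheme.Hom.ker_apply j₁ ⟨V₁, hV₁⟩, hker,
      Ideal.map_span, ← Set.range_comp] at h1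
    exact h1.symm
  have hfV : CAlgX.IsH1Regular fV := by
    have eT : V₁ ≤ (𝟙 P₁) ⁻¹ᵁ T₁ := hV₁T
    letI := algΓ (𝟙 P₁) eT
    haveI : Module.Flat Γ(P₁, T₁) Γ(P₁, V₁) :=
      HasRingHomProperty.appLE (P := @Flat) (𝟙 P₁) inferInstance ⟨T₁, hT₁⟩ ⟨V₁, hV₁⟩ eT
    exact isH1Regular_of_flat rs hrs
  have hcomp : (i.appLE (j ⁻¹ᵁ WY') (i' ⁻¹ᵁ WZ') eBC).hom =
      θ.comp (π₁.appLE (j ⁻¹ᵁ WY') V₁ hV₁Y).hom := by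
    have h1 : (σe : _ →+* _).comp (i.appLE (j ⁻¹ᵁ WY') (i' ⁻¹ᵁ WZ') eBC).hom =
        θ'.comp (π₁.appLE (j ⁻¹ᵁ WY') V₁ hV₁Y).hom := by
      have e1 : j₁ ⁻¹ᵁ V₁ ≤ (ι ≫ i) ⁻¹ᵁ (j ⁻¹ᵁ WY') := fun z hz => eBC (eσ hz)
      have e2 : j₁ ⁻¹ᵁ V₁ ≤ (j₁ ≫ π₁) ⁻¹ᵁ (j ⁻¹ᵁ WY') := fun z hz => hV₁Y hz
      have h2 := hom_comp_eq _ _ _
        (Scheme.Hom.appLE_comp_appLE ι i (j ⁻¹ᵁ WY') (i' ⁻¹ᵁ WZ') (j₁ ⁻¹ᵁ V₁) eBC eσ)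
      have h3 := hom_comp_eq _ _ _
        (Scheme.Hom.appLE_comp_appLE j₁ π₁ (j ⁻¹ᵁ WY') V₁ (j₁ ⁻¹ᵁ V₁) hV₁Y le_rfl)
      rw [Scheme.Hom.appLE_eq_app] at h3
      change (ι.appLE (i' ⁻¹ᵁ WZ') (j₁ ⁻¹ᵁ V₁) eσ).hom.comp
        (i.appLE (j ⁻¹ᵁ WY') (i' ⁻¹ᵁ WZ') eBC).hom =
        (j₁.app V₁).hom.comp (π₁.appLE (j ⁻¹ᵁ WY') V₁ hV₁Y).hom
      rw [h2, h3]
      exact congrArg _ (appLE_congr' hjπ.symm _ _)
    ext a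
    have h4 := congr($h1 a)
    change σe ((i.appLE (j ⁻¹ᵁ WY') (i' ⁻¹ᵁ WZ') eBC).hom a) =
      θ' ((π₁.appLE (j ⁻¹ᵁ WY') V₁ hV₁Y).hom a) at h4
    change (i.appLE (j ⁻¹ᵁ WY') (i' ⁻¹ᵁ WZ') eBC).hom a =
      σe.symm (θ' ((π₁.appLE (j ⁻¹ᵁ WY') V₁ hV₁Y).hom a))
    rw [← h4, RingEquiv.symm_apply_apply]
  -- the flat lift
  obtain ⟨Q', _, _, ε, hflat, hεs, hεσ, hkerε, hεsq⟩ :=
    Groth.Agent.Helper19.FlatLift.exists_flat_lift (j.appLE WY' (j ⁻¹ᵁ WY') le_rfl).hom hB.surj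
      (mul_eq_zero_of_ker_sq _ hB.sq) (π₁.appLE (j ⁻¹ᵁ WY') V₁ hV₁Y).hom hstd
  haveI := hflat
  -- closed charts
  have eYY : j ⁻¹ᵁ WY' ≤ j ⁻¹ᵁ WY' := le_rfl
  have eWW : i' ⁻¹ᵁ WZ' ≤ i' ⁻¹ᵁ WZ' := le_rfl
  have cj : IsClosedChart j hWY' eYY := isClosedChart_fot j hWY'
  have cC' : IsClosedChart i' hWZ' eWW := isClosedChart_fot i' hWZ'
  have hJ : RingHom.ker (j.appLE WY' (j ⁻¹ᵁ WY') le_rfl).hom = j.ker.ideal ⟨WY', hWY'⟩ := cj.2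
  have hmI : ∀ x' : j.ker.ideal ⟨WY', hWY'⟩,
      (m.appLE WY' WZ' h2).hom x'.1 ∈ i'.ker.ideal ⟨WZ', hWZ'⟩ := fun x' =>
    appLE_mem_ker_ideal i' j m i ψ₁ hψ₁ hWY' hWZ' h2 x'
  have h1c : ∀ x' : j.ker.ideal ⟨WY', hWY'⟩,
      ψ₁.app (i' ⁻¹ᵁ WZ') (res _ eBC (Groth.Agent.Lib.Helper29.QCoh.pullSect i
        (Omega.conormal j) (j ⁻¹ᵁ WY') (clsV j hWY' eYY x'))) =
        clsV i' hWZ' eWW ⟨(m.appLE WY' WZ' h2).hom x'.1, hmI x'⟩ := fun x' =>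
    conormalMap_clsV i' j m i ψ₁ hψ₁ hWY' hWZ' h2 eYY eWW eBC x'
      ⟨(m.appLE WY' WZ' h2).hom x'.1, hmI x'⟩ rfl
  letI := (i.appLE (j ⁻¹ᵁ WY') (i' ⁻¹ᵁ WZ') eBC).hom.toAlgebra
  haveI := isQuasicoherent_conormal j
  have hI'sq : ∀ y : Γ(Z', WZ'), y ∈ (i'.ker.ideal ⟨WZ', hWZ'⟩) ^ 2 → y = 0 := by
    intro y hy
    rw [ideal_sq_eq_bot i' hZ'.1 hWZ'] at hy
    exact hy
  rw [injective_iff_map_eq_zero]
  intro t ht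
  obtain ⟨S, hS⟩ := TensorProduct.exists_finset
    (pullbackSectionsEquiv i (Omega.conormal j) hW hVY eBC t)
  have hlift : ∀ p : Γ(Z, i' ⁻¹ᵁ WZ') × Γ(Omega.conormal j, j ⁻¹ᵁ WY'),
      ∃ (ct : Γ(Z', WZ')) (x : j.ker.ideal ⟨WY', hWY'⟩),
        (i'.appLE WZ' (i' ⁻¹ᵁ WZ') le_rfl).hom ct = p.1 ∧ p.2 = clsV j hWY' eYY x := by
    intro p
    obtain ⟨ct, hct⟩ := cC'.1 p.1
    obtain ⟨x, hx⟩ := exists_clsV_eq hVY cj p.2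
    exact ⟨ct, x, hct, hx⟩
  choose ct xs hct hxs using hlift
  have ht' : t = ∑ p ∈ S, p.1 • res _ eBC (Groth.Agent.Lib.Helper29.QCoh.pullSect i
      (Omega.conormal j) (j ⁻¹ᵁ WY') (clsV j hWY' eYY (xs p))) := by
    apply (pullbackSectionsEquiv i (Omega.conormal j) hW hVY eBC).injective
    rw [hS, map_sum]
    apply Finset.sum_congr rfl
    intro p _
    rw [map_smul, Groth.Agent.Helper19.PullUnit.pullbackSectionsEquiv_pullSect,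
      TensorProduct.smul_tmul', smul_eq_mul, mul_one, ← hxs]
  have hψt : ψ₁.app (i' ⁻¹ᵁ WZ') t = clsV i' hWZ' eWW
      (∑ p ∈ S, ct p • (⟨(m.appLE WY' WZ' h2).hom (xs p).1, hmI (xs p)⟩ :
        i'.ker.ideal ⟨WZ', hWZ'⟩)) := by
    rw [ht', map_sum, ← clsV_sum i' hWZ' eWW hW]
    apply Finset.sum_congr rfl
    intro p _
    rw [Scheme.Modules.Hom.app_smul, h1c, hct]
  rw [hψt, clsV_eq_zero_iff hW cC'] at ht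
  have hsum : ∑ p ∈ S, ct p * (m.appLE WY' WZ' h2).hom (xs p).1 = 0 := by
    have h5 := hI'sq _ ht
    rw [← h5, AddSubmonoidClass.coe_finset_sum]
    rfl
  have key := tensor_eq_zero_of_lci (b.appLE VX (j ⁻¹ᵁ WY') eB).hom
    (i.appLE (j ⁻¹ᵁ WY') (i' ⁻¹ᵁ WZ') eBC).hom (d.appLE VX WY' h1).hom
    (j.appLE WY' (j ⁻¹ᵁ WY') le_rfl).hom hB ((m ≫ d).appLE VX WZ' h3).hom
    (i'.appLE WZ' (i' ⁻¹ᵁ WZ') le_rfl).hom hC0 (m.appLE WY' WZ' h2).hom hm1r hm2r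
    (π₁.appLE (j ⁻¹ᵁ WY') V₁ hV₁Y).hom θ hθs hcomp.symm fV hfV (hkerθ.trans hkerθ')
    ε hεs hεσ hkerε hεsq (j.ker.ideal ⟨WY', hWY'⟩) hJ
    (G := Γ(Omega.conormal j, j ⁻¹ᵁ WY')) (clsV j hWY' eYY) (clsV_add hVY) (clsV_smul hVY)
    S ct xs hsum
  apply (pullbackSectionsEquiv i (Omega.conormal j) hW hVY eBC).injective
  rw [map_zero, hS, ← key]
  apply Finset.sum_congr rfl
  intro p _
  rw [hct, ← hxs]

include hZ' hY' hm₁ hm₂ hψ₁ in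
theorem exists_chart (hlci : ∀ z : Z, Synt.IsKoszulAt i z) (z : Z) (N : Z.Opens) (hz : z ∈ N) :
    ∃ W : Z.Opens, z ∈ W ∧ W ≤ N ∧ Function.Injective (ψ₁.app W) := by
  haveI : IsClosedImmersion j := hY'.1.1.1
  obtain ⟨U, P, j₀, π, hzU, -, hreg, hsm, hjπ⟩ := hlci z
  haveI := hsm
  obtain ⟨UP, hjuUP, hcl, rs, hrs, hker⟩ := hreg.2 ⟨z, hzU⟩
  haveI := hcl
  have hrs1 : CAlgX.IsH1Regular rs.get :=
    Groth.Agent.S8679.isH1Regular_of_isKoszulRegularSeq rs hrs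
  let ι : ((j₀ ⁻¹ᵁ UP.1 : (U : Scheme.{u}).Opens) : Scheme.{u}) ⟶ Z := (j₀ ⁻¹ᵁ UP.1).ι ≫ U.ι
  let π₁ : (UP.1 : Scheme.{u}) ⟶ Y := UP.1.ι ≫ π
  have hjπ₁ : (j₀ ∣_ UP.1) ≫ π₁ = ι ≫ i := by
    change (j₀ ∣_ UP.1) ≫ UP.1.ι ≫ π = ((j₀ ⁻¹ᵁ UP.1).ι ≫ U.ι) ≫ i
    rw [← Category.assoc, morphismRestrict_ι, Category.assoc, hjπ, Category.assoc]
  have hA : IsAffineOpen (UP.1.ι ''ᵁ ⊤) := (isAffineOpen_top _).image_of_isOpenImmersion UP.1.ι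
  have hAB : UP.1.ι ''ᵁ ⊤ ≤ UP.1 := UP.1.ι_image_top.le
  let rs' : Fin rs.length → Γ((UP.1 : Scheme.{u}), ⊤) :=
    fun k => (P.presheaf.map (homOfLE hAB).op).hom (rs.get k)
  have hrs' : CAlgX.IsH1Regular rs' := by
    have eT : UP.1.ι ''ᵁ ⊤ ≤ (𝟙 P) ⁻¹ᵁ UP.1 := hAB
    letI := Groth.Agent.Helper19.OmegaLocal.algΓ (𝟙 P) eT
    haveI : Module.Flat Γ(P, UP.1) Γ(P, UP.1.ι ''ᵁ ⊤) :=
      HasRingHomProperty.appLE (P := @Flat) (𝟙 P) inferInstance UP ⟨UP.1.ι ''ᵁ ⊤, hA⟩ eT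
    exact Groth.Agent.Helper19.OmegaAlg.isH1Regular_of_flat (R' := Γ(P, UP.1.ι ''ᵁ ⊤))
      rs.get hrs1
  have hker' : RingHom.ker ((j₀ ∣_ UP.1).app ⊤).hom = Ideal.span (Set.range rs') := by
    rw [Groth.Agent.S9772.ker_morphismRestrict_app,
      Groth.Agent.S9772.ker_app_of_eq j₀ UP.1.ι_image_top hAB, hker, Ideal.ofList,
      Ideal.map_span]
    congr 1
    ext y
    constructor
    · rintro ⟨x, hx, rfl⟩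
      obtain ⟨k, rfl⟩ := List.mem_iff_get.mp hx
      exact ⟨k, rfl⟩
    · rintro ⟨k, rfl⟩
      exact ⟨rs.get k, List.get_mem _ _, rfl⟩
  -- the charts
  obtain ⟨VX, hVX, hxVX, -⟩ :=
    exists_isAffineOpen_mem_and_subset (x := b (i z)) (U := ⊤) trivial
  have hdj : d (j (i z)) = b (i z) := by
    rw [← Scheme.Hom.comp_apply, hY'.2.1]
  have hjz : j (i z) ∈ d ⁻¹ᵁ VX := by
    change d (j (i z)) ∈ VX
    rw [hdj]; exact hxVX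
  obtain ⟨WY', hWY', hyWY', hWY'le⟩ :=
    exists_isAffineOpen_mem_and_subset (x := j (i z)) (U := d ⁻¹ᵁ VX) hjz
  have hVY : IsAffineOpen (j ⁻¹ᵁ WY') := isAffineOpen_preimage_of_fot hY'.1 hWY'
  let z₁ : ((j₀ ⁻¹ᵁ UP.1 : (U : Scheme.{u}).Opens) : Scheme.{u}) := ⟨⟨z, hzU⟩, hjuUP⟩
  let p₁ : (UP.1 : Scheme.{u}) := ⟨j₀ ⟨z, hzU⟩, hjuUP⟩
  have hp₁ : (j₀ ∣_ UP.1) z₁ = p₁ := Subtype.ext (morphismRestrict_base_coe j₀ UP.1 z₁)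
  have hπz : π (j₀ ⟨z, hzU⟩) = i z := by
    rw [← Scheme.Hom.comp_apply, hjπ]; rfl
  have hp₁Y : p₁ ∈ π₁ ⁻¹ᵁ (j ⁻¹ᵁ WY') := by
    change j (π (j₀ ⟨z, hzU⟩)) ∈ WY'
    rw [hπz]; exact hyWY'
  have hemb := (j₀ ∣_ UP.1).isClosedEmbedding.isEmbedding.isInducing
  obtain ⟨O₁set, hO₁open, hO₁eq⟩ := hemb.isOpen_iff.mp (ι ⁻¹ᵁ N).2
  let O₁ : (UP.1 : Scheme.{u}).Opens := ⟨O₁set, hO₁open⟩
  have hz₁N : z₁ ∈ ι ⁻¹ᵁ N := hz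
  have hp₁O : p₁ ∈ O₁ := by
    have h : z₁ ∈ (j₀ ∣_ UP.1) ⁻¹' O₁set := by rw [hO₁eq]; exact hz₁N
    rw [← hp₁]; exact h
  obtain ⟨V, hV, hpV, hVle⟩ := exists_isAffineOpen_mem_and_subset
    (x := p₁) (U := π₁ ⁻¹ᵁ (j ⁻¹ᵁ WY') ⊓ O₁) ⟨hp₁Y, hp₁O⟩
  obtain ⟨V₁, hV₁, hV₁V, hpV₁, hstd⟩ := exists_basicOpen_isStandardSmooth π₁ hVY hV
    (fun x hx => (hVle hx).1) p₁ hpV
  obtain ⟨WZ', hWZ'⟩ := fot_exists_opens hZ'.1 (ι ''ᵁ ((j₀ ∣_ UP.1) ⁻¹ᵁ V₁))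
  have hmain := chart_mono i b i' c hZ' j d hY' m hm₁ hm₂ ψ₁ hψ₁ ι (j₀ ∣_ UP.1) π₁ hjπ₁
    (isAffineOpen_top _) rs' hrs' hker' hVX hWY' hWY'le hV₁ le_top _ hstd hWZ'.symm
  refine ⟨i' ⁻¹ᵁ WZ', ?_, ?_, hmain⟩
  · rw [hWZ']
    refine ⟨z₁, ?_, rfl⟩
    change (j₀ ∣_ UP.1) z₁ ∈ V₁
    rw [hp₁]; exact hpV₁
  · rw [hWZ']
    rintro _ ⟨y₁, hy₁, rfl⟩
    have h5 : (j₀ ∣_ UP.1) y₁ ∈ O₁ := (hVle (hV₁V hy₁)).2
    have h6 : y₁ ∈ (j₀ ∣_ UP.1) ⁻¹' O₁set := h5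
    rw [hO₁eq] at h6
    exact h6

end helpers

open AlgebraicGeometry CategoryTheory Limits in

open AlgebraicGeometry CategoryTheory Limits in
/-- Let i : Z ⟶ Y and b : Y ⟶ X be formally unramified, let (i' : Z ⟶ Z', c) be a first order thickening
over X that is universal for i ≫ b, (j : Y ⟶ Y', d) one universal for b, m : Z' ⟶ Y' the morphism of
thickenings over X compatible with i, (i'' : Z ⟶ Z'', e) a first order thickening over Y that is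
universal for i, and n : Z'' ⟶ Z' the morphism of thickenings over X extending the identity of Z.
Let ψ₁ : i^*C_{Y/Y'} ⟶ C_{Z/Z'} and ψ₂ : C_{Z/Z'} ⟶ C_{Z/Z''} be the canonical maps of conormal
sheaves induced by (i, m) and (id, n); these are the conormal sheaves C_{Y/X}, C_{Z/X}, C_{Z/Y} of
the formally unramified morphisms and the canonical maps between them. Assume moreover that i is
Koszul at every point of Z, i.e. i is lci. Then 0 ⟶ i^*C_{Y/X} ⟶ C_{Z/X} ⟶ C_{Z/Y} ⟶ 0 is a short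
exact sequence. -/
theorem result {Z Y X Z' Y' Z'' : Scheme.{u}} (i : Z ⟶ Y) (b : Y ⟶ X)
    [FormallyUnramified i] [FormallyUnramified b]
    (i' : Z ⟶ Z') (c : Z' ⟶ X) (hZ' : OmegaSh.IsUnivThickening (i ≫ b) i' c)
    (j : Y ⟶ Y') (d : Y' ⟶ X) (hY' : OmegaSh.IsUnivThickening b j d)
    (m : Z' ⟶ Y') (hm₁ : i' ≫ m = i ≫ j) (hm₂ : m ≫ d = c)
    (i'' : Z ⟶ Z'') (e : Z'' ⟶ Y) (hZ'' : OmegaSh.IsUnivThickening i i'' e)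
    (n : Z'' ⟶ Z') (hn₁ : i'' ≫ n = i') (hn₂ : n ≫ c = e ≫ b)
    (ψ₁ : (Scheme.Modules.pullback i).obj (Omega.conormal j) ⟶ Omega.conormal i') (hψ₁ : OmegaSh.IsConormalMap i' j m i ψ₁)
    (ψ₂ : (Scheme.Modules.pullback (𝟙 Z)).obj (Omega.conormal i') ⟶ Omega.conormal i'') (hψ₂ : OmegaSh.IsConormalMap i'' i' n (𝟙 Z) ψ₂)
    (hlci : ∀ z : Z, Synt.IsKoszulAt i z) :
    ∃ w : (Scheme.Modules.pullback (𝟙 Z)).map ψ₁ ≫ ψ₂ = 0, (ShortComplex.mk _ _ w).ShortExact := by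
  obtain ⟨w, hex, hepi⟩ := Groth.Agent.S9784.result i b i' c hZ' j d hY' m hm₁ hm₂ i'' e hZ'' n
    hn₁ hn₂ ψ₁ hψ₁ ψ₂ hψ₂
  refine ⟨w, ?_⟩
  have hB : TopologicalSpace.Opens.IsBasis {W : Z.Opens | Function.Injective (ψ₁.app W)} := by
    rw [TopologicalSpace.Opens.isBasis_iff_nbhd]
    intro N z hz
    obtain ⟨W, hzW, hWN, hW⟩ := exists_chart i b i' c hZ' j d hY' m hm₁ hm₂ ψ₁ hψ₁ hlci z N hz
    exact ⟨W, hW, hzW, hWN⟩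
  have hmono1 : Mono ψ₁ :=
    Groth.Agent.Helper19.OmegaD.mono_of_injective_on_basis ψ₁ _ hB (fun W hW => hW)
  have hnat : (Scheme.Modules.pullback (𝟙 Z)).map ψ₁ ≫
      (Scheme.Modules.pullbackId Z).hom.app (Omega.conormal i') =
      (Scheme.Modules.pullbackId Z).hom.app _ ≫ ψ₁ :=
    (Scheme.Modules.pullbackId Z).hom.naturality ψ₁
  have hmap : (Scheme.Modules.pullback (𝟙 Z)).map ψ₁ =
      (Scheme.Modules.pullbackId Z).hom.app _ ≫ ψ₁ ≫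
        (Scheme.Modules.pullbackId Z).inv.app (Omega.conormal i') := by
    rw [← Category.assoc, ← hnat, Category.assoc, Iso.hom_inv_id_app, Category.comp_id]
  have hmono : Mono ((Scheme.Modules.pullback (𝟙 Z)).map ψ₁) := by
    rw [hmap]
    infer_instance
  exact ShortComplex.ShortExact.mk' hex hmono hepi

end Groth.Agent.S9785
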