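import Groth.Statements.S9786
import Mathlib
import Groth.Agent.Helper19.UnivConormal
import Groth.Agent.Helper19.UnivRing2
import Groth.Agent.Helper19.RestrictRetract
import Groth.Agent.Helper19.FSmooth
import Groth.Agent.S9375
-- import your own Groth.Agent.* helpers here

set_option autoImplicit false
universe u
open OmegaSh

namespace Groth.Agent.S9786

section helpers

open AlgebraicGeometry CategoryTheory Limits TopologicalSpace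
open scoped TensorProduct
open Groth.Agent.Lib.Helper29.QCoh Groth.Agent.Helper19.OmegaD Groth.Agent.Helper19.OmegaLocal
open Groth.Agent.Helper19.OmegaAlg Groth.Agent.Helper19.Conormal
open Groth.Agent.Helper19.UnivChart Groth.Agent.Helper19.UnivRing Groth.Agent.Helper19.UnivConormal
open Groth.Agent.Lib.Helper10.UnivThick

theorem hom_comp_eq {R S T : CommRingCat.{u}} (f : R ⟶ S) (g : S ⟶ T) (k : R ⟶ T)
    (h : f ≫ g = k) : g.hom.comp f.hom = k.hom := by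
  rw [← h]; rfl

variable {Z X Y Z' Z'' : Scheme.{u}} (i : Z ⟶ X) (p : X ⟶ Y)
  (hp : MoreMor.IsFormallySmoothHom p)
  (i' : Z ⟶ Z') (a : Z' ⟶ X) (hZ' : OmegaSh.IsUnivThickening i i' a)
  (k : Z' ⟶ Z'') (b : Z'' ⟶ Y) (hZ'' : OmegaSh.IsUnivThickening (i ≫ p) (i' ≫ k) b)
  (hk₂ : k ≫ b = a ≫ p)

include hZ' in
theorem le_aux {VX : X.Opens} {U'' : Z''.Opens} (h : (i' ≫ k) ⁻¹ᵁ U'' ≤ i ⁻¹ᵁ VX) :
    k ⁻¹ᵁ U'' ≤ a ⁻¹ᵁ VX := by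
  intro z' hz'
  obtain ⟨z, rfl⟩ := fot_surjective hZ'.1 z'
  have h3 : i z ∈ VX := h hz'
  have h4 : a (i' z) = i z := by
    rw [← Scheme.Hom.comp_apply, hZ'.2.1]
  change a (i' z) ∈ VX
  rw [h4]; exact h3

include hp hZ' hZ'' hk₂ in
theorem chart_ring {VY : Y.Opens} (hVY : IsAffineOpen VY) {VX : X.Opens} (hVX : IsAffineOpen VX)
    (hXY : VX ≤ p ⁻¹ᵁ VY) {U'' : Z''.Opens} (hU'' : IsAffineOpen U'') (h1 : U'' ≤ b ⁻¹ᵁ VY)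
    (h2 : (i' ≫ k) ⁻¹ᵁ U'' ≤ i ⁻¹ᵁ VX) :
    ∃ ρ : Γ(Z', k ⁻¹ᵁ U'') →+* Γ(Z'', U''),
      (∀ y : Γ(Z'', U''), ρ ((k.app U'').hom y) = y) ∧
      ∀ x : Γ(Z', k ⁻¹ᵁ U''), ((i' ≫ k).app U'').hom (ρ x) =
        (i'.appLE (k ⁻¹ᵁ U'') ((i' ≫ k) ⁻¹ᵁ U'') le_rfl).hom x := by
  have e' : k ⁻¹ᵁ U'' ≤ a ⁻¹ᵁ VX := le_aux i i' a hZ' k h2
  haveI : IsClosedImmersion i' := hZ'.1.1.1
  haveI : IsClosedImmersion (i' ≫ k) := hZ''.1.1.1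
  have hU : IsAffineOpen ((i' ≫ k) ⁻¹ᵁ U'') := isAffineOpen_preimage_of_fot hZ''.1 hU''
  have hU' : IsAffineOpen (k ⁻¹ᵁ U'') := isAffineOpen_of_preimage i' hZ'.1 hU
  have e : i' ⁻¹ᵁ (k ⁻¹ᵁ U'') ≤ i ⁻¹ᵁ VX := h2
  have eC : (i' ≫ k) ⁻¹ᵁ U'' ≤ (i ≫ p) ⁻¹ᵁ VY := fun z hz => hXY (h2 hz)
  have hsm := Groth.Agent.Helper19.FSmooth.formallySmooth_appLE_of_isFormallySmoothHom p hp VX VY
    hVX hVY hXY
  have hC' := isUT_chart i i' a hZ' hVX hU' e' e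
  have hC'' := isUT_chart (i ≫ p) (i' ≫ k) b hZ'' hVY hU'' h1 eC
  have hφ : ((i ≫ p).appLE VY ((i' ≫ k) ⁻¹ᵁ U'') eC).hom =
      (i.appLE VX ((i' ≫ k) ⁻¹ᵁ U'') e).hom.comp (p.appLE VY VX hXY).hom :=
    (hom_comp_eq _ _ _ (Scheme.Hom.appLE_comp_appLE i p VY _ _ hXY e)).symm
  rw [hφ] at hC''
  obtain ⟨ρ, hρ1, hρ2⟩ := exists_retraction_of_formallySmooth (p.appLE VY VX hXY).hom hsm
    (i.appLE VX ((i' ≫ k) ⁻¹ᵁ U'') e).hom (a.appLE VX (k ⁻¹ᵁ U'') e').hom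
    (i'.appLE (k ⁻¹ᵁ U'') (i' ⁻¹ᵁ (k ⁻¹ᵁ U'')) le_rfl).hom hC'
    (b.appLE VY U'' h1).hom ((i' ≫ k).appLE U'' ((i' ≫ k) ⁻¹ᵁ U'') le_rfl).hom hC''
    (k.appLE U'' (k ⁻¹ᵁ U'') le_rfl).hom
    (hom_comp_eq _ _ _ (Scheme.Hom.appLE_comp_appLE i' k U'' _ _ le_rfl le_rfl))
    (by
      rw [hom_comp_eq _ _ _ (Scheme.Hom.appLE_comp_appLE k b VY U'' _ h1 le_rfl),
        hom_comp_eq _ _ _ (Scheme.Hom.appLE_comp_appLE a p VY VX _ hXY e')]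
      exact congrArg _ (appLE_congr' hk₂ _ _))
  refine ⟨ρ, ?_, ?_⟩
  · intro y
    have := congr($hρ1 y)
    rw [Scheme.Hom.appLE_eq_app] at this
    exact this
  · intro x
    have := congr($hρ2 x)
    rw [Scheme.Hom.appLE_eq_app] at this
    exact this

variable (ψ : (Scheme.Modules.pullback (𝟙 Z)).obj (Omega.conormal (i' ≫ k)) ⟶ Omega.conormal i')
  (hψ : OmegaSh.IsConormalMap i' (i' ≫ k) k (𝟙 Z) ψ)

set_option maxRecDepth 16000 in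
include hp hZ' hZ'' hk₂ hψ in
theorem local_main {VY : Y.Opens} (hVY : IsAffineOpen VY) {VX : X.Opens} (hVX : IsAffineOpen VX)
    (hXY : VX ≤ p ⁻¹ᵁ VY) {U'' : Z''.Opens} (hU'' : IsAffineOpen U'') (h1 : U'' ≤ b ⁻¹ᵁ VY)
    (h2 : (i' ≫ k) ⁻¹ᵁ U'' ≤ i ⁻¹ᵁ VX) :
    IsAffineOpen ((i' ≫ k) ⁻¹ᵁ U'') ∧
    ∃ ℓ : Γ(Omega.conormal i', (i' ≫ k) ⁻¹ᵁ U'') →+
        Γ((Scheme.Modules.pullback (𝟙 Z)).obj (Omega.conormal (i' ≫ k)), (i' ≫ k) ⁻¹ᵁ U''),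
      (∀ (r : Γ(Z, (i' ≫ k) ⁻¹ᵁ U'')) (m : Γ(Omega.conormal i', (i' ≫ k) ⁻¹ᵁ U'')),
        ℓ (r • m) = r • ℓ m) ∧
      ∀ x, ℓ (ψ.app ((i' ≫ k) ⁻¹ᵁ U'') x) = x := by
  obtain ⟨ρ, hρ1, hρ2⟩ := chart_ring i p hp i' a hZ' k b hZ'' hk₂ hVY hVX hXY hU'' h1 h2
  haveI : IsClosedImmersion i' := hZ'.1.1.1
  haveI : IsClosedImmersion (i' ≫ k) := hZ''.1.1.1
  have hU : IsAffineOpen ((i' ≫ k) ⁻¹ᵁ U'') := isAffineOpen_preimage_of_fot hZ''.1 hU''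
  have hU' : IsAffineOpen (k ⁻¹ᵁ U'') := isAffineOpen_of_preimage i' hZ'.1 hU
  refine ⟨hU, ?_⟩
  have eWW : (i' ≫ k) ⁻¹ᵁ U'' ≤ (i' ≫ k) ⁻¹ᵁ U'' := le_rfl
  have eW' : (i' ≫ k) ⁻¹ᵁ U'' ≤ i' ⁻¹ᵁ (k ⁻¹ᵁ U'') := le_rfl
  have eVV : k ⁻¹ᵁ U'' ≤ k ⁻¹ᵁ U'' := le_rfl
  have cC' : IsClosedChart i' hU' eW' := isClosedChart_fot i' hU'
  have cC'' : IsClosedChart (i' ≫ k) hU'' eWW := isClosedChart_fot (i' ≫ k) hU''
  have hI' : ∀ y : Γ(Z', k ⁻¹ᵁ U''), y ∈ (i'.ker.ideal ⟨k ⁻¹ᵁ U'', hU'⟩) ^ 2 → y = 0 := by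
    intro y hy
    rw [ideal_sq_eq_bot i' hZ'.1 hU'] at hy
    exact hy
  have hmem' : ∀ y : Γ(Z', k ⁻¹ᵁ U''), y ∈ i'.ker.ideal ⟨k ⁻¹ᵁ U'', hU'⟩ ↔
      (i'.appLE (k ⁻¹ᵁ U'') ((i' ≫ k) ⁻¹ᵁ U'') eW').hom y = 0 := by
    intro y
    rw [← cC'.2, RingHom.mem_ker]
  have hmem'' : ∀ y : Γ(Z'', U''), y ∈ (i' ≫ k).ker.ideal ⟨U'', hU''⟩ ↔
      ((i' ≫ k).app U'').hom y = 0 := by
    intro y
    rw [Scheme.Hom.ker_apply (i' ≫ k) ⟨U'', hU''⟩, RingHom.mem_ker]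
  have hρI : ∀ x : Γ(Z', k ⁻¹ᵁ U''), x ∈ i'.ker.ideal ⟨k ⁻¹ᵁ U'', hU'⟩ →
      ρ x ∈ (i' ≫ k).ker.ideal ⟨U'', hU''⟩ := by
    intro x hx
    rw [hmem'', hρ2]
    exact (hmem' x).mp hx
  have hkI : ∀ y : Γ(Z'', U''), y ∈ (i' ≫ k).ker.ideal ⟨U'', hU''⟩ →
      (k.app U'').hom y ∈ i'.ker.ideal ⟨k ⁻¹ᵁ U'', hU'⟩ := by
    intro y hy
    rw [hmem', ← hρ2, hρ1]
    exact (hmem'' y).mp hy
  -- ψ on classes
  have h2c : ∀ y : (i' ≫ k).ker.ideal ⟨U'', hU''⟩,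
      ψ.app ((i' ≫ k) ⁻¹ᵁ U'')
        (((Scheme.Modules.pullbackId Z).inv.app (Omega.conormal (i' ≫ k))).app
          ((i' ≫ k) ⁻¹ᵁ U'') (clsV (i' ≫ k) hU'' eWW y)) =
        clsV i' hU' eW' ⟨(k.app U'').hom y.1, hkI y.1 y.2⟩ := by
    intro y
    have h := conormalMap_clsV i' (i' ≫ k) k (𝟙 Z) ψ hψ hU'' hU' eVV eWW eW'
      (le_refl ((i' ≫ k) ⁻¹ᵁ U'')) y ⟨(k.app U'').hom y.1, hkI y.1 y.2⟩
      (by rw [Scheme.Hom.appLE_eq_app])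
    rw [pullbackId_inv_app_app]
    refine (congrArg (fun t => ψ.app ((i' ≫ k) ⁻¹ᵁ U'') t) ?_).trans h
    exact (res_self _ _).symm
  -- injectivity of classes for `i'`
  have hinj : ∀ x y : i'.ker.ideal ⟨k ⁻¹ᵁ U'', hU'⟩,
      clsV i' hU' eW' x = clsV i' hU' eW' y → x = y := by
    intro x y hxy
    have h3 : x = y + (x - y) := by abel
    have h4 : clsV i' hU' eW' (x - y) = 0 := by
      have h5 := clsV_add (i := i') (hU := hU') (e := eW') hU y (x - y)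
      rw [← h3, hxy] at h5
      exact (add_eq_left (a := clsV i' hU' eW' y)).mp h5.symm
    rw [clsV_eq_zero_iff hU cC'] at h4
    have h6 := hI' _ h4
    have h7 : x - y = 0 := Subtype.ext h6
    exact sub_eq_zero.mp h7
  let F : i'.ker.ideal ⟨k ⁻¹ᵁ U'', hU'⟩ →
      Γ((Scheme.Modules.pullback (𝟙 Z)).obj (Omega.conormal (i' ≫ k)), (i' ≫ k) ⁻¹ᵁ U'') :=
    fun x => ((Scheme.Modules.pullbackId Z).inv.app (Omega.conormal (i' ≫ k))).app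
      ((i' ≫ k) ⁻¹ᵁ U'') (clsV (i' ≫ k) hU'' eWW ⟨ρ x.1, hρI x.1 x.2⟩)
  have hFadd : ∀ x y, F (x + y) = F x + F y := by
    intro x y
    change ((Scheme.Modules.pullbackId Z).inv.app (Omega.conormal (i' ≫ k))).app _ _ =
      ((Scheme.Modules.pullbackId Z).inv.app (Omega.conormal (i' ≫ k))).app _ _ +
      ((Scheme.Modules.pullbackId Z).inv.app (Omega.conormal (i' ≫ k))).app _ _
    rw [← map_add, ← clsV_add hU]
    congr 1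
    apply clsV_congr
    exact map_add ρ x.1 y.1
  have hFsmul : ∀ (r' : Γ(Z', k ⁻¹ᵁ U'')) x, F (r' • x) =
      (i'.appLE (k ⁻¹ᵁ U'') ((i' ≫ k) ⁻¹ᵁ U'') eW').hom r' • F x := by
    intro r' x
    change ((Scheme.Modules.pullbackId Z).inv.app (Omega.conormal (i' ≫ k))).app _ _ =
      (i'.appLE (k ⁻¹ᵁ U'') ((i' ≫ k) ⁻¹ᵁ U'') eW').hom r' •
        ((Scheme.Modules.pullbackId Z).inv.app (Omega.conormal (i' ≫ k))).app _ _
    rw [← Scheme.Modules.Hom.app_smul, ← hρ2 r']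
    congr 1
    have h3 := clsV_smul (i := i' ≫ k) (hU := hU'') (e := eWW) hU (ρ r') ⟨ρ x.1, hρI x.1 x.2⟩
    rw [Scheme.Hom.appLE_eq_app] at h3
    rw [← h3]
    apply clsV_congr
    exact map_mul ρ r' x.1
  let ℓfun : Γ(Omega.conormal i', (i' ≫ k) ⁻¹ᵁ U'') →
      Γ((Scheme.Modules.pullback (𝟙 Z)).obj (Omega.conormal (i' ≫ k)), (i' ≫ k) ⁻¹ᵁ U'') :=
    fun m => F (Classical.choose (exists_clsV_eq hU cC' m))
  have hℓcls : ∀ x, ℓfun (clsV i' hU' eW' x) = F x := by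
    intro x
    have h3 := Classical.choose_spec (exists_clsV_eq hU cC' (clsV i' hU' eW' x))
    change F _ = F x
    rw [← hinj _ _ h3]
  have hℓadd : ∀ m₁ m₂, ℓfun (m₁ + m₂) = ℓfun m₁ + ℓfun m₂ := by
    intro m₁ m₂
    obtain ⟨x₁, rfl⟩ := exists_clsV_eq hU cC' m₁
    obtain ⟨x₂, rfl⟩ := exists_clsV_eq hU cC' m₂
    rw [← clsV_add hU, hℓcls, hℓcls, hℓcls, hFadd]
  refine ⟨AddMonoidHom.mk' ℓfun hℓadd, ?_, ?_⟩
  · intro r m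
    change ℓfun (r • m) = r • ℓfun m
    obtain ⟨x, rfl⟩ := exists_clsV_eq hU cC' m
    obtain ⟨r', rfl⟩ := cC'.1 r
    rw [← clsV_smul hU, hℓcls, hℓcls, hFsmul]
  · intro m'
    change ℓfun (ψ.app _ m') = m'
    obtain ⟨y, hy⟩ := exists_clsV_eq hU cC''
      (((Scheme.Modules.pullbackId Z).hom.app (Omega.conormal (i' ≫ k))).app _ m')
    have hm' : m' = ((Scheme.Modules.pullbackId Z).inv.app (Omega.conormal (i' ≫ k))).app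
        ((i' ≫ k) ⁻¹ᵁ U'') (clsV (i' ≫ k) hU'' eWW y) := by
      rw [← hy]
      exact (congrArg (fun q => (Scheme.Modules.Hom.app q ((i' ≫ k) ⁻¹ᵁ U'')) m')
        ((Scheme.Modules.pullbackId Z).hom_inv_id_app (Omega.conormal (i' ≫ k)))).symm
    rw [hm', h2c, hℓcls]
    change ((Scheme.Modules.pullbackId Z).inv.app (Omega.conormal (i' ≫ k))).app _ _ = _
    congr 1
    apply clsV_congr
    exact hρ1 y.1

/-- The chart opens of `Z`. -/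
def chartB : Set Z.Opens :=
  {W | ∃ (VY : Y.Opens) (VX : X.Opens) (U'' : Z''.Opens), IsAffineOpen VY ∧ IsAffineOpen VX ∧
    VX ≤ p ⁻¹ᵁ VY ∧ IsAffineOpen U'' ∧ U'' ≤ b ⁻¹ᵁ VY ∧ (i' ≫ k) ⁻¹ᵁ U'' ≤ i ⁻¹ᵁ VX ∧
    W = (i' ≫ k) ⁻¹ᵁ U''}

include hZ'' in
theorem isBasis_chartB : Opens.IsBasis (chartB i p i' k b) := by
  rw [Opens.isBasis_iff_nbhd]
  intro N z hz
  obtain ⟨VY, hVY, hyVY, -⟩ := exists_isAffineOpen_mem_and_subset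
    (x := p (i z)) (U := ⊤) trivial
  obtain ⟨VX, hVX, hxVX, hVXle⟩ := exists_isAffineOpen_mem_and_subset
    (x := i z) (U := p ⁻¹ᵁ VY) hyVY
  obtain ⟨O, hO⟩ := fot_exists_opens hZ''.1 (i ⁻¹ᵁ VX ⊓ N)
  have hzO : (i' ≫ k) z ∈ O := by
    have : z ∈ (i' ≫ k) ⁻¹ᵁ O := by rw [hO]; exact ⟨hxVX, hz⟩
    exact this
  have hzb : (i' ≫ k) z ∈ b ⁻¹ᵁ VY := by
    change b ((i' ≫ k) z) ∈ VY
    have h4 : b ((i' ≫ k) z) = p (i z) := by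
      rw [← Scheme.Hom.comp_apply, hZ''.2.1]; rfl
    rw [h4]; exact hyVY
  obtain ⟨U'', hU'', hzU'', hU''le⟩ := exists_isAffineOpen_mem_and_subset
    (x := (i' ≫ k) z) (U := b ⁻¹ᵁ VY ⊓ O) ⟨hzb, hzO⟩
  have hle : (i' ≫ k) ⁻¹ᵁ U'' ≤ i ⁻¹ᵁ VX ⊓ N := by
    intro x hx
    have h1 : (i' ≫ k) x ∈ O := (hU''le hx).2
    have h2 : x ∈ (i' ≫ k) ⁻¹ᵁ O := h1
    rw [hO] at h2
    exact h2
  refine ⟨(i' ≫ k) ⁻¹ᵁ U'', ⟨VY, VX, U'', hVY, hVX, hVXle, hU'', fun x hx => (hU''le hx).1,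
    fun x hx => (hle hx).1, rfl⟩, hzU'', fun x hx => (hle hx).2⟩

end helpers

open AlgebraicGeometry CategoryTheory Limits in

open AlgebraicGeometry CategoryTheory Limits in
/-- Let i : Z ⟶ X be a morphism and p : X ⟶ Y a formally smooth morphism (infinitesimal lifting against
square-zero thickenings of affine schemes) with i and i ≫ p formally unramified. Let (i' : Z ⟶ Z',
a) be the universal first-order thickening attached to i, (i'' : Z ⟶ Z'', b) the one attached to i ≫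
p, and k : Z' ⟶ Z'' the morphism of thickenings (i' ≫ k = i'', k ≫ b = a ≫ p). Let d : O_{Z'} → Ω be
a universal derivation over Z'', ψ : C_{Z/Z''} ⟶ C_{Z/Z'} the canonical map of conormal sheaves
induced by (id, k) and φ : C_{Z/Z'} ⟶ (i')^*Ω the map induced by d. Then 0 ⟶ C_{Z/Z''} ⟶ C_{Z/Z'} ⟶
(i')^*Ω ⟶ 0 is short exact and locally split: every point of Z has an open neighbourhood over which
ψ admits a left inverse. The published statement concerns the conormal–differential sequence of Z in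
X over Y; this row states it on the thickenings Z ⊂ Z' ⟶ Z'', whose terms identify with the
published ones by the definition of the conormal sheaf of a formally unramified morphism and by the
isomorphism of (i')^*Ω_{Z'/S} with i^*Ω_{X/S} for a universal thickening (with Ω_{Z'/Z''} =
Ω_{Z'/Y}, as Z'' ⟶ Y is formally unramified). -/
theorem result {Z X Y Z' Z'' : Scheme.{u}} (i : Z ⟶ X) (p : X ⟶ Y)
    (hp : MoreMor.IsFormallySmoothHom p) [FormallyUnramified i] [FormallyUnramified (i ≫ p)]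
    (i' : Z ⟶ Z') (a : Z' ⟶ X) (hZ' : OmegaSh.IsUnivThickening i i' a)
    (i'' : Z ⟶ Z'') (b : Z'' ⟶ Y) (hZ'' : OmegaSh.IsUnivThickening (i ≫ p) i'' b)
    (k : Z' ⟶ Z'') (hk₁ : i' ≫ k = i'') (hk₂ : k ≫ b = a ≫ p)
    (Ω : Z'.Modules) (d : OmegaSh.Der k Ω) (hd : OmegaSh.IsUniversal d)
    (ψ : (Scheme.Modules.pullback (𝟙 Z)).obj (Omega.conormal i'') ⟶ Omega.conormal i') (hψ : OmegaSh.IsConormalMap i' i'' k (𝟙 Z) ψ)
    (φ : Omega.conormal i' ⟶ (Scheme.Modules.pullback i').obj Ω) (hφ : OmegaSh.IsConormalDiff i' d φ) :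
    ∃ w : ψ ≫ φ = 0, (ShortComplex.mk ψ φ w).ShortExact ∧
      ∀ z : Z, ∃ (U : Z.Opens) (r : (Scheme.Modules.restrictFunctor U.ι).obj (Omega.conormal i') ⟶
          (Scheme.Modules.restrictFunctor U.ι).obj ((Scheme.Modules.pullback (𝟙 Z)).obj (Omega.conormal i''))),
        z ∈ U ∧ (Scheme.Modules.restrictFunctor U.ι).map ψ ≫ r = 𝟙 _ := by
  subst hk₁
  haveI : IsClosedImmersion i' := hZ'.1.1.1
  haveI : IsClosedImmersion (i' ≫ k) := hZ''.1.1.1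
  obtain ⟨w, hex, hepi⟩ := Groth.Agent.S9375.result k i' (i' ≫ k) rfl Ω d hd ψ hψ φ hφ
  have hB := isBasis_chartB i p i' k b hZ''
  have hloc : ∀ W ∈ chartB i p i' k b, IsAffineOpen W ∧
      ∃ ℓ : Γ(Omega.conormal i', W) →+
        Γ((Scheme.Modules.pullback (𝟙 Z)).obj (Omega.conormal (i' ≫ k)), W),
      (∀ (r : Γ(Z, W)) (m : Γ(Omega.conormal i', W)), ℓ (r • m) = r • ℓ m) ∧
      ∀ x, ℓ (ψ.app W x) = x := by
    rintro W ⟨VY, VX, U'', hVY, hVX, hXY, hU'', h1, h2, rfl⟩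
    exact local_main i p hp i' a hZ' k b hZ'' hk₂ ψ hψ hVY hVX hXY hU'' h1 h2
  have hmono : Mono ψ := by
    apply Groth.Agent.Helper19.OmegaD.mono_of_injective_on_basis ψ _ hB
    intro W hW
    obtain ⟨-, ℓ, -, hℓ⟩ := hloc W hW
    intro x y hxy
    rw [← hℓ x, ← hℓ y, hxy]
  refine ⟨w, ⟨hex⟩, ?_⟩
  intro z
  obtain ⟨W, hWB, hzW, -⟩ := TopologicalSpace.Opens.isBasis_iff_nbhd.mp hB (U := ⊤) (x := z) trivial
  obtain ⟨hW, ℓ, hℓ1, hℓ2⟩ := hloc W hWB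
  obtain ⟨r, hr⟩ := Groth.Agent.Helper19.RestrictRetract.exists_retraction_ι ψ hW ℓ hℓ1 hℓ2
  exact ⟨W, r, hzW, hr⟩

end Groth.Agent.S9786
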