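import Groth.Statements.S9793
import Mathlib.RingTheory.Ideal.KrullsHeightTheorem
import Mathlib.AlgebraicGeometry.Noetherian

set_option autoImplicit false
universe u
open CategoryTheory AlgebraicGeometry TopologicalSpace
open Props

namespace Groth.Agent.S9793

/-- Let S be a Noetherian scheme and T a set of points of S. Every point of T is a specialization of
some point of T which admits no non-trivial generization lying in T. -/
theorem result (S : Scheme.{u}) [IsNoetherian S]
    (T : Set S) (t : S) (ht : t ∈ T) :
    ∃ t₀ ∈ T, (∀ t' ∈ T, t' ⤳ t₀ → t' = t₀) ∧ t₀ ⤳ t := by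
  classical
  let A := S.presheaf.stalk t
  let φ := S.fromSpecStalk t
  have hemb : Topology.IsEmbedding φ := φ.isEmbedding
  have hrange : Set.range φ = {y | y ⤳ t} := Scheme.range_fromSpecStalk
  let T' : Set (PrimeSpectrum A) := {p | φ p ∈ T}
  have hne : T'.Nonempty := ⟨IsLocalRing.closedPoint A, by
    change φ (IsLocalRing.closedPoint A) ∈ T
    rw [Scheme.fromSpecStalk_closedPoint]; exact ht⟩
  obtain ⟨p, hpT, hpmin⟩ := (InvImage.wf (fun p : PrimeSpectrum A => p.asIdeal.height)
    wellFounded_lt).has_min T' hne
  refine ⟨φ p, hpT, ?_, ?_⟩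
  · intro t' ht' hsp
    have h1 : φ p ⤳ t := by
      have : φ p ∈ Set.range φ := ⟨p, rfl⟩
      rw [hrange] at this; exact this
    have h2 : t' ∈ Set.range φ := by
      rw [hrange]; exact hsp.trans h1
    obtain ⟨q, rfl⟩ := h2
    have hqp : q ⤳ p := hemb.isInducing.specializes_iff.mp hsp
    have hle : q.asIdeal ≤ p.asIdeal := (PrimeSpectrum.le_iff_specializes (R := A) q p).mpr hqp
    by_contra hne'
    have hne'' : q.asIdeal ≠ p.asIdeal := by
      intro h
      apply hne'
      have : q = p := PrimeSpectrum.ext h
      rw [this]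
    have hlt' : q.asIdeal < p.asIdeal := lt_of_le_of_ne hle hne''
    have := Ideal.height_strict_mono_of_isPrime_of_isPrime hlt'
    exact hpmin q ht' this
  · have : φ p ∈ Set.range φ := ⟨p, rfl⟩
    rw [hrange] at this; exact this

end Groth.Agent.S9793
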