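import Groth.Statements.S9792
import Groth.Agent.S9793

set_option autoImplicit false
universe u
open CategoryTheory AlgebraicGeometry TopologicalSpace
open Props

namespace Groth.Agent.S9792

/-- In a Noetherian scheme, every infinite set of points contains an infinite subset no two distinct
members of which are related by specialization. -/
theorem result (S : Scheme.{u}) [IsNoetherian S]
    (T : Set S) (hT : T.Infinite) :
    ∃ T' : Set S, T' ⊆ T ∧ T'.Infinite ∧ ∀ a ∈ T', ∀ b ∈ T', a ⤳ b → a = b := by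
  classical
  -- minimal closed set meeting T in an infinite set
  have hwf : WellFoundedLT (TopologicalSpace.Closeds S) := inferInstance
  let 𝒵 : Set (TopologicalSpace.Closeds S) := {Z | (T ∩ (Z : Set S)).Infinite}
  have h𝒵 : 𝒵.Nonempty := ⟨⊤, by simpa [𝒵] using hT⟩
  obtain ⟨Z, hZ, hZmin⟩ := hwf.wf.has_min 𝒵 h𝒵
  have hZ' : (T ∩ (Z : Set S)).Infinite := hZ
  -- points of T ∩ Z whose closure is Z
  let G : Set S := {t | t ∈ T ∩ (Z : Set S) ∧ closure {t} = (Z : Set S)}
  have hG : G.Subsingleton := by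
    intro a ha b hb
    have : closure {a} = closure ({b} : Set S) := ha.2.trans hb.2.symm
    exact ((specializes_iff_closure_subset.mpr this.ge).antisymm
      (specializes_iff_closure_subset.mpr this.le)).eq
  let T₁ : Set S := (T ∩ (Z : Set S)) \ G
  have hT₁ : T₁.Infinite := hZ'.sdiff hG.finite
  have hfin : ∀ t ∈ T₁, (T ∩ closure {t}).Finite := by
    intro t ht
    by_contra hinf
    have hcl : closure {t} ⊆ (Z : Set S) :=
      closure_minimal (Set.singleton_subset_iff.mpr ht.1.2) Z.isClosed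
    let W : TopologicalSpace.Closeds S := ⟨closure {t}, isClosed_closure⟩
    have hW : W ∈ 𝒵 := hinf
    have hWZ : W ≤ Z := hcl
    have hne : W ≠ Z := by
      intro h
      apply ht.2
      refine ⟨ht.1, ?_⟩
      exact congrArg (fun Z : TopologicalSpace.Closeds S => (Z : Set S)) h
    exact hZmin W hW (lt_of_le_of_ne hWZ hne)
  let Max : Set S := {m | m ∈ T₁ ∧ ∀ t' ∈ T₁, t' ⤳ m → t' = m}
  have hcover : ∀ t ∈ T₁, ∃ m ∈ Max, m ⤳ t := by
    intro t ht
    obtain ⟨m, hm, hmax, hsp⟩ := Groth.Agent.S9793.result S T₁ t ht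
    exact ⟨m, ⟨hm, hmax⟩, hsp⟩
  refine ⟨Max, fun m hm => hm.1.1.1, ?_, ?_⟩
  · intro hMaxfin
    apply hT₁
    have hsub : T₁ ⊆ ⋃ m ∈ Max, T ∩ closure {m} := by
      intro t ht
      obtain ⟨m, hm, hsp⟩ := hcover t ht
      simp only [Set.mem_iUnion]
      exact ⟨m, hm, ht.1.1, hsp.mem_closure⟩
    exact (hMaxfin.biUnion fun m hm => hfin m hm.1).subset hsub
  · intro a ha b hb hab
    exact hb.2 a ha.1 hab

end Groth.Agent.S9792
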