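import Groth.Statements.S9794
import Mathlib

set_option autoImplicit false
universe u
open CategoryTheory AlgebraicGeometry TopologicalSpace
open Props

namespace Groth.Agent.S9794



open AlgebraicGeometry TopologicalSpace

open PrimeSpectrum in
/-- a minimal prime of `vanishingIdeal E` lies under some point of `E`. -/
theorem exists_le_of_mem_minimalPrimes {A : Type u} [CommRing A] [IsNoetherianRing A]
    (E : Set (PrimeSpectrum A)) (z : Ideal A) (hz : z ∈ (vanishingIdeal E).minimalPrimes) :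
    ∃ e ∈ E, z ≤ e.asIdeal := by
  classical
  by_contra hcon
  push_neg at hcon
  have hfin := Ideal.finite_minimalPrimes_of_isNoetherianRing A (vanishingIdeal E)
  let s : Finset (Ideal A) := hfin.toFinset.erase z
  have hzprime : z.IsPrime := hz.isPrime
  have hle : s.inf id ≤ z := by
    intro f hf
    have hfE : f ∈ vanishingIdeal E := by
      rw [mem_vanishingIdeal]
      intro e he
      have h1 : vanishingIdeal E ≤ e.asIdeal := fun g hg => (mem_vanishingIdeal _ _).mp hg e he
      obtain ⟨w, hw, hwe⟩ := Ideal.exists_minimalPrimes_le h1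
      have hwz : w ≠ z := by rintro rfl; exact hcon e he hwe
      have hws : w ∈ s := by
        rw [Finset.mem_erase]
        exact ⟨hwz, hfin.mem_toFinset.mpr hw⟩
      have h2 : s.inf id ≤ w := Finset.inf_le hws
      exact hwe (h2 hf)
    exact hz.le hfE
  obtain ⟨w, hws, hwz⟩ := (Ideal.IsPrime.inf_le' hzprime).mp hle
  have hw : w ∈ (vanishingIdeal E).minimalPrimes := hfin.mem_toFinset.mp (Finset.mem_of_mem_erase hws)
  have h3 : z ≤ w := hz.2 ⟨hw.isPrime, hw.le⟩ hwz
  exact (Finset.ne_of_mem_erase hws) (le_antisymm hwz h3)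

open PrimeSpectrum in
theorem affine_bdd {A : Type u} [CommRing A] [IsNoetherianRing A] (T : Set (PrimeSpectrum A))
    (N : ℕ) (hN : ∀ t ∈ T, t.asIdeal.height ≤ N) :
    ∃ E : Set (PrimeSpectrum A), E ⊆ T ∧ E.Countable ∧
      ∀ t ∈ T, vanishingIdeal E ≤ t.asIdeal := by
  classical
  by_contra hcon
  push_neg at hcon
  have claim : ∀ k : ℕ, ∃ Φ : Set (Ideal A), Φ.Finite ∧
      (∀ φ ∈ Φ, ∃ E : Set (PrimeSpectrum A), E ⊆ T ∧ E.Countable ∧
        φ ∈ (vanishingIdeal E).minimalPrimes) ∧
      ∀ E : Set (PrimeSpectrum A), E ⊆ T → E.Countable →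
        (∀ e ∈ E, ∀ φ ∈ Φ, ¬ φ ≤ e.asIdeal) →
        ∀ z ∈ (vanishingIdeal E).minimalPrimes, (k : ℕ∞) ≤ z.height := by
    intro k
    induction k with
    | zero =>
      refine ⟨∅, Set.finite_empty, ?_, ?_⟩
      · intro φ hφ
        exact absurd hφ (Set.notMem_empty φ)
      · intro _ _ _ _ z _
        simp
    | succ k ih =>
      obtain ⟨Φ, hΦfin, hΦ, hcl⟩ := ih
      let 𝒞 : Set (Ideal A) := {z | z.height = k ∧ ∃ E : Set (PrimeSpectrum A), E ⊆ T ∧
        E.Countable ∧ (∀ e ∈ E, ∀ φ ∈ Φ, ¬ φ ≤ e.asIdeal) ∧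
        z ∈ (vanishingIdeal E).minimalPrimes}
      have h𝒞fin : 𝒞.Finite := by
        by_contra hinf
        have hinf' : 𝒞.Infinite := hinf
        let emb := hinf'.natEmbedding
        have hz : ∀ i : ℕ, (emb i : Ideal A) ∈ 𝒞 := fun i => (emb i).2
        choose Ei hEi using fun i => (hz i).2
        let E : Set (PrimeSpectrum A) := ⋃ i, Ei i
        have hET : E ⊆ T := Set.iUnion_subset fun i => (hEi i).1
        have hEc : E.Countable := Set.countable_iUnion fun i => (hEi i).2.1
        have hEav : ∀ e ∈ E, ∀ φ ∈ Φ, ¬ φ ≤ e.asIdeal := by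
          intro e he
          obtain ⟨i, hi⟩ := Set.mem_iUnion.mp he
          exact (hEi i).2.2.1 e hi
        have hmem : ∀ i, (emb i : Ideal A) ∈ (vanishingIdeal E).minimalPrimes := by
          intro i
          have hzi := (hEi i).2.2.2
          haveI := hzi.isPrime
          have h1 : vanishingIdeal E ≤ (emb i : Ideal A) :=
            (vanishingIdeal_anti_mono (Set.subset_iUnion Ei i)).trans hzi.le
          obtain ⟨w, hw, hwz⟩ := Ideal.exists_minimalPrimes_le h1
          have h2 := hcl E hET hEc hEav w hw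
          have h3 : w = (emb i : Ideal A) := by
            by_contra hne
            haveI := hw.isPrime
            have hlt : w < (emb i : Ideal A) := lt_of_le_of_ne hwz hne
            have h4 := Ideal.height_strict_mono_of_isPrime hlt
            rw [(hz i).1] at h4
            exact absurd h2 (not_le.mpr h4)
          rw [← h3]; exact hw
        have hfin := Ideal.finite_minimalPrimes_of_isNoetherianRing A (vanishingIdeal E)
        have hrange : (Set.range fun i => (emb i : Ideal A)).Infinite :=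
          Set.infinite_range_of_injective (fun i j h => emb.injective (Subtype.ext h))
        exact hrange (hfin.subset (by rintro _ ⟨i, rfl⟩; exact hmem i))
      refine ⟨Φ ∪ 𝒞, hΦfin.union h𝒞fin, ?_, ?_⟩
      · rintro φ (hφ | hφ)
        · exact hΦ φ hφ
        · obtain ⟨-, E, hET, hEc, -, hmem⟩ := hφ
          exact ⟨E, hET, hEc, hmem⟩
      · intro E hET hEc hEav z hz
        have hEav' : ∀ e ∈ E, ∀ φ ∈ Φ, ¬ φ ≤ e.asIdeal :=
          fun e he φ hφ => hEav e he φ (Or.inl hφ)
        have h1 := hcl E hET hEc hEav' z hz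
        have h2 : z.height ≠ k := by
          intro hk
          have hz𝒞 : z ∈ 𝒞 := ⟨hk, E, hET, hEc, hEav', hz⟩
          obtain ⟨e, he, hze⟩ := exists_le_of_mem_minimalPrimes E z hz
          exact hEav e he z (Or.inr hz𝒞) hze
        push_cast
        exact Order.add_one_le_of_lt (lt_of_le_of_ne h1 (Ne.symm h2))
  obtain ⟨Φ, hΦfin, hΦ, hcl⟩ := claim (N + 1)
  choose! Eφ hEφ using hΦ
  let Estar : Set (PrimeSpectrum A) := ⋃ φ ∈ Φ, Eφ φ
  have h1 : Estar ⊆ T := Set.iUnion₂_subset fun φ hφ => (hEφ φ hφ).1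
  have h2 : Estar.Countable := hΦfin.countable.biUnion fun φ hφ => (hEφ φ hφ).2.1
  obtain ⟨t, htT, ht⟩ := hcon Estar h1 h2
  have h3 : ∀ φ ∈ Φ, ¬ φ ≤ t.asIdeal := by
    intro φ hφ hle
    apply ht
    refine le_trans ?_ ((hEφ φ hφ).2.2.le.trans hle)
    exact vanishingIdeal_anti_mono (Set.subset_biUnion_of_mem hφ)
  have h4 := hcl {t} (Set.singleton_subset_iff.mpr htT) (Set.countable_singleton t)
    (by rintro e rfl; exact h3) t.asIdeal
    (by rw [vanishingIdeal_singleton, Ideal.minimalPrimes_eq_subsingleton_self]; rfl)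
  have h5 := hN t htT
  have h6 := h4.trans h5
  norm_cast at h6
  omega

open PrimeSpectrum in
theorem affine_gen {A : Type u} [CommRing A] [IsNoetherianRing A] (T : Set (PrimeSpectrum A)) :
    ∃ E : Set (PrimeSpectrum A), E ⊆ T ∧ E.Countable ∧ T ⊆ closure E := by
  have h := fun N : ℕ => affine_bdd {t ∈ T | t.asIdeal.height ≤ N} N (fun t ht => ht.2)
  choose EN hEN using h
  refine ⟨⋃ N, EN N, ?_, Set.countable_iUnion fun N => (hEN N).2.1, ?_⟩
  · exact Set.iUnion_subset fun N => (hEN N).1.trans (Set.sep_subset _ _)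
  · intro t ht
    have hfin : t.asIdeal.height ≠ ⊤ := Ideal.height_ne_top t.2.ne_top
    obtain ⟨N, hN⟩ := ENat.ne_top_iff_exists.mp hfin
    have h1 := (hEN N).2.2 t ⟨ht, by rw [← hN]⟩
    rw [← zeroLocus_vanishingIdeal_eq_closure, mem_zeroLocus]
    exact (vanishingIdeal_anti_mono (Set.subset_iUnion EN N)).trans h1

theorem local_step (S : Scheme.{u}) [IsNoetherian S] (T : Set S) (U : S.Opens)
    (hU : IsAffineOpen U) :
    ∃ E : Set S, E ⊆ T ∧ E.Countable ∧ T ∩ (U : Set S) ⊆ closure E := by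
  haveI : IsNoetherianRing Γ(S, U) := IsLocallyNoetherian.component_noetherian ⟨U, hU⟩
  let φ : PrimeSpectrum Γ(S, U) → S := fun p => hU.fromSpec p
  have hφc : Continuous φ := hU.fromSpec.continuous
  obtain ⟨E, hE, hEc, hcl⟩ := affine_gen (φ ⁻¹' T)
  refine ⟨φ '' E, ?_, hEc.image φ, ?_⟩
  · rintro _ ⟨e, he, rfl⟩
    exact hE he
  · rintro s ⟨hsT, hsU⟩
    have hr : s ∈ Set.range φ := by
      have h1 : Set.range φ = (U : Set S) := hU.range_fromSpec
      rw [h1]; exact hsU
    obtain ⟨p, rfl⟩ := hr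
    have hp : p ∈ closure E := hcl hsT
    exact image_closure_subset_closure_image hφc ⟨p, hp, rfl⟩

/-- In a Noetherian scheme, an infinite dense set of points contains a countable subset which is dense. -/
theorem result (S : Scheme.{u}) [IsNoetherian S]
    (T : Set S) (hT : T.Infinite) (hd : Dense T) :
    ∃ E : Set S, E ⊆ T ∧ E.Countable ∧ Dense E := by

  have hbasis : ∀ x : S, ∃ U' ∈ S.affineOpens, x ∈ U' ∧ U' ≤ (⊤ : S.Opens) := fun x =>
    Opens.isBasis_iff_nbhd.mp S.isBasis_affineOpens (show x ∈ (⊤ : S.Opens) from trivial)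
  choose U hU hxU _ using hbasis
  obtain ⟨t, ht⟩ := isCompact_univ.elim_finite_subcover (fun x : S => ((U x : S.Opens) : Set S))
    (fun x => (U x).isOpen) (fun x _ => Set.mem_iUnion.mpr ⟨x, hxU x⟩)
  choose E hET hEc hEcl using fun x : S => local_step S T (U x) (hU x)
  refine ⟨⋃ x ∈ t, E x, Set.iUnion₂_subset fun x _ => hET x,
    t.countable_toSet.biUnion fun x _ => hEc x, ?_⟩
  intro s
  obtain ⟨x, hx, hsx⟩ : ∃ x ∈ t, s ∈ (U x : Set S) := by
    have := ht (Set.mem_univ s)
    simpa using this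
  have h1 : (U x : Set S) ⊆ closure ((U x : Set S) ∩ T) :=
    hd.open_subset_closure_inter (U x).isOpen
  have h2 : closure ((U x : Set S) ∩ T) ⊆ closure (⋃ x ∈ t, E x) := by
    apply closure_minimal _ isClosed_closure
    rintro y ⟨hyU, hyT⟩
    exact closure_mono (Set.subset_biUnion_of_mem hx) (hEcl x ⟨hyT, hyU⟩)
  exact h2 (h1 hsx)

end Groth.Agent.S9794
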