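import Groth.Statements.S9795
import Groth.Agent.Lib.Helper22.DimZero
import Mathlib.AlgebraicGeometry.ValuativeCriterion

set_option autoImplicit false
universe u
open CategoryTheory AlgebraicGeometry TopologicalSpace
open Props

namespace Groth.Agent.S9795

/-- A quasi-separated scheme of dimension at most zero is separated. -/
theorem result (X : Scheme.{u}) [QuasiSeparatedSpace X]
    (h : topologicalKrullDim X ≤ 0) : X.IsSeparated := by
  have hspec : ∀ x y : X, x ⤳ y → x = y := fun x y hxy =>
    Groth.Agent.Lib.Helper22.eq_of_specializes_of_dim_le_zero h hxy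
  haveI : QuasiSeparated (Limits.terminal.from X) :=
    (quasiSeparatedSpace_iff_quasiSeparated X).mp inferInstance
  refine ⟨IsSeparated.of_valuativeCriterion _ ?_⟩
  intro S
  refine ⟨fun l₁ l₂ => ?_⟩
  ext1
  -- the generic point
  let ι : Spec (.of S.K) ⟶ Spec (.of S.R) := Spec.map (CommRingCat.ofHom (algebraMap S.R S.K))
  let η : Spec (.of S.K) := (⊥ : PrimeSpectrum S.K)
  let x : X := S.i₁ η
  have hinj : Function.Injective (algebraMap S.R S.K) := IsFractionRing.injective S.R S.K
  have hgen : ∀ z : Spec (.of S.R), ι η ⤳ z := by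
    intro z
    refine (PrimeSpectrum.le_iff_specializes (R := S.R)
      (PrimeSpectrum.comap (algebraMap S.R S.K) ⊥) z).mp ?_
    change Ideal.comap (algebraMap S.R S.K) ⊥ ≤ z.asIdeal
    rw [← RingHom.ker_eq_comap_bot, (RingHom.injective_iff_ker_eq_bot _).mp hinj]
    exact bot_le
  have hconst : ∀ (l : S.commSq.LiftStruct) (z : Spec (.of S.R)), l.l z = x := by
    intro l z
    have h1 : l.l (ι η) ⤳ l.l z := (hgen z).map l.l.continuous
    have h2 : l.l (ι η) = x := by
      change (ι ≫ l.l) η = S.i₁ η
      rw [l.fac_left]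
    rw [h2] at h1
    exact (hspec _ _ h1).symm
  obtain ⟨U, hU, hxU, -⟩ := exists_isAffineOpen_mem_and_subset (x := x) (U := ⊤) trivial
  have hr : ∀ l : S.commSq.LiftStruct, Set.range l.l ⊆ Set.range U.ι := by
    rintro l _ ⟨z, rfl⟩
    rw [hconst l z, Scheme.Opens.range_ι]
    exact hxU
  haveI : IsAffine U.toScheme := hU
  haveI : IsDominant ι := by
    refine ⟨?_⟩
    change DenseRange (PrimeSpectrum.comap (algebraMap S.R S.K))
    rw [PrimeSpectrum.denseRange_comap_iff_ker_le_nilRadical,
      (RingHom.injective_iff_ker_eq_bot _).mp hinj]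
    exact bot_le
  have key : IsOpenImmersion.lift U.ι l₁.l (hr l₁) = IsOpenImmersion.lift U.ι l₂.l (hr l₂) := by
    refine ext_of_isDominant ι ?_
    rw [← cancel_mono U.ι]
    simp only [Category.assoc, IsOpenImmersion.lift_fac]
    rw [l₁.fac_left, l₂.fac_left]
  have := congrArg (· ≫ U.ι) key
  simpa only [IsOpenImmersion.lift_fac] using this

end Groth.Agent.S9795
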