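import Groth.Statements.S9798
import Mathlib

set_option autoImplicit false
universe u
open CategoryTheory AlgebraicGeometry TopologicalSpace
open Props

namespace Groth.Agent.S9798


theorem dim_nonneg {T : Type*} [TopologicalSpace T] (t : T) : 0 ≤ topologicalKrullDim T := by
  have : Nonempty (TopologicalSpace.IrreducibleCloseds T) :=
    ⟨⟨closure {t}, isIrreducible_singleton.closure, isClosed_closure⟩⟩
  exact Order.krullDim_nonneg

/-- A point of a locally Noetherian scheme has local dimension zero exactly when it is isolated. -/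
theorem result (X : Scheme.{u}) [IsLocallyNoetherian X] (x : X) :
    FlatMor.localDim X x = 0 ↔ IsOpen ({x} : Set X) := by
  unfold FlatMor.localDim
  constructor
  · intro h
    have hne : Nonempty {U : TopologicalSpace.Opens X // x ∈ U} := ⟨⟨⊤, trivial⟩⟩
    obtain ⟨⟨U, hxU⟩, hU⟩ := ciInf_mem
      (fun U : {U : TopologicalSpace.Opens X // x ∈ U} => topologicalKrullDim (U.1 : Set X))
    rw [h] at hU
    have hU' : topologicalKrullDim (U : Set X) ≤ 0 := hU.le
    have : IsLocallyArtinian (U : Scheme) := IsLocallyArtinian.of_topologicalKrullDim_le_zero hU'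
    have hd0 : DiscreteTopology (U : Scheme) := inferInstance
    have hd : DiscreteTopology (↥(U : Set X)) := hd0
    have h1 : IsOpen ({⟨x, hxU⟩} : Set (↥(U : Set X))) := isOpen_discrete _
    have h2 : IsOpen (Subtype.val '' ({⟨x, hxU⟩} : Set (↥(U : Set X)))) :=
      U.2.isOpenMap_subtype_val _ h1
    have e : (Subtype.val '' ({⟨x, hxU⟩} : Set (↥(U : Set X)))) = ({x} : Set X) := by
      ext y
      constructor
      · rintro ⟨⟨z, hz⟩, hz', rfl⟩
        have := Set.mem_singleton_iff.1 hz'
        exact congrArg Subtype.val this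
      · intro hy
        exact ⟨⟨x, hxU⟩, rfl, (Set.mem_singleton_iff.1 hy).symm⟩
    rw [e] at h2
    exact h2
  · intro h
    apply le_antisymm
    · refine (iInf_le _ (⟨⟨{x}, h⟩, rfl⟩ : {U : TopologicalSpace.Opens X // x ∈ U})).trans ?_
      have : DiscreteTopology (({x} : Set X)) := inferInstance
      exact topologicalKrullDim_zero_of_discreteTopology _
    · refine le_iInf ?_
      rintro ⟨U, hxU⟩
      exact dim_nonneg (⟨x, hxU⟩ : (U : Set X))

end Groth.Agent.S9798
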