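import Groth.Statements.S9801
import Groth.Agent.Lib.Helper18.SerreNormal
import Groth.Agent.Lib.Helper5.TopDim
-- import your own Groth.Agent.* helpers here

set_option autoImplicit false
universe u
open CategoryTheory AlgebraicGeometry TopologicalSpace
open Props

namespace Groth.Agent.S9801

/-- A locally Noetherian normal scheme of dimension at most two is Cohen-Macaulay, that is, all of its
local rings are Cohen-Macaulay local rings. -/
theorem result (X : Scheme.{u})
    [IsLocallyNoetherian X] (hN : Pi1.IsNormalScheme X) (hd : topologicalKrullDim X ≤ 2) (x : X) :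
    LocCoh.IsCohenMacaulayLocalRing (X.presheaf.stalk x) := by
  obtain ⟨hdom, hic⟩ := hN x
  have hdim : ringKrullDim (X.presheaf.stalk x) ≤ 2 := by
    rw [ringKrullDim_stalk_eq_coheight]
    refine le_trans ?_ hd
    rw [Groth.Agent.Lib.Helper5.topologicalKrullDim_eq_krullDim]
    exact Order.coheight_le_krullDim x
  refine { supportDim_eq_depth := ?_ }
  apply le_antisymm
  · have := Groth.Agent.Lib.Helper18.Serre.min_two_dim_le_depth_of_normal (X.presheaf.stalk x)
    rw [Module.supportDim_self_eq_ringKrullDim]
    have h2 : ((2 : ℕ) : WithBot ℕ∞) = 2 := rfl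
    rw [h2, min_eq_right hdim] at this
    exact this
  · exact Groth.Agent.Lib.Helper18.CM.depth_le_supportDim _

end Groth.Agent.S9801
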