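import Groth.Statements.S9835
import Mathlib
import Groth.Agent.Lib.Helper11.Japanese

set_option autoImplicit false
universe u
open CategoryTheory AlgebraicGeometry TopologicalSpace
open Props

namespace Groth.Agent.S9835


open Groth.Agent.Lib.Helper11.Japanese

/-- If an integral scheme has an affine open covering by spectra of Japanese (N-2) domains, then the
coordinate ring of every nonempty affine open is a Japanese domain. -/
theorem result (X : Scheme.{u}) [IsIntegral X] {ι : Type u}
    (U : ι → X.Opens) [∀ i, Nonempty (U i)] (hU : iSup U = ⊤) (haff : ∀ i, IsAffineOpen (U i))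
    (hJ : ∀ i, CAlg.IsN2 Γ(X, U i)) (V : X.Opens) [Nonempty V] (hV : IsAffineOpen V) :
    CAlg.IsN2 Γ(X, V) := by
  let P : X.affineOpens → Prop := fun W => ∀ [Nonempty W.1], CAlg.IsN2 Γ(X, W)
  have key : P ⟨V, hV⟩ := by
    refine of_affine_open_cover (P := P) (fun i => ⟨U i, haff i⟩) hU ⟨V, hV⟩ ?_ ?_ ?_
    · intro W f hW hne
      have hne' : Nonempty W.1 := by
        obtain ⟨x⟩ := hne
        exact ⟨⟨x.1, X.basicOpen_le f x.2⟩⟩
      have hloc : IsLocalization.Away f Γ(X, X.basicOpen f) := W.2.isLocalization_basicOpen f
      have : Nonempty (X.basicOpen f) := hne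
      exact isN2_of_isLocalization Γ(X, W) (Submonoid.powers f) Γ(X, X.basicOpen f) hW
    · intro W s hs hP hne
      -- restrict to the nonzero elements
      let ι' := {f : Γ(X, W) // f ∈ s ∧ f ≠ 0}
      have hne_open : ∀ i : ι', Nonempty (X.basicOpen i.1) := by
        intro i
        by_contra hcon
        rw [not_nonempty_iff] at hcon
        have : X.basicOpen i.1 = ⊥ := by
          ext x
          simp only [Opens.coe_bot, Set.mem_empty_iff_false, iff_false]
          intro hx
          exact hcon.false ⟨x, hx⟩
        rw [AlgebraicGeometry.basicOpen_eq_bot_iff] at this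
        exact i.2.2 this
      have hspan : Ideal.span (Set.range (fun i : ι' => i.1)) = ⊤ := by
        rw [eq_top_iff, ← hs, Ideal.span_le]
        intro f hf
        by_cases h0 : f = 0
        · rw [h0]; exact Ideal.zero_mem _
        · exact Ideal.subset_span ⟨⟨f, hf, h0⟩, rfl⟩
      have : Finite ι' := by
        apply Finite.of_injective (fun i : ι' => (⟨i.1, i.2.1⟩ : s))
        intro a b hab
        exact Subtype.ext (congrArg (fun t : s => t.1) hab)
      have hloc : ∀ i : ι', IsLocalization.Away i.1 Γ(X, X.basicOpen i.1) :=
        fun i => W.2.isLocalization_basicOpen i.1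
      exact isN2_of_span Γ(X, W) (fun i : ι' => i.1) hspan (fun i => Γ(X, X.basicOpen i.1))
        (fun i => @hP ⟨i.1, i.2.1⟩ (hne_open i))
    · intro i hne
      exact hJ i
  exact key

end Groth.Agent.S9835
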