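import Groth.Statements.S9802
import Mathlib
import Groth.Agent.S9835
import Groth.Agent.Lib.Helper20.Nagata
import Groth.Agent.Lib.Helper21.EquiGU1

set_option autoImplicit false
universe u
open CategoryTheory AlgebraicGeometry TopologicalSpace
open Props

namespace Groth.Agent.S9802



open CategoryTheory AlgebraicGeometry TopologicalSpace
open Groth.Agent.Lib.Helper20.Nagata

/-- A locally Noetherian scheme is Nagata (every affine open has a Nagata coordinate ring) if and only
if every integral closed subscheme is Japanese (every nonempty affine open of it has an N-2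
coordinate ring). -/
theorem result (X : Scheme.{u})
    [IsLocallyNoetherian X] :
    (∀ U : X.Opens, IsAffineOpen U → CAlg.IsNagata Γ(X, U)) ↔
      ∀ (Z : Scheme.{u}) (i : Z ⟶ X) [IsClosedImmersion i] [IsIntegral Z]
        (V : Z.Opens) [Nonempty V], IsAffineOpen V → CAlg.IsN2 Γ(Z, V) := by

  constructor
  · intro hN Z i _ _ V _ hV
    refine @Groth.Agent.S9835.result Z _ {U : X.affineOpens // Nonempty (i ⁻¹ᵁ U.1)}
      (fun j => i ⁻¹ᵁ j.1.1) (fun j => j.2) ?_ (fun j => j.1.2.preimage i) ?_ V _ hV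
    · rw [eq_top_iff]
      intro z _
      obtain ⟨_, ⟨U, hU, rfl⟩, hzU, -⟩ := X.isBasis_affineOpens.exists_subset_of_mem_open
        (Set.mem_univ (i z)) isOpen_univ
      exact Opens.mem_iSup.2 ⟨⟨⟨U, hU⟩, ⟨⟨z, hzU⟩⟩⟩, hzU⟩
    · rintro ⟨⟨U, hU⟩, hne⟩
      have hne' : Nonempty (i ⁻¹ᵁ U) := hne
      have hsurj : Function.Surjective (i.app U).hom := i.app_surjective U hU
      have : (RingHom.ker (i.app U).hom).IsPrime := RingHom.ker_isPrime _
      exact isN2_of_ringEquiv (RingHom.quotientKerEquivOfSurjective hsurj)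
        ((hN U hU).2 (RingHom.ker (i.app U).hom))
  · intro hJ U hU
    refine ⟨IsLocallyNoetherian.component_noetherian ⟨U, hU⟩, fun p hp => ?_⟩
    obtain ⟨x, hx⟩ : ∃ x : X, x = hU.fromSpec ⟨p, hp⟩ := ⟨_, rfl⟩
    obtain ⟨C, hC⟩ : ∃ C : Closeds X, C = ⟨closure {x}, isClosed_closure⟩ := ⟨_, rfl⟩
    have hCcoe : (C : Set X) = closure {x} := by rw [hC]; rfl
    have : IsIntegral (Scheme.IdealSheafData.vanishingIdeal C).subscheme :=
      Groth.Agent.Lib.Helper21.EquiGU.isIntegral_subscheme_vanishingIdeal C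
        (by rw [hCcoe]; exact isIrreducible_singleton.closure)
    have hxU : x ∈ U := by
      have : x ∈ Set.range hU.fromSpec := ⟨_, hx.symm⟩
      rwa [hU.range_fromSpec] at this
    have hne : Nonempty ((Scheme.IdealSheafData.vanishingIdeal C).subschemeι ⁻¹ᵁ U) := by
      have hxr : x ∈ Set.range (Scheme.IdealSheafData.vanishingIdeal C).subschemeι := by
        rw [Scheme.IdealSheafData.range_subschemeι,
          Scheme.IdealSheafData.coe_support_vanishingIdeal, hCcoe]
        exact subset_closure rfl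
      obtain ⟨z, hz⟩ := hxr
      exact ⟨⟨z, show (Scheme.IdealSheafData.vanishingIdeal C).subschemeι z ∈ U from hz ▸ hxU⟩⟩
    have h := hJ (Scheme.IdealSheafData.vanishingIdeal C).subscheme
      (Scheme.IdealSheafData.vanishingIdeal C).subschemeι
      ((Scheme.IdealSheafData.vanishingIdeal C).subschemeι ⁻¹ᵁ U) (hU.preimage _)
    have hideal : (Scheme.IdealSheafData.vanishingIdeal C).ideal ⟨U, hU⟩ = p := by
      have hpre : hU.fromSpec ⁻¹' {x} = {(⟨p, hp⟩ : ↥(Spec Γ(X, U)))} := by
        ext q
        simp only [Set.mem_preimage, Set.mem_singleton_iff]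
        rw [hx]
        exact hU.fromSpec.isOpenEmbedding.injective.eq_iff
      have key : (hU.fromSpec ⁻¹' (C : Set X)) = closure {(⟨p, hp⟩ : ↥(Spec Γ(X, U)))} := by
        rw [hCcoe, hU.fromSpec.isOpenEmbedding.isOpenMap.preimage_closure_eq_closure_preimage
          hU.fromSpec.continuous, hpre]
        rfl
      have h2 : PrimeSpectrum.vanishingIdeal (closure {(⟨p, hp⟩ : PrimeSpectrum Γ(X, U))}) = p := by
        rw [PrimeSpectrum.vanishingIdeal_closure, PrimeSpectrum.vanishingIdeal_singleton]
      rw [Scheme.IdealSheafData.vanishingIdeal_ideal]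
      exact (congrArg PrimeSpectrum.vanishingIdeal key).trans h2
    exact isN2_of_ringEquiv
      (((Scheme.IdealSheafData.vanishingIdeal C).subschemeObjIso ⟨U, hU⟩).commRingCatIsoToRingEquiv.trans
        (Ideal.quotEquivOfEq hideal)) h

end Groth.Agent.S9802
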