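import Groth.Statements.S9804
import Mathlib.AlgebraicGeometry.QuasiAffine

set_option autoImplicit false
universe u
open CategoryTheory AlgebraicGeometry TopologicalSpace
open Props

namespace Groth.Agent.S9804

/-- If `X` is qcqs and `X_r` is affine, then `D(r)` lies in the range of `X ⟶ Spec Γ(X, ⊤)`. -/
theorem basicOpen_subset_range_toSpecΓ (X : Scheme.{u}) [CompactSpace X] [QuasiSeparatedSpace X]
    (r : Γ(X, ⊤)) (hr : IsAffineOpen (X.basicOpen r)) :
    (PrimeSpectrum.basicOpen r : Set (PrimeSpectrum Γ(X, ⊤))) ⊆ Set.range X.toSpecΓ := by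
  intro y hy
  haveI := isLocalization_basicOpen_of_qcqs (X := X) (U := ⊤) isCompact_univ
    isQuasiSeparated_univ r
  have hrange := PrimeSpectrum.localization_away_comap_range (Γ(X, X.basicOpen r)) r
  rw [← hrange] at hy
  obtain ⟨z, rfl⟩ := hy
  have hiso : IsIso (X.basicOpen r).toSpecΓ := by
    rw [← hr.isoSpec_hom]; infer_instance
  obtain ⟨w, rfl⟩ := (X.basicOpen r).toSpecΓ.surjective z
  refine ⟨(X.basicOpen r).ι w, ?_⟩
  have := congrArg (fun φ : (X.basicOpen r).toScheme ⟶ Spec Γ(X, ⊤) => φ w)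
    ((X.basicOpen r).toSpecΓ_SpecMap_presheaf_map_top)
  simp only [Scheme.Hom.comp_apply] at this
  exact this.symm

/-- For quasi-affine schemes U and V and an open immersion j : U → V, the scheme U is the fibre product
of the composite U → V → Spec Γ(V, O_V) and the morphism Spec Γ(U, O_U) → Spec Γ(V, O_V) induced by
restriction of sections along j: the square whose sides are the identity of U, the canonical
morphism U → Spec Γ(U, O_U), that composite and that induced morphism is cartesian. -/
theorem result {U V : Scheme.{u}} (j : U ⟶ V)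
    [IsOpenImmersion j] [U.IsQuasiAffine] [V.IsQuasiAffine] :
    IsPullback (𝟙 U) U.toSpecΓ (j ≫ V.toSpecΓ) (Spec.map j.appTop) := by
  refine IsOpenImmersion.isPullback (𝟙 U) U.toSpecΓ (j ≫ V.toSpecΓ) (Spec.map j.appTop)
    (by rw [Category.id_comp, Scheme.toSpecΓ_naturality]) ?_
  apply le_antisymm
  · rintro y ⟨u, hv⟩
    -- `hv : (j ≫ V.toSpecΓ) u = Spec.map j.appTop y`
    have hju : j u ∈ j.opensRange := ⟨u, rfl⟩
    obtain ⟨_, ⟨_, ⟨r, hr, rfl⟩, rfl⟩, hur, hrj⟩ :=
      (Scheme.IsQuasiAffine.isBasis_basicOpen V).exists_subset_of_mem_open hju j.opensRange.2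
    -- the pulled back function
    have hrj' : V.basicOpen r ≤ j.opensRange := hrj
    have haff : IsAffineOpen (U.basicOpen (j.appTop r)) := by
      rw [← Scheme.preimage_basicOpen_top, ← j.isAffineOpen_iff_of_isOpenImmersion,
        j.image_preimage_eq_opensRange_inf, inf_eq_right.mpr hrj']
      exact hr
    have hy : y ∈ (PrimeSpectrum.basicOpen (j.appTop r) : Set (PrimeSpectrum Γ(U, ⊤))) := by
      change y ∈ (Spec.map j.appTop ⁻¹ᵁ PrimeSpectrum.basicOpen r)
      change Spec.map j.appTop y ∈ PrimeSpectrum.basicOpen r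
      rw [← hv, Scheme.Hom.comp_apply]
      change j u ∈ V.toSpecΓ ⁻¹ᵁ PrimeSpectrum.basicOpen r
      rw [Scheme.toSpecΓ_preimage_basicOpen]
      exact hur
    exact basicOpen_subset_range_toSpecΓ U (j.appTop r) haff hy
  · rintro _ ⟨u, rfl⟩
    refine ⟨u, ?_⟩
    rw [Scheme.toSpecΓ_naturality]
    rfl

end Groth.Agent.S9804
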