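import Groth.Statements.S9806
-- import your own Groth.Agent.* helpers here
import Groth.Agent.Lib.Helper29.QCohLocFree

set_option autoImplicit false
universe u
open CategoryTheory AlgebraicGeometry TopologicalSpace
open Props

namespace Groth.Agent.S9806

/-- A quasi-coherent module on a scheme is of finite presentation with all stalks free over the local
rings if and only if it is finite locally free. -/
theorem result (X : Scheme.{u}) (M : X.Modules) (hM : Coh.IsQCoh M) :
    (CohB1.IsFP M ∧ ∀ x : X, Module.Free (X.presheaf.stalk x) (M.presheaf.stalk x)) ↔
      FlatMod.IsFinLocFree M := by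
  rw [Groth.Agent.Lib.Helper29.QCoh.isFinLocFree_iff_free_stalks]

end Groth.Agent.S9806
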