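import Groth.Statements.S9814
-- import your own Groth.Agent.* helpers here
import Groth.Agent.Lib.Helper29.Avoid

set_option autoImplicit false
universe u
open CategoryTheory CategoryTheory.Limits AlgebraicGeometry TopologicalSpace
open Props

namespace Groth.Agent.S9814

/-- Let L be an invertible module on a scheme X. If the opens X_s (s a global section of a positive
tensor power of L) form a basis for the topology, then so do the affine ones among them. -/
theorem result (X : Scheme.{u}) (L : X.Modules) (hL : PicF.IsInvertible L)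
    (hB : Opens.IsBasis {U : X.Opens | ∃ (n : ℕ) (s : Coh.structureModule X ⟶ CohB1.tensorPow L (n + 1)),
      U = CohB1.genLocus _ s}) :
    Opens.IsBasis {U : X.Opens | IsAffineOpen U ∧ ∃ (n : ℕ) (s : Coh.structureModule X ⟶ CohB1.tensorPow L (n + 1)),
      U = CohB1.genLocus _ s} := by
  open Groth.Agent.Lib.Helper29.QCoh in
  have hq := isQuasicoherent_of_isInvertible hL
  rw [Opens.isBasis_iff_nbhd] at hB ⊢
  intro U x hxU
  obtain ⟨V, e, hV, hxV, hVU, he⟩ := exists_affine_isTriv hL x hxU
  obtain ⟨_, ⟨n, s, rfl⟩, hxs, hsV⟩ := hB hxV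
  have hT := he.epow (n + 1)
  obtain ⟨a, ha⟩ := hT.exists_eq_smul (sval s V)
  have h1 := hT.genLocus_inf s a ha
  rw [inf_eq_left.mpr hsV] at h1
  refine ⟨_, ⟨?_, n, s, rfl⟩, hxs, hsV.trans hVU⟩
  rw [h1]
  exact hV.basicOpen a

end Groth.Agent.S9814
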