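import Groth.Statements.S9820
import Mathlib
import Groth.Agent.Helper19.FPExt4
-- import your own Groth.Agent.* helpers here

set_option autoImplicit false
universe u
open CategoryTheory CategoryTheory.Limits AlgebraicGeometry TopologicalSpace Opposite
open Props

namespace Groth.Agent.S9820

/-- On a quasi-compact quasi-separated scheme, a quasi-coherent module of finite type which is of finite
presentation over a quasi-compact open U is the quotient of a module of finite presentation by a
surjection which is an isomorphism over U. -/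
theorem result {X : Scheme.{u}} [CompactSpace X]
    [QuasiSeparatedSpace X] (F : X.Modules) [Coh.IsQCoh F] (hF : CohB1.IsFT F) (U : X.Opens)
    (hU : IsCompact (U : Set X)) (hFU : CohB1.IsFP (F.restrict U.ι)) :
    ∃ (G : X.Modules) (φ : G ⟶ F), CohB1.IsFP G ∧ Epi φ ∧
      IsIso ((Scheme.Modules.restrictFunctor U.ι).map φ) := by
  haveI : F.IsQuasicoherent := ‹Coh.IsQCoh F›
  haveI : F.IsFiniteType := hF
  obtain ⟨G, φ, hG, hφ, hiso⟩ := Groth.Agent.Helper19.FPExt.exists_fp_epi_isoOn F U hU
    (Groth.Agent.Helper19.FPExt.fpOn_of_restrict F U hFU)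
  exact ⟨G, φ, hG, hφ, (Groth.Agent.Helper19.FPExt.isoOn_iff_isIso_restrict φ U).mp hiso⟩

end Groth.Agent.S9820
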