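import Groth.Statements.S9822
import Mathlib.AlgebraicGeometry.Limits

set_option autoImplicit false
universe u
open CategoryTheory CategoryTheory.Limits AlgebraicGeometry TopologicalSpace Opposite
open Props

namespace Groth.Agent.S9822

/-- A scheme is irreducible if and only if it is nonempty and every nonempty affine open subset is
irreducible. -/
theorem result (X : Scheme.{u}) :
    IrreducibleSpace X ↔ Nonempty X ∧ ∀ U : X.Opens, IsAffineOpen U → (U : Set X).Nonempty → IsIrreducible (U : Set X) := by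
  constructor
  · intro h
    refine ⟨h.toNonempty, fun U _ hne => ⟨hne, ?_⟩⟩
    exact (PreirreducibleSpace.isPreirreducible_univ (X := X)).open_subset U.isOpen (Set.subset_univ _)
  · rintro ⟨hne, h⟩
    have hpre : PreirreducibleSpace X := by
      refine ⟨?_⟩
      rintro u v hu hv ⟨x, -, hx⟩ ⟨y, -, hy⟩
      obtain ⟨Ux, hUx, hxUx, hUxu⟩ :=
        exists_isAffineOpen_mem_and_subset (x := x) (U := ⟨u, hu⟩) hx
      obtain ⟨Uy, hUy, hyUy, hUyv⟩ :=
        exists_isAffineOpen_mem_and_subset (x := y) (U := ⟨v, hv⟩) hy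
      by_cases hdisj : Disjoint Ux Uy
      · exfalso
        have hW := hUx.sup_of_disjoint hUy hdisj
        have hirr := h (Ux ⊔ Uy) hW ⟨x, Or.inl hxUx⟩
        obtain ⟨z, -, hz1, hz2⟩ := hirr.2 Ux Uy Ux.isOpen Uy.isOpen
          ⟨x, Or.inl hxUx, hxUx⟩ ⟨y, Or.inr hyUy, hyUy⟩
        exact (Set.disjoint_left.mp ((TopologicalSpace.Opens.coe_disjoint).mpr hdisj)) hz1 hz2
      · rw [← TopologicalSpace.Opens.coe_disjoint, Set.not_disjoint_iff] at hdisj
        obtain ⟨z, hz1, hz2⟩ := hdisj
        exact ⟨z, Set.mem_univ _, hUxu hz1, hUyv hz2⟩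
    exact { toPreirreducibleSpace := hpre, toNonempty := hne }

end Groth.Agent.S9822
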