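import Groth.Statements.S9823
-- import your own Groth.Agent.* helpers here
import Groth.Agent.Lib.Helper29.IdSupp

set_option autoImplicit false
universe u
open CategoryTheory CategoryTheory.Limits AlgebraicGeometry TopologicalSpace Opposite
open Props

namespace Groth.Agent.S9823

/-- In a quasi-compact quasi-separated scheme, an open subset is quasi-compact exactly when its
complement is the support of some quasi-coherent ideal sheaf of finite type. -/
theorem result (X : Scheme.{u}) [CompactSpace X] [QuasiSeparatedSpace X]
    (U : X.Opens) :
    IsCompact (U : Set X) ↔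
      ∃ I : X.IdealSheafData, (∀ V : X.affineOpens, (I.ideal V).FG) ∧ (I.support : Set X) = (U : Set X)ᶜ := by
  constructor
  · intro hU
    exact Groth.Agent.Lib.Helper29.QCoh.exists_fg_ideal_support_eq_compl U hU
  · rintro ⟨I, hfg, hsupp⟩
    exact Groth.Agent.Lib.Helper29.QCoh.isCompact_of_fg_ideal_support U I hfg hsupp

end Groth.Agent.S9823
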