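import Groth.Statements.S9824
import Mathlib
import Groth.Agent.S6894
import Groth.Agent.Helper19.FittSheaf2
import Groth.Agent.Lib.Helper29.QCohLocFree
import Groth.Agent.Lib.Helper29.QCohFinite
-- import your own Groth.Agent.* helpers here

set_option autoImplicit false
universe u
open CategoryTheory CategoryTheory.Limits AlgebraicGeometry TopologicalSpace Opposite
open Props

namespace Groth.Agent.S9824

section helpers
open TensorProduct
open Groth.Agent.Helper19.FittLib Groth.Agent.Helper19.FittSheaf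
open Groth.Agent.Lib.Helper29.QCoh

lemma finrank_fibre_eq {A : Type*} [CommRing A] (p : Ideal A) [p.IsPrime]
    (B : Type*) [CommRing B] [Algebra A B] [IsLocalRing B] [IsLocalization.AtPrime B p]
    {N N' : Type*} [AddCommGroup N] [Module A N] [AddCommGroup N'] [Module A N'] [Module B N']
    [IsScalarTower A B N'] (g : N →ₗ[A] N') [IsLocalizedModule p.primeCompl g] :
    Module.finrank (IsLocalRing.ResidueField B) (IsLocalRing.ResidueField B ⊗[B] N') =
      Module.finrank p.ResidueField (p.ResidueField ⊗[A] N) := by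
  let k := IsLocalRing.ResidueField B
  have h1 : p ≤ RingHom.ker (algebraMap A k) := by
    intro a ha
    rw [RingHom.mem_ker, IsScalarTower.algebraMap_apply A B k]
    rw [IsLocalRing.ResidueField.algebraMap_eq, IsLocalRing.residue_eq_zero_iff]
    exact (IsLocalization.AtPrime.to_map_mem_maximal_iff B p a).mpr ha
  have h2 : p.primeCompl ≤ (IsUnit.submonoid k).comap (algebraMap A k) := by
    intro a ha
    change IsUnit (algebraMap A k a)
    rw [IsScalarTower.algebraMap_apply A B k]
    exact (IsLocalization.map_units B ⟨a, ha⟩).map _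
  let φ : p.ResidueField →+* k := Ideal.ResidueField.lift p (algebraMap A k) h1 h2
  letI : Algebra p.ResidueField k := φ.toAlgebra
  have : IsScalarTower A p.ResidueField k := IsScalarTower.of_algebraMap_eq' (by
    ext a
    exact (Ideal.ResidueField.lift_algebraMap p (algebraMap A k) h1 h2 a).symm)
  let eb : B ⊗[A] N ≃ₗ[B] N' := (IsLocalizedModule.isBaseChange p.primeCompl B g).equiv
  let e1 : k ⊗[B] N' ≃ₗ[k] k ⊗[B] (B ⊗[A] N) :=
    TensorProduct.AlgebraTensorModule.congr (LinearEquiv.refl k k) eb.symm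
  let e2 : k ⊗[B] (B ⊗[A] N) ≃ₗ[k] k ⊗[A] N :=
    TensorProduct.AlgebraTensorModule.cancelBaseChange A B k k N
  let e3 : k ⊗[p.ResidueField] (p.ResidueField ⊗[A] N) ≃ₗ[k] k ⊗[A] N :=
    TensorProduct.AlgebraTensorModule.cancelBaseChange A p.ResidueField k k N
  rw [(e1 ≪≫ₗ e2 ≪≫ₗ e3.symm).finrank_eq, Module.finrank_baseChange]

variable {X : Scheme.{u}}

lemma rank_eq (M : X.Modules) [M.IsQuasicoherent] {V : X.Opens} (hV : IsAffineOpen V) (x : X)
    (hx : x ∈ V) :
    Module.finrank (IsLocalRing.ResidueField (X.presheaf.stalk x))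
      (TensorProduct (X.presheaf.stalk x) (IsLocalRing.ResidueField (X.presheaf.stalk x))
        (M.presheaf.stalk x)) =
    Module.finrank (hV.primeIdealOf ⟨x, hx⟩).asIdeal.ResidueField
      ((hV.primeIdealOf ⟨x, hx⟩).asIdeal.ResidueField ⊗[Γ(X, V)] Γ(M, V)) := by
  let _ := stalkModule M V x hx
  let _ : Algebra Γ(X, V) (X.presheaf.stalk x) :=
    TopCat.Presheaf.algebra_section_stalk X.presheaf ⟨x, hx⟩
  have hloc := hV.isLocalization_stalk ⟨x, hx⟩
  have : IsScalarTower Γ(X, V) (X.presheaf.stalk x) (M.presheaf.stalk x) :=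
    IsScalarTower.of_algebraMap_smul fun a m => rfl
  have := isLocalizedModule_germ M hV x hx
  exact finrank_fibre_eq (hV.primeIdealOf ⟨x, hx⟩).asIdeal (X.presheaf.stalk x) (germₗ M V x hx)

lemma exists_point_of_prime {V : X.Opens} (hV : IsAffineOpen V) (p : PrimeSpectrum Γ(X, V)) :
    ∃ (y : X) (hy : y ∈ V), hV.primeIdealOf ⟨y, hy⟩ = p := by
  let x' : V := hV.isoSpec.inv p
  refine ⟨x'.1, x'.2, ?_⟩
  change hV.isoSpec.hom (hV.isoSpec.inv p) = p
  rw [← Scheme.Hom.comp_apply, Iso.inv_hom_id]
  rfl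

lemma fitt_of_const [IsReduced X] (M : X.Modules) [M.IsQuasicoherent] [M.IsFiniteType]
    {V : X.Opens} (hV : IsAffineOpen V) (n : ℕ)
    (h : ∀ (y : X), y ∈ V → Module.finrank (IsLocalRing.ResidueField (X.presheaf.stalk y))
      (TensorProduct (X.presheaf.stalk y) (IsLocalRing.ResidueField (X.presheaf.stalk y))
        (M.presheaf.stalk y)) = n) :
    Fitt.ideal Γ(X, V) Γ(M, V) n = ⊤ ∧ (n = 0 ∨ Fitt.ideal Γ(X, V) Γ(M, V) (n - 1) = ⊥) := by
  have := finite_sections M hV
  have hp : ∀ p : PrimeSpectrum Γ(X, V), Module.finrank p.asIdeal.ResidueField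
      (p.asIdeal.ResidueField ⊗[Γ(X, V)] Γ(M, V)) = n := by
    intro p
    obtain ⟨y, hy, rfl⟩ := exists_point_of_prime hV p
    rw [← rank_eq M hV y hy]
    exact h y hy
  constructor
  · by_contra hne
    obtain ⟨m, hm, hle⟩ := Ideal.exists_le_maximal _ hne
    have := hm.isPrime
    exact ((Groth.Agent.S6894.result (R := Γ(X, V)) Γ(M, V) n m).1.mpr
      (hp ⟨m, hm.isPrime⟩).le) hle
  · rcases Nat.eq_zero_or_pos n with h0 | hpos
    · exact Or.inl h0
    · right
      rw [eq_bot_iff]
      have hnil : nilradical Γ(X, V) = ⊥ := nilradical_eq_zero _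
      rw [← hnil, nilradical_eq_sInf, le_sInf_iff]
      intro p hp'
      have : p.IsPrime := hp'
      by_contra hle
      have := ((Groth.Agent.S6894.result (R := Γ(X, V)) Γ(M, V) (n - 1) p).1).mp hle
      have h2 : Module.finrank p.ResidueField (p.ResidueField ⊗[Γ(X, V)] Γ(M, V)) = n :=
        hp ⟨p, hp'⟩
      omega

end helpers

open Props in

/-- Over a reduced scheme, a quasi-coherent module is finite locally free if and only if it is of finite
type and its fibre rank (the dimension of the stalk tensored with the residue field) is a locally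
constant function. -/
theorem result (X : Scheme.{u}) [IsReduced X]
    (M : X.Modules) [Coh.IsQCoh M] :
    FlatMod.IsFinLocFree M ↔ CohB1.IsFT M ∧
      IsLocallyConstant (fun x : X => Module.finrank (IsLocalRing.ResidueField (X.presheaf.stalk x))
          (TensorProduct (X.presheaf.stalk x) (IsLocalRing.ResidueField (X.presheaf.stalk x)) (M.presheaf.stalk x))) := by
  have : M.IsQuasicoherent := ‹Coh.IsQCoh M›
  constructor
  · intro h
    have : M.IsFinitePresentation :=
      Groth.Agent.Lib.Helper29.QCoh.isFinitePresentation_of_isFinLocFree h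
    refine ⟨inferInstance, ?_⟩
    rw [IsLocallyConstant.iff_exists_open]
    intro x
    obtain ⟨V, n, hV, hxV, ⟨e⟩⟩ :=
      Groth.Agent.Lib.Helper29.QCoh.exists_affine_linearEquiv_of_isFinLocFree h x
    have key : ∀ y : X, y ∈ V → Module.finrank (IsLocalRing.ResidueField (X.presheaf.stalk y))
        (TensorProduct (X.presheaf.stalk y) (IsLocalRing.ResidueField (X.presheaf.stalk y))
          (M.presheaf.stalk y)) = n := by
      intro y hy
      rw [rank_eq M hV y hy]
      have : Module.Free Γ(X, V) Γ(M, V) := Module.Free.of_equiv e.symm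
      have : Nontrivial Γ(X, V) :=
        Groth.Agent.Lib.Helper29.QCoh.nontrivial_sections_of_mem hy
      rw [Module.finrank_baseChange, e.finrank_eq]
      simp
    refine ⟨V.1, V.2, hxV, fun y hy => ?_⟩
    rw [key y hy, key x hxV]
  · rintro ⟨hft, hlc⟩
    have : M.IsFiniteType := hft
    rw [Groth.Agent.Lib.Helper29.QCoh.isFinLocFree_iff_exists_affine]
    intro x
    set rk := (fun x : X => Module.finrank (IsLocalRing.ResidueField (X.presheaf.stalk x))
          (TensorProduct (X.presheaf.stalk x) (IsLocalRing.ResidueField (X.presheaf.stalk x))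
            (M.presheaf.stalk x))) with hrk
    set n := rk x with hn
    have hopen : IsOpen (rk ⁻¹' {n}) := hlc.isOpen_fiber n
    obtain ⟨V, hV, hxV, hVW⟩ := exists_isAffineOpen_mem_and_subset (x := x)
      (U := ⟨rk ⁻¹' {n}, hopen⟩) rfl
    have hconst : ∀ y : X, y ∈ V → rk y = n := fun y hy => hVW hy
    obtain ⟨h1, h0⟩ := fitt_of_const M hV n hconst
    have hnot : ¬ Fitt.ideal Γ(X, V) Γ(M, V) n ≤ (hV.primeIdealOf ⟨x, hxV⟩).asIdeal := by
      rw [h1]
      intro hle
      exact (hV.primeIdealOf ⟨x, hxV⟩).isPrime.ne_top (top_le_iff.mp hle)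
    obtain ⟨d, hxd, g, hg⟩ := Groth.Agent.Helper19.FittSheaf.exists_basicOpen_span M n
      ⟨V, hV⟩ hxV hnot
    have hD : IsAffineOpen (X.basicOpen d) := hV.basicOpen d
    have hconst' : ∀ y : X, y ∈ X.basicOpen d → rk y = n :=
      fun y hy => hconst y (X.basicOpen_le d hy)
    obtain ⟨-, h0'⟩ := fitt_of_const M hD n hconst'
    have hli := Groth.Agent.Helper19.FittLib.linearIndependent_of_ideal_eq_bot g hg h0'
    let b : Module.Basis (Fin n) Γ(X, X.basicOpen d) Γ(M, X.basicOpen d) :=
      Module.Basis.mk hli (by rw [hg])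
    exact ⟨X.basicOpen d, n, hD, hxd, ⟨b.repr⟩⟩

end Groth.Agent.S9824
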