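import Groth.Statements.S9825
import Mathlib
import Groth.Agent.S9824
-- import your own Groth.Agent.* helpers here

set_option autoImplicit false
universe u
open CategoryTheory CategoryTheory.Limits AlgebraicGeometry TopologicalSpace Opposite
open Props

namespace Groth.Agent.S9825

section helpers
open TensorProduct
open Groth.Agent.Helper19.FittLib Groth.Agent.Helper19.FittSheaf
open Groth.Agent.Lib.Helper29.QCoh
open Groth.Agent.S9824

variable {X : Scheme.{u}}

lemma fitt_of_const' (M : X.Modules) [M.IsQuasicoherent] [M.IsFiniteType]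
    (hfree : ∀ x : X, Module.Free (X.presheaf.stalk x) (M.presheaf.stalk x))
    {V : X.Opens} (hV : IsAffineOpen V) (n : ℕ)
    (h : ∀ (y : X), y ∈ V → Module.finrank (IsLocalRing.ResidueField (X.presheaf.stalk y))
      (TensorProduct (X.presheaf.stalk y) (IsLocalRing.ResidueField (X.presheaf.stalk y))
        (M.presheaf.stalk y)) = n) :
    Fitt.ideal Γ(X, V) Γ(M, V) n = ⊤ ∧ (n = 0 ∨ Fitt.ideal Γ(X, V) Γ(M, V) (n - 1) = ⊥) := by
  have := finite_sections M hV
  have hp : ∀ p : PrimeSpectrum Γ(X, V), Module.finrank p.asIdeal.ResidueField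
      (p.asIdeal.ResidueField ⊗[Γ(X, V)] Γ(M, V)) = n := by
    intro p
    obtain ⟨y, hy, rfl⟩ := Groth.Agent.S9824.exists_point_of_prime hV p
    rw [← rank_eq M hV y hy]
    exact h y hy
  constructor
  · by_contra hne
    obtain ⟨m, hm, hle⟩ := Ideal.exists_le_maximal _ hne
    have := hm.isPrime
    exact ((Groth.Agent.S6894.result (R := Γ(X, V)) Γ(M, V) n m).1.mpr
      (hp ⟨m, hm.isPrime⟩).le) hle
  · rcases Nat.eq_zero_or_pos n with h0 | hpos
    · exact Or.inl h0
    · right
      rw [eq_bot_iff]
      intro a ha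
      rw [Ideal.mem_bot]
      refine TopCat.Presheaf.section_ext X.sheaf V a 0 fun y hy => ?_
      rw [map_zero]
      have hstalk := stalk_fitt M (n - 1) hV y hy
      have hfr := hfree y
      have hfin : Module.Finite (X.presheaf.stalk y) (M.presheaf.stalk y) := by
        let _ := stalkModule M V y hy
        let _ : Algebra Γ(X, V) (X.presheaf.stalk y) :=
          TopCat.Presheaf.algebra_section_stalk X.presheaf ⟨y, hy⟩
        have hloc := hV.isLocalization_stalk ⟨y, hy⟩
        have : IsScalarTower Γ(X, V) (X.presheaf.stalk y) (M.presheaf.stalk y) :=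
          IsScalarTower.of_algebraMap_smul fun a m => rfl
        have := isLocalizedModule_germ M hV y hy
        exact Module.Finite.of_isLocalizedModule (hV.primeIdealOf ⟨y, hy⟩).asIdeal.primeCompl
          (germₗ M V y hy)
      have hrk : Module.finrank (X.presheaf.stalk y) (M.presheaf.stalk y) = n := by
        rw [← h y hy, Module.finrank_baseChange]
      let b := Module.finBasisOfFinrankEq (X.presheaf.stalk y) (M.presheaf.stalk y) hrk
      have hb := ideal_of_basis b (n - 1)
      rw [if_neg (by omega)] at hb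
      rw [hb] at hstalk
      have hmem : (X.presheaf.germ V y hy).hom a ∈
          (Fitt.ideal Γ(X, V) Γ(M, V) (n - 1)).map (X.presheaf.germ V y hy).hom :=
        Ideal.mem_map_of_mem _ ha
      rw [← hstalk, Ideal.mem_bot] at hmem
      exact hmem

end helpers

open Props in

/-- A quasi-coherent module on a scheme is finite locally free if and only if it is of finite type with
free stalks and locally constant fibre rank. -/
theorem result (X : Scheme.{u}) (M : X.Modules) [Coh.IsQCoh M] :
    FlatMod.IsFinLocFree M ↔ CohB1.IsFT M ∧ (∀ x : X, Module.Free (X.presheaf.stalk x) (M.presheaf.stalk x)) ∧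
      IsLocallyConstant (fun x : X => Module.finrank (IsLocalRing.ResidueField (X.presheaf.stalk x))
          (TensorProduct (X.presheaf.stalk x) (IsLocalRing.ResidueField (X.presheaf.stalk x)) (M.presheaf.stalk x))) := by
  have : M.IsQuasicoherent := ‹Coh.IsQCoh M›
  constructor
  · intro h
    have : M.IsFinitePresentation :=
      Groth.Agent.Lib.Helper29.QCoh.isFinitePresentation_of_isFinLocFree h
    refine ⟨inferInstance, Groth.Agent.Lib.Helper29.QCoh.free_stalk_of_isFinLocFree h, ?_⟩
    rw [IsLocallyConstant.iff_exists_open]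
    intro x
    obtain ⟨V, n, hV, hxV, ⟨e⟩⟩ :=
      Groth.Agent.Lib.Helper29.QCoh.exists_affine_linearEquiv_of_isFinLocFree h x
    have key : ∀ y : X, y ∈ V → Module.finrank (IsLocalRing.ResidueField (X.presheaf.stalk y))
        (TensorProduct (X.presheaf.stalk y) (IsLocalRing.ResidueField (X.presheaf.stalk y))
          (M.presheaf.stalk y)) = n := by
      intro y hy
      rw [Groth.Agent.S9824.rank_eq M hV y hy]
      have : Module.Free Γ(X, V) Γ(M, V) := Module.Free.of_equiv e.symm
      have : Nontrivial Γ(X, V) :=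
        Groth.Agent.Lib.Helper29.QCoh.nontrivial_sections_of_mem hy
      rw [Module.finrank_baseChange, e.finrank_eq]
      simp
    refine ⟨V.1, V.2, hxV, fun y hy => ?_⟩
    rw [key y hy, key x hxV]
  · rintro ⟨hft, hfree, hlc⟩
    have : M.IsFiniteType := hft
    rw [Groth.Agent.Lib.Helper29.QCoh.isFinLocFree_iff_exists_affine]
    intro x
    set rk := (fun x : X => Module.finrank (IsLocalRing.ResidueField (X.presheaf.stalk x))
          (TensorProduct (X.presheaf.stalk x) (IsLocalRing.ResidueField (X.presheaf.stalk x))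
            (M.presheaf.stalk x))) with hrk
    set n := rk x with hn
    have hopen : IsOpen (rk ⁻¹' {n}) := hlc.isOpen_fiber n
    obtain ⟨V, hV, hxV, hVW⟩ := exists_isAffineOpen_mem_and_subset (x := x)
      (U := ⟨rk ⁻¹' {n}, hopen⟩) rfl
    have hconst : ∀ y : X, y ∈ V → rk y = n := fun y hy => hVW hy
    obtain ⟨h1, h0⟩ := fitt_of_const' M hfree hV n hconst
    have hnot : ¬ Fitt.ideal Γ(X, V) Γ(M, V) n ≤ (hV.primeIdealOf ⟨x, hxV⟩).asIdeal := by
      rw [h1]
      intro hle
      exact (hV.primeIdealOf ⟨x, hxV⟩).isPrime.ne_top (top_le_iff.mp hle)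
    obtain ⟨d, hxd, g, hg⟩ := Groth.Agent.Helper19.FittSheaf.exists_basicOpen_span M n
      ⟨V, hV⟩ hxV hnot
    have hD : IsAffineOpen (X.basicOpen d) := hV.basicOpen d
    have hconst' : ∀ y : X, y ∈ X.basicOpen d → rk y = n :=
      fun y hy => hconst y (X.basicOpen_le d hy)
    obtain ⟨-, h0'⟩ := fitt_of_const' M hfree hD n hconst'
    have hli := Groth.Agent.Helper19.FittLib.linearIndependent_of_ideal_eq_bot g hg h0'
    let b : Module.Basis (Fin n) Γ(X, X.basicOpen d) Γ(M, X.basicOpen d) :=
      Module.Basis.mk hli (by rw [hg])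
    exact ⟨X.basicOpen d, n, hD, hxd, ⟨b.repr⟩⟩

end Groth.Agent.S9825
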