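import Groth.Statements.S9826
-- import your own Groth.Agent.* helpers here
import Groth.Agent.Lib.Helper29.QCohGen

set_option autoImplicit false
universe u
open CategoryTheory CategoryTheory.Limits AlgebraicGeometry TopologicalSpace Opposite
open Props

namespace Groth.Agent.S9826

/-- The sheaf associated to a module over a ring is of finite type on the spectrum if and only if the
module is finitely generated. -/
theorem result (R : CommRingCat.{u}) (M : ModuleCat.{u} R) :
    CohB1.IsFT (tilde M) ↔ Module.Finite R M := by
  constructor
  · intro h
    have hq : (tilde M).IsFiniteType := h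
    have hfin : Module.Finite Γ(Spec R, ⊤) Γ(tilde M, ⊤) :=
      Groth.Agent.Lib.Helper29.QCoh.module_finite_of_isFiniteType (tilde M)
        (isAffineOpen_top (Spec R))
    have hRA : Module.Finite R Γ(Spec R, ⊤) := by
      apply Module.Finite.of_surjective (Algebra.linearMap R Γ(Spec R, ⊤))
      have : Function.Bijective (Scheme.ΓSpecIso R).inv.hom :=
        ConcreteCategory.bijective_of_isIso (Scheme.ΓSpecIso R).inv
      exact this.surjective
    have h3 : Module.Finite R Γ(tilde M, ⊤) := Module.Finite.trans Γ(Spec R, ⊤) _
    have h4 : Module.Finite R ((modulesSpecToSheaf.obj (tilde M)).presheaf.obj (op ⊤)) := h3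
    exact Module.Finite.equiv (tilde.isoTop M).symm.toLinearEquiv
  · intro h
    obtain ⟨s, hs⟩ := h.fg_top
    let P := presentationTilde M (s : Set M) hs
      ((LinearMap.ker (Finsupp.linearCombination R (fun x : (s : Set M) => (x : M))) :
        Submodule R ((s : Set M) →₀ R)) : Set ((s : Set M) →₀ R))
      (Submodule.span_eq _)
    have : Finite P.generators.I := inferInstanceAs (Finite (s : Set M))
    exact Groth.Agent.Lib.Helper29.QCoh.isFiniteType_of_generatingSections (tilde M) P.generators

end Groth.Agent.S9826
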