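import Groth.Statements.S9827
-- import your own Groth.Agent.* helpers here
import Groth.Agent.Lib.Helper29.QCohFP2

set_option autoImplicit false
universe u
open CategoryTheory CategoryTheory.Limits AlgebraicGeometry TopologicalSpace Opposite
open Props

namespace Groth.Agent.S9827

/-- The sheaf associated to a module over a ring is of finite presentation on the spectrum if and only
if the module is finitely presented. -/
theorem result (R : CommRingCat.{u}) (M : ModuleCat.{u} R) :
    CohB1.IsFP (tilde M) ↔ Module.FinitePresentation R M := by
  open Groth.Agent.Lib.Helper29.QCoh in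
  constructor
  · intro h
    have hq : (tilde M).IsFinitePresentation := h
    have hfp : Module.FinitePresentation Γ(Spec R, ⊤) Γ(tilde M, ⊤) :=
      module_finitePresentation_of_isFinitePresentation (tilde M) (isAffineOpen_top (Spec R))
    have hbij : Function.Bijective (Scheme.ΓSpecIso R).inv.hom :=
      ConcreteCategory.bijective_of_isIso (Scheme.ΓSpecIso R).inv
    have hRA : Module.FinitePresentation R Γ(Spec R, ⊤) := by
      let e : R ≃ₗ[R] Γ(Spec R, ⊤) :=
        LinearEquiv.ofBijective (Algebra.linearMap R Γ(Spec R, ⊤)) hbij
      exact Module.FinitePresentation.of_equiv e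
    have h3 : Module.FinitePresentation R Γ(tilde M, ⊤) :=
      Module.FinitePresentation.trans R Γ(tilde M, ⊤) Γ(Spec R, ⊤)
    have h4 : Module.FinitePresentation R
        ((modulesSpecToSheaf.obj (tilde M)).presheaf.obj (op ⊤)) := h3
    exact Module.FinitePresentation.of_equiv (tilde.isoTop M).symm.toLinearEquiv
  · intro h
    have h4 : Module.FinitePresentation R
        ((modulesSpecToSheaf.obj (tilde M)).presheaf.obj (op ⊤)) :=
      Module.FinitePresentation.of_equiv (tilde.isoTop M).toLinearEquiv
    obtain ⟨P, hP⟩ := exists_presentation_isFinite_spec (tilde M) h4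
    have hq : SheafOfModules.QuasicoherentData.IsFinitePresentation.{u,u,u,u}
        (P.quasicoherentData) := by
      constructor
      intro x
      exact ⟨⟨inferInstanceAs (Finite P.generators.I)⟩,
        ⟨inferInstanceAs (Finite P.relations.I)⟩⟩
    have h2 : ∃ σ : SheafOfModules.QuasicoherentData.{u,u,u,u} (tilde M),
        σ.IsFinitePresentation := ⟨P.quasicoherentData, hq⟩
    exact @SheafOfModules.IsFinitePresentation.mk.{u,u,u} _ _ _ (Spec R).ringCatSheaf _ _
      (tilde M) h2

end Groth.Agent.S9827
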