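import Groth.Statements.S9830
import Mathlib.AlgebraicGeometry.ValuativeCriterion

set_option autoImplicit false
universe u
open CategoryTheory AlgebraicGeometry TopologicalSpace
open Props

namespace Groth.Agent.S9830

/-- A scheme whose underlying space is Hausdorff is separated. (The published statement assumes X of
dimension zero; a Hausdorff scheme always has dimension at most zero, so this row omits that
hypothesis.) -/
theorem result (X : Scheme.{u}) [T2Space X] : X.IsSeparated := by
  have hqs : QuasiSeparatedSpace X := ⟨fun U V _ hU _ hV => hU.inter hV⟩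
  have : QuasiSeparated (Limits.terminal.from X) :=
    (quasiSeparatedSpace_iff_quasiSeparated X).mp hqs
  refine ⟨IsSeparated.of_valuativeCriterion _ ?_⟩
  intro S
  constructor
  rintro ⟨l₁, hl₁, hl₁'⟩ ⟨l₂, hl₂, hl₂'⟩
  suffices h : l₁ = l₂ by subst h; rfl
  let ι : Spec (.of S.K) ⟶ Spec (.of S.R) := Spec.map (CommRingCat.ofHom (algebraMap S.R S.K))
  have hdom : IsDominant ι := by
    constructor
    change DenseRange (PrimeSpectrum.comap (algebraMap S.R S.K))
    rw [PrimeSpectrum.denseRange_comap_iff_ker_le_nilRadical,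
      (RingHom.injective_iff_ker_eq_bot _).mp (FaithfulSMul.algebraMap_injective S.R S.K)]
    exact bot_le
  -- the generic point
  let η : Spec (.of S.K) := ⟨⊥, Ideal.isPrime_bot⟩
  let x : X := S.i₁ η
  have hgen : ∀ r : Spec (.of S.R), ι η ⤳ r := by
    intro r
    refine (PrimeSpectrum.le_iff_specializes (R := S.R) (ι η) r).mp ?_
    change (Ideal.comap (algebraMap S.R S.K) ⊥) ≤ r.asIdeal
    rw [← RingHom.ker_eq_comap_bot,
      (RingHom.injective_iff_ker_eq_bot _).mp (FaithfulSMul.algebraMap_injective S.R S.K)]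
    exact bot_le
  have hconst : ∀ (l : Spec (.of S.R) ⟶ X), ι ≫ l = S.i₁ → ∀ r, l r = x := by
    intro l hl r
    have h1 : l (ι η) ⤳ l r := (hgen r).map l.continuous
    have h2 : l (ι η) = x := by
      rw [← Scheme.Hom.comp_apply, hl]
    rw [h2] at h1
    exact h1.eq.symm
  obtain ⟨U, hU, hxU, -⟩ := exists_isAffineOpen_mem_and_subset (x := x) (U := ⊤) trivial
  have hr₁ : Set.range l₁ ⊆ Set.range U.ι := by
    rintro _ ⟨r, rfl⟩
    rw [Scheme.Opens.range_ι, hconst l₁ hl₁ r]
    exact hxU
  have hr₂ : Set.range l₂ ⊆ Set.range U.ι := by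
    rintro _ ⟨r, rfl⟩
    rw [Scheme.Opens.range_ι, hconst l₂ hl₂ r]
    exact hxU
  have : IsAffine U.toScheme := hU
  have hred : IsReduced (Spec (.of S.R)) := inferInstance
  have hlift : IsOpenImmersion.lift U.ι l₁ hr₁ = IsOpenImmersion.lift U.ι l₂ hr₂ := by
    refine ext_of_isDominant ι ?_
    rw [← cancel_mono U.ι]
    simp only [Category.assoc, IsOpenImmersion.lift_fac]
    rw [hl₁, hl₂]
  rw [← IsOpenImmersion.lift_fac U.ι l₁ hr₁, ← IsOpenImmersion.lift_fac U.ι l₂ hr₂, hlift]

end Groth.Agent.S9830
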