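import Groth.Statements.S9832
import Groth.Agent.Lib.Helper5.LocallyClosedPoint
import Mathlib.Topology.JacobsonSpace
import Mathlib.RingTheory.Spectrum.Prime.Noetherian
import Mathlib.Topology.LocallyClosed

set_option autoImplicit false
universe u
open Props

namespace Groth.Agent.S9832

/-- For a Noetherian ring R and an ideal I inside the Jacobson radical of R, the complement of V(I) in
Spec R is a Jacobson topological space. -/
theorem result (R : Type u) [CommRing R] [IsNoetherianRing R]
    (I : Ideal R) (hI : I ≤ (⊥ : Ideal R).jacobson) :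
    JacobsonSpace ↥((PrimeSpectrum.zeroLocus (I : Set R))ᶜ) := by
  rw [jacobsonSpace_iff_locallyClosed]
  intro T hT hTlc
  have : Nonempty T := hT.to_subtype
  obtain ⟨t, -, htc⟩ := IsClosed.exists_closed_singleton (X := T) (S := Set.univ) isClosed_univ
    Set.univ_nonempty
  refine ⟨t.1, t.2, ?_⟩
  -- `{q}` is locally closed in `Spec R`
  have h1 : IsLocallyClosed ((Subtype.val : T → _) '' {t}) :=
    htc.isLocallyClosed.image Topology.IsInducing.subtypeVal (by rwa [Subtype.range_coe])
  rw [Set.image_singleton] at h1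
  have h2 : IsLocallyClosed
      ((Subtype.val : ↥((PrimeSpectrum.zeroLocus (I : Set R))ᶜ) → PrimeSpectrum R) '' {t.1}) :=
    h1.image Topology.IsInducing.subtypeVal (by
      rw [Subtype.range_coe]
      exact (PrimeSpectrum.isClosed_zeroLocus _).isOpen_compl.isLocallyClosed)
  rw [Set.image_singleton] at h2
  rw [mem_closedPoints_iff, ← closure_subset_iff_isClosed]
  intro u hu
  have hspec : t.1 ⤳ u := specializes_iff_mem_closure.mpr hu
  rw [subtype_specializes_iff, ← PrimeSpectrum.le_iff_specializes] at hspec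
  by_contra hne
  have hlt : t.1.1 < u.1 := lt_of_le_of_ne hspec (fun h => hne (Subtype.ext h.symm))
  obtain ⟨m, hm, hum⟩ := Ideal.exists_le_maximal u.1.asIdeal u.1.isPrime.ne_top
  have hIm : I ≤ m := hI.trans (by
    rw [Ideal.jacobson]
    exact sInf_le ⟨bot_le, hm⟩)
  have huI : ¬ (I : Set R) ⊆ u.1.asIdeal := fun h => u.2 ((PrimeSpectrum.mem_zeroLocus _ _).mpr h)
  have hlt2 : u.1 < (⟨m, hm.isPrime⟩ : PrimeSpectrum R) := by
    refine lt_of_le_of_ne hum ?_
    intro heq
    apply huI
    rw [heq]
    exact hIm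
  exact Lib.Helper5.PrimeSpectrum.no_chain_of_isLocallyClosed t.1.1 h2 u.1 ⟨m, hm.isPrime⟩ hlt hlt2

end Groth.Agent.S9832
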