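import Groth.Statements.S9834
import Mathlib
import Groth.Agent.Lib.Helper11.Japanese

set_option autoImplicit false
universe u
open CategoryTheory AlgebraicGeometry TopologicalSpace
open Props

namespace Groth.Agent.S9834


open Groth.Agent.Lib.Helper11.Japanese

theorem uj_of_ringEquiv {R T : Type u} [CommRing R] [CommRing T] (e : R ≃+* T)
    (h : CAlg.IsUniversallyJapanese R) : CAlg.IsUniversallyJapanese T := by
  let _ : Algebra R T := e.toRingHom.toAlgebra
  have : Algebra.FiniteType R T :=
    Algebra.FiniteType.of_surjective (Algebra.ofId R T) (fun x => ⟨e.symm x, e.apply_symm_apply x⟩)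
  exact isUniversallyJapanese_of_essFiniteType R h T

/-- If a scheme has an affine open covering by spectra of universally Japanese rings, then the
coordinate ring of every affine open is universally Japanese. -/
theorem result (X : Scheme.{u}) {ι : Type u} (U : ι → X.Opens)
    (hU : iSup U = ⊤) (haff : ∀ i, IsAffineOpen (U i)) (hJ : ∀ i, CAlg.IsUniversallyJapanese Γ(X, U i))
    (V : X.Opens) (hV : IsAffineOpen V) : CAlg.IsUniversallyJapanese Γ(X, V) := by
  let P : X.affineOpens → Prop := fun W => CAlg.IsUniversallyJapanese Γ(X, W)
  refine of_affine_open_cover (P := P) (fun i => ⟨U i, haff i⟩) hU ⟨V, hV⟩ ?_ ?_ hJ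
  · intro W f hW
    have hloc : IsLocalization.Away f Γ(X, X.basicOpen f) := W.2.isLocalization_basicOpen f
    have : Algebra.EssFiniteType Γ(X, W) Γ(X, X.basicOpen f) :=
      Algebra.EssFiniteType.of_isLocalization _ (Submonoid.powers f)
    exact isUniversallyJapanese_of_essFiniteType Γ(X, W) hW Γ(X, X.basicOpen f)
  · intro W s hs hP
    refine isUniversallyJapanese_of_span Γ(X, W) (ι := s) (fun i => i.1) ?_ ?_
    · rw [Subtype.range_coe_subtype]
      exact hs
    · intro i
      have hloc : IsLocalization.Away i.1 Γ(X, X.basicOpen i.1) := W.2.isLocalization_basicOpen i.1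
      let e : Γ(X, X.basicOpen i.1) ≃+* Localization.Away i.1 :=
        (IsLocalization.algEquiv (Submonoid.powers i.1) Γ(X, X.basicOpen i.1)
          (Localization.Away i.1)).toRingEquiv
      exact uj_of_ringEquiv e (hP i)

end Groth.Agent.S9834
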