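import Groth.Statements.S9839
import Groth.Agent.Lib.Helper5.FpqcSubmersive
import Mathlib.AlgebraicGeometry.PullbackCarrier

set_option autoImplicit false
open CategoryTheory CategoryTheory.Limits AlgebraicGeometry Opposite
universe u
open Desc

namespace Groth.Agent.S9839

/-- Let f i : T i ⟶ T be an fpqc covering family of a scheme T (a family in the fpqc precoverage) and W
i ⊆ T i open subsets such that for all i, j the inverse images of W i and W j under the two
projections of T i ×_T T j coincide. Then there is a unique open subset W ⊆ T with (f i)⁻¹(W) = W i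
for every i. -/
theorem result {ι : Type u} {T : Scheme.{u}} {Ti : ι → Scheme.{u}}
    (f : ∀ i, Ti i ⟶ T) (hf : Presieve.ofArrows Ti f ∈ Scheme.fpqcPrecoverage T)
    (W : ∀ i, (Ti i).Opens)
    (hW : ∀ i j, (pullback.fst (f i) (f j)) ⁻¹ᵁ (W i) = (pullback.snd (f i) (f j)) ⁻¹ᵁ (W j)) :
    ∃! V : T.Opens, ∀ i, (f i) ⁻¹ᵁ V = W i := by
  have hqc : Presieve.ofArrows Ti f ∈ Scheme.qcPrecoverage T := hf.1
  have hfl : Presieve.ofArrows Ti f ∈ Scheme.precoverage @Flat T := hf.2
  rw [Scheme.ofArrows_mem_precoverage_iff] at hfl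
  obtain ⟨hsurj, hflat⟩ := hfl
  let E : PreZeroHypercover.{u} T := ⟨ι, Ti, f⟩
  have hE : QuasiCompactCover E := Scheme.presieve₀_mem_qcPrecoverage_iff.mp hqc
  have key : ∀ j, (f j) ⁻¹' (⋃ i, (f i) '' (W i : Set (Ti i))) = (W j : Set (Ti j)) := by
    intro j
    ext t
    simp only [Set.mem_preimage, Set.mem_iUnion, Set.mem_image, SetLike.mem_coe]
    constructor
    · rintro ⟨i, w, hw, hwt⟩
      obtain ⟨z, hz1, hz2⟩ :=
        Scheme.Pullback.exists_preimage_pullback (f := f j) (g := f i) t w hwt.symm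
      have h1 : z ∈ (pullback.snd (f j) (f i)) ⁻¹ᵁ (W i) := by
        change pullback.snd (f j) (f i) z ∈ W i
        rw [hz2]; exact hw
      rw [← hW j i] at h1
      have h2 : pullback.fst (f j) (f i) z ∈ W j := h1
      rwa [hz1] at h2
    · intro ht
      exact ⟨j, t, ht, rfl⟩
  have hopen : IsOpen (⋃ i, (f i) '' (W i : Set (Ti i))) := by
    refine Lib.Helper5.isOpen_of_forall_isOpen_preimage_of_quasiCompactCover E hflat _ ?_
    intro j
    change IsOpen ((f j) ⁻¹' _)
    rw [key j]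
    exact (W j).isOpen
  refine ⟨⟨_, hopen⟩, fun i => ?_, fun V' hV' => ?_⟩
  · ext t
    exact Set.ext_iff.mp (key i) t
  · ext y
    obtain ⟨i, t, rfl⟩ := hsurj y
    have h1 : f i t ∈ V' ↔ t ∈ W i := by
      rw [← hV' i]; rfl
    have h2 : f i t ∈ (⋃ i, (f i) '' (W i : Set (Ti i))) ↔ t ∈ W i :=
      Set.ext_iff.mp (key i) t
    exact h1.trans h2.symm

end Groth.Agent.S9839
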