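import Groth.Statements.S9842
import Groth.Agent.Lib.Helper5.DominantBaseChange
import Mathlib.AlgebraicGeometry.Morphisms.UniversallyOpen

set_option autoImplicit false
open CategoryTheory CategoryTheory.Limits AlgebraicGeometry Opposite
universe u
open Desc

namespace Groth.Agent.S9842

/-- Let E/k be a field extension, Y a scheme over k and f : X ⟶ Y a morphism. Writing Y_E = Y ×_k Spec
E, the morphism f is dominant if and only if its base change X ×_Y Y_E ⟶ Y_E is dominant. -/
theorem result {k E : Type u} [Field k] [Field E] [Algebra k E]
    {X Y : Scheme.{u}} (f : X ⟶ Y) (q : Y ⟶ Spec (.of k)) :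
    IsDominant f ↔
      IsDominant (pullback.snd f (pullback.fst q (Spec.map (CommRingCat.ofHom (algebraMap k E))))) := by
  let s : Spec (.of E) ⟶ Spec (.of k) := Spec.map (CommRingCat.ofHom (algebraMap k E))
  have : Subsingleton (Spec (.of k)) := inferInstanceAs (Subsingleton (PrimeSpectrum k))
  have hs : UniversallyOpen s := inferInstance
  have hsurj : Surjective s := by
    refine ⟨fun x => ?_⟩
    have : Nonempty (Spec (.of E)) := inferInstanceAs (Nonempty (PrimeSpectrum E))
    exact ⟨Classical.arbitrary _, Subsingleton.elim _ _⟩
  have hg : UniversallyOpen (pullback.fst q s) := inferInstance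
  have hgs : Surjective (pullback.fst q s) := inferInstance
  constructor
  · intro hf
    exact Lib.Helper5.isDominant_pullback_snd_of_isOpenMap f _ (pullback.fst q s).isOpenMap
  · intro h
    exact Lib.Helper5.isDominant_of_pullback_snd_of_surjective f (pullback.fst q s)
      (pullback.fst q s).surjective

end Groth.Agent.S9842
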