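import Groth.Statements.S9843
import Groth.Agent.Lib.Helper5.DominantBaseChange
import Mathlib.AlgebraicGeometry.Morphisms.UniversallyOpen
import Mathlib.AlgebraicGeometry.Sites.Fpqc
import Mathlib.AlgebraicGeometry.Cover.MorphismProperty

set_option autoImplicit false
open CategoryTheory CategoryTheory.Limits AlgebraicGeometry Opposite
universe u
open Desc

namespace Groth.Agent.S9843

/-- Being dominant is fppf local on the base: for every fppf covering family Y i ⟶ Y (flat, locally of
finite presentation, jointly surjective), a morphism X ⟶ Y is dominant if and only if all its base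
changes X ×_Y Y i ⟶ Y i are. -/
theorem result :
    MorphismProperty.IsLocalAtTarget (@IsDominant : MorphismProperty Scheme.{u}) Scheme.fppfPrecoverage := by
  refine MorphismProperty.IsLocalAtTarget.mk_of_iff_of_zeroHypercover fun {X Y} f 𝒰 => ?_
  have hmem : 𝒰.presieve₀ ∈ Scheme.precoverage (@Flat ⊓ @LocallyOfFinitePresentation) Y := 𝒰.mem₀
  rw [Scheme.presieve₀_mem_precoverage_iff] at hmem
  obtain ⟨hsurj, hprop⟩ := hmem
  constructor
  · intro hf i
    have h1 : Flat (𝒰.f i) := (hprop i).1
    have h2 : LocallyOfFinitePresentation (𝒰.f i) := (hprop i).2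
    exact Lib.Helper5.isDominant_pullback_snd_of_isOpenMap f _ (𝒰.f i).isOpenMap
  · intro h
    exact Lib.Helper5.isDominant_of_forall_pullback_snd f 𝒰.f hsurj h

end Groth.Agent.S9843
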