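import Groth.Statements.S9845
import Mathlib.AlgebraicGeometry.Morphisms.UniversallyOpen
import Mathlib.AlgebraicGeometry.Sites.Fpqc
import Mathlib.AlgebraicGeometry.Cover.MorphismProperty

set_option autoImplicit false
open CategoryTheory CategoryTheory.Limits AlgebraicGeometry Opposite
universe u
open Desc

namespace Groth.Agent.S9845

theorem isLocalAtSource_isOpenMap_fppf :
    MorphismProperty.IsLocalAtSource (topologically IsOpenMap : MorphismProperty Scheme.{u})
      Scheme.fppfPrecoverage := by
  refine MorphismProperty.IsLocalAtSource.mk_of_iff_of_zeroHypercover fun {X Y} f 𝒰 => ?_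
  have hmem : 𝒰.presieve₀ ∈ Scheme.precoverage (@Flat ⊓ @LocallyOfFinitePresentation) X := 𝒰.mem₀
  rw [Scheme.presieve₀_mem_precoverage_iff] at hmem
  obtain ⟨hsurj, hprop⟩ := hmem
  constructor
  · intro hf i
    have h1 : Flat (𝒰.f i) := (hprop i).1
    have h2 : LocallyOfFinitePresentation (𝒰.f i) := (hprop i).2
    exact IsOpenMap.comp (g := f) (f := 𝒰.f i) hf (𝒰.f i).isOpenMap
  · intro h W hW
    have : f '' W = ⋃ i, (𝒰.f i ≫ f) '' ((𝒰.f i) ⁻¹' W) := by
      ext y
      simp only [Set.mem_image, Set.mem_iUnion, Set.mem_preimage]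
      constructor
      · rintro ⟨x, hxW, rfl⟩
        obtain ⟨i, z, rfl⟩ := hsurj x
        exact ⟨i, z, hxW, by simp⟩
      · rintro ⟨i, z, hzW, rfl⟩
        exact ⟨𝒰.f i z, hzW, by simp⟩
    rw [this]
    exact isOpen_iUnion fun i => h i _ (hW.preimage (𝒰.f i).continuous)

/-- Being an open morphism (open underlying map) is fppf local on the source: for every fppf covering
family g i : X i ⟶ X, a morphism f : X ⟶ Y has open underlying map if and only if every composite g
i ≫ f does. -/
theorem result :
    MorphismProperty.IsLocalAtSource (topologically (fun f => IsOpenMap f) : MorphismProperty Scheme.{u})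
      Scheme.fppfPrecoverage := by
  exact isLocalAtSource_isOpenMap_fppf

end Groth.Agent.S9845
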