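import Groth.Statements.S9848
import Mathlib
import Groth.Agent.Lib.Helper16.SyntMor2
import Groth.Agent.S9287

set_option autoImplicit false
open CategoryTheory CategoryTheory.Limits AlgebraicGeometry Opposite
universe u
open Desc

namespace Groth.Agent.S9848

section helpers
open CategoryTheory CategoryTheory.Limits AlgebraicGeometry Opposite
open Desc

open CategoryTheory AlgebraicGeometry

theorem result_aux {X Y Y' : Scheme.{u}} (f : X ⟶ Y) (g : Y' ⟶ Y)
    [Flat g] [Surjective g] [QuasiCompact g] (h : Synt.IsSyntomicMor (pullback.snd f g)) :
    Synt.IsSyntomicMor f := by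
  exact Groth.Agent.Lib.Helper16.SyntMor.isSyntomicMor_of_pullback_snd
    (fun R T _ _ _ h => ((Groth.Agent.S9287.result R T).mp h).2) f g h

end helpers

/-- Being syntomic is fpqc local on the base; the descent direction, stated for a single flat surjective
quasi-compact base change g : Y' ⟶ Y: if the base change X ×_Y Y' ⟶ Y' of f : X ⟶ Y is syntomic,
then f is syntomic. (With Zariski-locality on the target this gives the statement for arbitrary fpqc
coverings; stability of syntomic morphisms under base change is the other direction.) -/
theorem result {X Y Y' : Scheme.{u}} (f : X ⟶ Y) (g : Y' ⟶ Y)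
    [Flat g] [Surjective g] [QuasiCompact g] (h : Synt.IsSyntomicMor (pullback.snd f g)) :
    Synt.IsSyntomicMor f := by
  exact result_aux f g h

end Groth.Agent.S9848
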