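import Groth.Statements.S9855
import Groth.Agent.Lib.Helper24.DescE10

set_option autoImplicit false
open CategoryTheory CategoryTheory.Limits AlgebraicGeometry Opposite
universe u
open Desc

namespace Groth.Agent.S9855

open CategoryTheory CategoryTheory.Limits AlgebraicGeometry Opposite
open Desc

lemma eqToHom_comp_v {κ : Type u} {S : Scheme.{u}} {V : κ → Scheme.{u}} (v : ∀ j, V j ⟶ S)
    {j j' : κ} (h : j = j') : eqToHom (congrArg V h) ≫ v j' = v j := by
  subst h
  simp

theorem exists_charts {ι κ : Type u} {S : Scheme.{u}} {U : ι → Scheme.{u}} {V : κ → Scheme.{u}}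
    (u : ∀ i, U i ⟶ S) (v : ∀ j, V j ⟶ S) (α : ι → κ) (g : ∀ i, U i ⟶ V (α i))
    (w : ∀ i, g i ≫ v (α i) = u i)
    (hcov : ∀ j, Presieve.ofArrows (fun i : {i // α i = j} => U i.1)
      (fun i => g i.1 ≫ eqToHom (congrArg V i.2)) ∈ Scheme.zariskiPrecoverage (V j))
    (D' : SchDDFam u) (j : κ) :
    ∃ N : Over (V j), Nonempty (Groth.Agent.Lib.Helper24.DescE.Chart
      (Groth.Agent.Lib.Helper24.DescE.pre D') (v j ≫ 𝟙 S) N) := by
  have hc := hcov j
  rw [Scheme.ofArrows_mem_precoverage_iff] at hc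
  obtain ⟨hsurj, himm⟩ := hc
  obtain ⟨N, chN, -⟩ := Groth.Agent.Lib.Helper24.DescE.exists_chart_of_locally
    (Groth.Agent.Lib.Helper24.DescE.E D') (v j ≫ 𝟙 S) (fun _ _ => True) (fun x => by
      obtain ⟨i, hi⟩ := hsurj x
      have := himm i
      let gi : U i.1 ⟶ V j := g i.1 ≫ eqToHom (congrArg V i.2)
      have hgi : gi ≫ v j = u i.1 := by
        simp only [gi]
        rw [Category.assoc, eqToHom_comp_v v i.2, w]
      let O' : (V j).Opens := gi.opensRange
      let e : U i.1 ≅ (O' : Scheme.{u}) := gi.isoOpensRange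
      have he : e.inv ≫ gi = O'.ι := gi.isoOpensRange_inv_comp
      refine ⟨O', hi, _, ((Groth.Agent.Lib.Helper24.DescE.chartOfDD D' i.1).pullback e.inv).cast ?_,
        trivial⟩
      rw [← hgi, ← Category.assoc, he, Category.comp_id])
  exact ⟨N, ⟨chN⟩⟩


/-- Let u i : U i ⟶ S and v j : V j ⟶ S be two families of morphisms with target S and (α, g) a morphism
of families over the identity of S, i.e. g i : U i ⟶ V (α i) with g i ≫ v (α i) = u i. Assume that
for every index j the family of those g i with α i = j is a Zariski covering of V j (jointly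
surjective open immersions). Then the pullback functor from descent data for schemes relative to (v
j) to descent data relative to (u i) is an equivalence of categories. -/
theorem result {ι κ : Type u} {S : Scheme.{u}} {U : ι → Scheme.{u}} {V : κ → Scheme.{u}}
    (u : ∀ i, U i ⟶ S) (v : ∀ j, V j ⟶ S) (α : ι → κ) (g : ∀ i, U i ⟶ V (α i)) (w : ∀ i, g i ≫ v (α i) = u i)
    (hcov : ∀ j, Presieve.ofArrows (fun i : {i // α i = j} => U i.1)
      (fun i => g i.1 ≫ eqToHom (congrArg V i.2)) ∈ Scheme.zariskiPrecoverage (V j)) :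
    (Desc.pullDDFam (f := v) (f' := u) (α := α) (p := 𝟙 S) (p' := g) (fun i => (w i).trans (Category.comp_id (u i)).symm)).IsEquivalence := by
  have H : ∀ j, Groth.Agent.Lib.Helper20.DescFamFF.covSieve u v j ∈ Scheme.fpqcTopology (V j) :=
    fun j => Groth.Agent.Lib.Helper20.DescFamFF.covSieve_mem_of_refinement α g w j
      (Scheme.zariskiPrecoverage_le_fpqcPrecoverage _ (hcov j))
  obtain ⟨hfull, hfaith⟩ := Groth.Agent.Lib.Helper20.DescFamFF.full_and_faithful
    (fun i => (w i).trans (Category.comp_id (u i)).symm) H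
  refine { faithful := hfaith, full := hfull, essSurj := ⟨fun D' => ?_⟩ }
  choose N hN using exists_charts u v α g w hcov D'
  have c : ∀ j, Groth.Agent.Lib.Helper24.DescE.Chart
      (Groth.Agent.Lib.Helper24.DescE.pre D') (v j ≫ 𝟙 S) (N j) := fun j => (hN j).some
  obtain ⟨e⟩ := Groth.Agent.Lib.Helper24.DescE.nonempty_pull_iso
    (fun i => (w i).trans (Category.comp_id (u i)).symm) D' N c
  exact ⟨_, ⟨e⟩⟩

end Groth.Agent.S9855
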