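import Groth.Statements.S9852
import Mathlib

set_option autoImplicit false
open CategoryTheory CategoryTheory.Limits AlgebraicGeometry Opposite
universe u
open Desc

namespace Groth.Agent.S9852


/-- Let g : X ⟶ X' be a morphism of schemes over S, with structure morphisms a : X ⟶ S and a' : X' ⟶ S,
and assume a is surjective and flat. Then the pullback functor along g, from descent data for
schemes relative to X' ⟶ S to descent data relative to X ⟶ S, is faithful. (Descent data relative to
a single morphism are written as descent data relative to the corresponding one-member family.) -/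
theorem result {X X' S : Scheme.{u}} (a : X ⟶ S) (a' : X' ⟶ S) (g : X ⟶ X')
    (h : g ≫ a' = a) [Surjective a] [Flat a] :
    (Desc.pullDDFam (f := fun _ : PUnit.{u + 1} => a') (f' := fun _ : PUnit.{u + 1} => a) (α := fun j => j)
        (p := 𝟙 S) (p' := fun _ => g) (fun _ => (h).trans (Category.comp_id a).symm)).Faithful := by
  refine ⟨fun {D D'} φ ψ hφψ => ?_⟩
  apply Desc.SchDDFam.hom_ext
  funext i
  ext1
  have h1 : pullback.fst (D.obj i).hom g ≫ (φ.hom i).left =
      pullback.fst (D.obj i).hom g ≫ (ψ.hom i).left := by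
    have := congrArg (fun m => (Desc.SchDDFam.Hom.hom m i).left ≫
      pullback.fst (D'.obj i).hom g) hφψ
    simp only [pullDDFam] at this
    have e1 : ∀ (m : D ⟶ D'), pullback.map (D.obj i).hom g (D'.obj i).hom g (m.hom i).left (𝟙 X) (𝟙 X')
        (by simp [Over.w]) (by simp) ≫ pullback.fst (D'.obj i).hom g =
        pullback.fst (D.obj i).hom g ≫ (m.hom i).left := fun m => pullback.lift_fst _ _ _
    rw [← e1 φ, ← e1 ψ]
    exact this
  let T := pullback ((D.obj i).hom ≫ a') a
  let v : T ⟶ (D.obj i).left := pullback.fst _ _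
  let x : T ⟶ X := pullback.snd _ _
  have : Epi v := Flat.epi_of_flat_of_surjective _
  rw [← cancel_epi v]
  have hx : (v ≫ (D.obj i).hom) ≫ a' = (x ≫ g) ≫ a' := by
    rw [Category.assoc, pullback.condition, Category.assoc, h]
  let v0 : Lifts (D.obj i) (v ≫ (D.obj i).hom) := ⟨v, rfl⟩
  let v1 := D.φ (i := i) (j := i) (v ≫ (D.obj i).hom) (x ≫ g) hx v0
  have hv1 : v1.1 ≫ (φ.hom i).left = v1.1 ≫ (ψ.hom i).left := by
    have e : v1.1 = pullback.lift v1.1 x v1.2 ≫ pullback.fst (D.obj i).hom g :=
      (pullback.lift_fst _ _ _).symm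
    rw [e, Category.assoc, Category.assoc, h1]
  let wφ : Lifts (D'.obj i) (v ≫ (D.obj i).hom) :=
    ⟨v ≫ (φ.hom i).left, by rw [Category.assoc, Over.w]⟩
  let wψ : Lifts (D'.obj i) (v ≫ (D.obj i).hom) :=
    ⟨v ≫ (ψ.hom i).left, by rw [Category.assoc, Over.w]⟩
  have cφ := φ.comm (i := i) (j := i) (v ≫ (D.obj i).hom) (x ≫ g) hx v0 wφ rfl
  have cψ := ψ.comm (i := i) (j := i) (v ≫ (D.obj i).hom) (x ≫ g) hx v0 wψ rfl
  have e2 : D'.φ (i := i) (j := i) _ _ hx wφ = D'.φ (i := i) (j := i) _ _ hx wψ :=
    Subtype.ext (by rw [cφ, cψ]; exact hv1)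
  have e3 := (D'.φ (i := i) (j := i) _ _ hx).injective e2
  exact congrArg Subtype.val e3

end Groth.Agent.S9852
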