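import Groth.Statements.S9859
import Mathlib.AlgebraicGeometry.Morphisms.UniversallyOpen
import Mathlib.AlgebraicGeometry.Morphisms.FinitePresentation
import Mathlib.AlgebraicGeometry.Sites.Fpqc
import Mathlib.AlgebraicGeometry.Cover.MorphismProperty

set_option autoImplicit false
open CategoryTheory CategoryTheory.Limits AlgebraicGeometry Opposite
universe u
open Desc

namespace Groth.Agent.S9859

theorem pullback_snd_restrict_iff (P : MorphismProperty Scheme.{u}) [P.RespectsIso]
    {X Y Z : Scheme.{u}} (f : X ⟶ Y) (W : Y.Opens) (h : Z ⟶ W.toScheme) :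
    P (pullback.snd (f ∣_ W) h) ↔ P (pullback.snd f (h ≫ W.ι)) := by
  have hpb : IsPullback (pullback.fst (f ∣_ W) h ≫ (f ⁻¹ᵁ W).ι) (pullback.snd (f ∣_ W) h) f
      (h ≫ W.ι) :=
    (IsPullback.of_hasPullback (f ∣_ W) h).paste_horiz (isPullback_morphismRestrict f W).flip
  rw [← hpb.isoPullback_hom_snd, P.cancel_left_of_respectsIso]

theorem restrict_pullback_snd_iff (P : MorphismProperty Scheme.{u}) [P.RespectsIso]
    {X Y Y' : Scheme.{u}} (f : X ⟶ Y) (g : Y' ⟶ Y) (U' : Y'.Opens) :
    P ((pullback.snd f g) ∣_ U') ↔ P (pullback.snd f (U'.ι ≫ g)) := by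
  rw [← P.cancel_left_of_respectsIso (pullbackRestrictIsoRestrict (pullback.snd f g) U').hom,
    pullbackRestrictIsoRestrict_hom_morphismRestrict,
    ← pullbackLeftPullbackSndIso_hom_snd, P.cancel_left_of_respectsIso]

theorem pullback_snd_congr (P : MorphismProperty Scheme.{u})
    {X Y Y' : Scheme.{u}} (f : X ⟶ Y) {g₁ g₂ : Y' ⟶ Y} (h : g₁ = g₂) :
    P (pullback.snd f g₁) ↔ P (pullback.snd f g₂) := by
  subst h; rfl

theorem flat_of_comp_ι {Z Y : Scheme.{u}} (W : Y.Opens) (h : Z ⟶ W.toScheme) [Flat (h ≫ W.ι)] :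
    Flat h := by
  have := MorphismProperty.IsStableUnderBaseChange.hasOfPostcompProperty_monomorphisms
    (P := @Flat.{u})
  exact MorphismProperty.of_postcomp (W := @Flat) (W' := MorphismProperty.monomorphisms _)
    h W.ι (MorphismProperty.monomorphisms.infer_property _) inferInstance

theorem lfp_of_comp_ι {Z Y : Scheme.{u}} (W : Y.Opens) (h : Z ⟶ W.toScheme)
    [LocallyOfFinitePresentation (h ≫ W.ι)] : LocallyOfFinitePresentation h := by
  have := MorphismProperty.IsStableUnderBaseChange.hasOfPostcompProperty_monomorphisms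
    (P := @LocallyOfFinitePresentation.{u})
  exact MorphismProperty.of_postcomp (W := @LocallyOfFinitePresentation)
    (W' := MorphismProperty.monomorphisms _)
    h W.ι (MorphismProperty.monomorphisms.infer_property _) inferInstance

/-- If the base change of `f` along a flat lfp `g` has `P`, then `f` restricted to the (open)
image of `g` has `P`. -/
theorem restrict_range_of_pullback_snd (P : MorphismProperty Scheme.{u})
    [MorphismProperty.IsLocalAtTarget P Scheme.fppfPrecoverage] {X Y Y' : Scheme.{u}}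
    (f : X ⟶ Y) (g : Y' ⟶ Y) [Flat g] [LocallyOfFinitePresentation g]
    (hP : P (pullback.snd f g)) :
    P (f ∣_ (⟨Set.range g, g.isOpenMap.isOpen_range⟩ : Y.Opens)) := by
  set W₁ : Y.Opens := ⟨Set.range g, g.isOpenMap.isOpen_range⟩ with hW₁
  have hsub : Set.range g ⊆ Set.range W₁.ι := by
    rw [Scheme.Opens.range_ι]; rfl
  let g' : Y' ⟶ W₁.toScheme := IsOpenImmersion.lift W₁.ι g hsub
  have hg' : g' ≫ W₁.ι = g := IsOpenImmersion.lift_fac _ _ _
  have h1 : Flat (g' ≫ W₁.ι) := by rw [hg']; infer_instance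
  have h2 : LocallyOfFinitePresentation (g' ≫ W₁.ι) := by rw [hg']; infer_instance
  have h3 : Flat g' := flat_of_comp_ι W₁ g'
  have h4 : LocallyOfFinitePresentation g' := lfp_of_comp_ι W₁ g'
  have h5 : Surjective g' := by
    refine ⟨fun w => ?_⟩
    obtain ⟨y', hy'⟩ : w.1 ∈ Set.range g := w.2
    refine ⟨y', W₁.ι.isOpenEmbedding.injective ?_⟩
    rw [← Scheme.Hom.comp_apply, hg', hy']
    rfl
  have hR : Presieve.singleton g' ∈ Scheme.fppfPrecoverage W₁.toScheme :=
    Scheme.Hom.singleton_mem_fppfPrecoverage g'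
  refine MorphismProperty.IsLocalAtTarget.of_forall_pullbackSnd hR ?_
  rintro U k _ ⟨⟩
  refine (pullback_snd_restrict_iff P f W₁ g').mpr ?_
  exact (pullback_snd_congr P f hg').mpr hP

/-- Case τ = fppf: let P be a property of morphisms of schemes which is fppf local on the base and f : X
⟶ Y a morphism. There is a largest open W of Y such that the restriction of f over W has P;
moreover, first, if g : Y' ⟶ Y is flat and locally of finite presentation and the base change of f
to Y' has P, then the image of g lies in W; and second, for such g the largest open of Y' over which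
the base change of f has P is exactly g⁻¹(W). -/
theorem result (P : MorphismProperty Scheme.{u})
    [MorphismProperty.IsLocalAtTarget P Scheme.fppfPrecoverage] {X Y : Scheme.{u}} (f : X ⟶ Y) :
    ∃ W : Y.Opens, P (f ∣_ W) ∧ (∀ W₀ : Y.Opens, P (f ∣_ W₀) → W₀ ≤ W) ∧
      (∀ (Y' : Scheme.{u}) (g : Y' ⟶ Y), Flat g → LocallyOfFinitePresentation g →
        P (pullback.snd f g) → Set.range g.base ⊆ (W : Set Y)) ∧
      (∀ (Y' : Scheme.{u}) (g : Y' ⟶ Y), Flat g → LocallyOfFinitePresentation g →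
        ∀ W' : Y'.Opens, P (pullback.snd f g ∣_ W') → (∀ W₀ : Y'.Opens, P (pullback.snd f g ∣_ W₀) → W₀ ≤ W') →
          W' = g ⁻¹ᵁ W) := by
  have hZ : IsZariskiLocalAtTarget P :=
    MorphismProperty.IsLocalAtTarget.of_le Scheme.zariskiPrecoverage_le_fppfPrecoverage
  let W : Y.Opens := sSup {W₀ : Y.Opens | P (f ∣_ W₀)}
  have hmax : ∀ W₀ : Y.Opens, P (f ∣_ W₀) → W₀ ≤ W := fun W₀ h => le_sSup h
  have hPW : P (f ∣_ W) := by
    refine IsZariskiLocalAtTarget.of_forall_exists_morphismRestrict fun x => ?_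
    have hx : x.1 ∈ W := x.2
    obtain ⟨W₀, hW₀, hxW₀⟩ := TopologicalSpace.Opens.mem_sSup.mp hx
    refine ⟨W.ι ⁻¹ᵁ W₀, hxW₀, ?_⟩
    rw [P.arrow_mk_iso_iff (morphismRestrictRestrict f W (W.ι ⁻¹ᵁ W₀))]
    have heq : W.ι ''ᵁ (W.ι ⁻¹ᵁ W₀) = W₀ := by
      rw [Scheme.Hom.image_preimage_eq_opensRange_inf, Scheme.Opens.opensRange_ι]
      exact inf_eq_right.mpr (hmax W₀ hW₀)
    rw [P.arrow_mk_iso_iff (morphismRestrictEq f heq)]
    exact hW₀
  have hthird : ∀ (Y' : Scheme.{u}) (g : Y' ⟶ Y), Flat g → LocallyOfFinitePresentation g →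
      P (pullback.snd f g) → Set.range g.base ⊆ (W : Set Y) := by
    intro Y' g hg1 hg2 hP
    exact hmax _ (restrict_range_of_pullback_snd P f g hP)
  refine ⟨W, hPW, hmax, hthird, ?_⟩
  intro Y' g hg1 hg2 W' hW' hW'max
  apply le_antisymm
  · -- W' ≤ g ⁻¹ᵁ W
    have hP : P (pullback.snd f (W'.ι ≫ g)) := (restrict_pullback_snd_iff P f g W').mp hW'
    have := hthird _ (W'.ι ≫ g) inferInstance inferInstance hP
    intro y' hy'
    exact this ⟨⟨y', hy'⟩, rfl⟩
  · -- g ⁻¹ᵁ W ≤ W'
    apply hW'max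
    refine (restrict_pullback_snd_iff P f g (g ⁻¹ᵁ W)).mpr ?_
    have hcomm : (g ⁻¹ᵁ W).ι ≫ g = (g ∣_ W) ≫ W.ι := (morphismRestrict_ι g W).symm
    refine (pullback_snd_congr P f hcomm).mpr ?_
    refine (pullback_snd_restrict_iff P f W (g ∣_ W)).mp ?_
    -- base change of `f ∣_ W` along the fppf map `g ∣_ W`, completed to a cover by the identity
    let E : PreZeroHypercover.{0} W.toScheme :=
      ⟨Bool, fun b => if b then (g ⁻¹ᵁ W).toScheme else W.toScheme,
        fun b => by
          cases b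
          · exact 𝟙 _
          · exact g ∣_ W⟩
    have hE : E.presieve₀ ∈ Scheme.precoverage (@Flat ⊓ @LocallyOfFinitePresentation)
        W.toScheme := by
      rw [Scheme.presieve₀_mem_precoverage_iff]
      refine ⟨fun x => ⟨false, x, rfl⟩, fun b => ?_⟩
      cases b
      · exact ⟨inferInstanceAs (Flat (𝟙 _)), inferInstanceAs (LocallyOfFinitePresentation (𝟙 _))⟩
      · exact ⟨inferInstanceAs (Flat (g ∣_ W)),
          inferInstanceAs (LocallyOfFinitePresentation (g ∣_ W))⟩
    exact MorphismProperty.IsLocalAtTarget.pullbackSnd (K := Scheme.fppfPrecoverage) hE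
      (Presieve.ofArrows.mk true) hPW

end Groth.Agent.S9859
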