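import Groth.Statements.S9860
import Mathlib.AlgebraicGeometry.Gluing
import Mathlib.AlgebraicGeometry.AffineScheme
import Mathlib.CategoryTheory.Sites.EffectiveEpimorphic

set_option autoImplicit false
open CategoryTheory CategoryTheory.Limits AlgebraicGeometry Opposite
universe u
open Desc

namespace Groth.Agent.S9860

theorem isSheafFor_yoneda_of_affine {Y W : Scheme.{u}} (S : Sieve Y)
    (H : ∀ (V : Scheme.{u}) (k : V ⟶ Y), IsAffine V →
      Presieve.IsSheafFor (yoneda.obj W) (S.pullback k : Presieve V)) :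
    Presieve.IsSheafFor (yoneda.obj W) (S : Presieve Y) := by
  intro x hx
  have hxs := (Presieve.compatible_iff_sieveCompatible x).mp hx
  have hxcongr : ∀ {Z : Scheme.{u}} (f₁ f₂ : Z ⟶ Y) (h₁ : S f₁) (h₂ : S f₂) (_ : f₁ = f₂),
      x f₁ h₁ = x f₂ h₂ := by
    rintro Z f₁ _ h₁ h₂ rfl; rfl
  let 𝒰 := Y.affineCover
  have hxa : ∀ a, (x.pullback (𝒰.f a)).Compatible := fun a => hx.pullback _
  let t : ∀ a, 𝒰.X a ⟶ W := fun a =>
    (H _ (𝒰.f a) inferInstance).amalgamate (x.pullback (𝒰.f a)) (hxa a)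
  have ht : ∀ a {Z : Scheme.{u}} (m : Z ⟶ 𝒰.X a) (hm : S (m ≫ 𝒰.f a)),
      m ≫ t a = x (m ≫ 𝒰.f a) hm := by
    intro a Z m hm
    exact (H _ (𝒰.f a) inferInstance).valid_glue (hxa a) m hm
  have huniq : ∀ (V : Scheme.{u}) (_ : IsAffine V) (k : V ⟶ Y) (u₁ u₂ : V ⟶ W),
      (∀ {Z : Scheme.{u}} (m : Z ⟶ V) (hm : S (m ≫ k)), m ≫ u₁ = x (m ≫ k) hm) →
      (∀ {Z : Scheme.{u}} (m : Z ⟶ V) (hm : S (m ≫ k)), m ≫ u₂ = x (m ≫ k) hm) → u₁ = u₂ :=
    fun V hV k u₁ u₂ h₁ h₂ => (H V k hV).isSeparatedFor (x.pullback k) u₁ u₂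
      (fun Z m hm => h₁ m hm) (fun Z m hm => h₂ m hm)
  have hcompat : ∀ a b, pullback.fst (𝒰.f a) (𝒰.f b) ≫ t a =
      pullback.snd (𝒰.f a) (𝒰.f b) ≫ t b := by
    intro a b
    let 𝒱 := (pullback (𝒰.f a) (𝒰.f b)).affineCover
    refine 𝒱.hom_ext _ _ fun c => ?_
    refine huniq (𝒱.X c) inferInstance (𝒱.f c ≫ pullback.fst _ _ ≫ 𝒰.f a) _ _ ?_ ?_
    · intro Z m hm
      have e : (m ≫ 𝒱.f c ≫ pullback.fst (𝒰.f a) (𝒰.f b)) ≫ 𝒰.f a =
          m ≫ 𝒱.f c ≫ pullback.fst (𝒰.f a) (𝒰.f b) ≫ 𝒰.f a := by simp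
      have hm' : S ((m ≫ 𝒱.f c ≫ pullback.fst (𝒰.f a) (𝒰.f b)) ≫ 𝒰.f a) := by
        rw [e]; exact hm
      have := ht a (m ≫ 𝒱.f c ≫ pullback.fst _ _) hm'
      rw [Category.assoc, Category.assoc] at this
      rw [this]
      exact hxcongr _ _ _ _ e
    · intro Z m hm
      have e : (m ≫ 𝒱.f c ≫ pullback.snd (𝒰.f a) (𝒰.f b)) ≫ 𝒰.f b =
          m ≫ 𝒱.f c ≫ pullback.fst (𝒰.f a) (𝒰.f b) ≫ 𝒰.f a := by
        simp [pullback.condition]
      have hm' : S ((m ≫ 𝒱.f c ≫ pullback.snd (𝒰.f a) (𝒰.f b)) ≫ 𝒰.f b) := by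
        rw [e]; exact hm
      have := ht b (m ≫ 𝒱.f c ≫ pullback.snd _ _) hm'
      rw [Category.assoc, Category.assoc] at this
      rw [this]
      exact hxcongr _ _ _ _ e
  let T : Y ⟶ W := 𝒰.glueMorphisms t hcompat
  have hT : ∀ a, 𝒰.f a ≫ T = t a := 𝒰.ι_glueMorphisms t hcompat
  refine ⟨T, ?_, ?_⟩
  · intro Z h hh
    change h ≫ T = x h hh
    refine Scheme.Cover.hom_ext (𝒰.pullback₁ h) _ _ fun a => ?_
    change pullback.fst h (𝒰.f a) ≫ h ≫ T = pullback.fst h (𝒰.f a) ≫ x h hh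
    have hmem : S (pullback.snd h (𝒰.f a) ≫ 𝒰.f a) := by
      rw [← pullback.condition]; exact S.downward_closed hh _
    rw [pullback.condition_assoc, hT, ht a (pullback.snd h (𝒰.f a)) hmem]
    have := hxs h (pullback.fst h (𝒰.f a)) hh
    change x (pullback.fst h (𝒰.f a) ≫ h) _ = pullback.fst h (𝒰.f a) ≫ x h hh at this
    rw [← this]
    exact hxcongr _ _ _ _ pullback.condition.symm
  · intro T' hT'
    refine 𝒰.hom_ext _ _ fun a => ?_
    rw [hT]
    refine huniq (𝒰.X a) inferInstance (𝒰.f a) _ _ ?_ (fun m hm => ht a m hm)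
    intro Z m hm
    have := hT' (m ≫ 𝒰.f a) hm
    change (m ≫ 𝒰.f a) ≫ T' = _ at this
    rw [Category.assoc] at this
    exact this

/-- Consider morphisms of schemes f i : X i ⟶ X indexed by i. Suppose that, whenever Y is an affine
scheme and g : Y ⟶ X is a morphism, the sieve on Y obtained by pulling back along g (generated by
the base changes X i ×_X Y ⟶ Y) is effective epimorphic. Then the pulled-back sieve along every
morphism Y ⟶ X of schemes is effective epimorphic; in other words, within schemes the family forms a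
universal effective epimorphism. -/
theorem result {ι : Type u} {X : Scheme.{u}} {Xi : ι → Scheme.{u}} (f : ∀ i, Xi i ⟶ X)
    (h : ∀ (Y : Scheme.{u}) (g : Y ⟶ X), IsAffine Y → ((Sieve.ofArrows Xi f).pullback g).EffectiveEpimorphic)
    {Y : Scheme.{u}} (g : Y ⟶ X) : ((Sieve.ofArrows Xi f).pullback g).EffectiveEpimorphic := by
  rw [Sieve.EffectiveEpimorphic.iff_forall_isSheafFor_yoneda]
  intro W
  refine isSheafFor_yoneda_of_affine _ fun V k hV => ?_
  rw [← Sieve.pullback_comp]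
  exact (Sieve.EffectiveEpimorphic.iff_forall_isSheafFor_yoneda _).mp (h V (k ≫ g) hV) W

end Groth.Agent.S9860
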