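import Groth.Statements.S9863
import Mathlib
import Groth.Agent.Lib.Helper16.SyntLoc2

set_option autoImplicit false
open CategoryTheory CategoryTheory.Limits AlgebraicGeometry Opposite
universe u
open Desc

namespace Groth.Agent.S9863

section helpers
open CategoryTheory CategoryTheory.Limits AlgebraicGeometry Opposite
open Desc

theorem result_aux {ι : Type u} {S : Scheme.{u}} {X : ι → Scheme.{u}} (f : ∀ i, X i ⟶ S)
    (hsurj : ∀ s : S, ∃ i, s ∈ Set.range (f i).base) (hsyn : ∀ i, Synt.IsSyntomicMor (f i)) (k : ℕ) :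
    (IsLocallyNoetherian S ∧ ∀ s : S, LocCoh.HasSk k (S.presheaf.stalk s) (S.presheaf.stalk s)) ↔
      ∀ i, IsLocallyNoetherian (X i) ∧ ∀ x : X i, LocCoh.HasSk k ((X i).presheaf.stalk x) ((X i).presheaf.stalk x) := by
  exact Groth.Agent.Lib.Helper16.SyntLoc.cover_iff f hsurj hsyn
    (fun Y y => LocCoh.HasSk k (Y.presheaf.stalk y) (Y.presheaf.stalk y))
    (fun i x U V e hxU hs hV hU =>
      Groth.Agent.Lib.Helper16.SyntLoc.hasSk_stalk_iff_of_isSyntomicAt (f i) x U V e hxU hs k)

end helpers

/-- The property 'locally Noetherian and (S_k)' is local in the syntomic topology: for a jointly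
surjective family of syntomic morphisms f i : X i ⟶ S and k a natural number, S is locally
Noetherian with all local rings satisfying Serre's condition (S_k) if and only if every X i is. -/
theorem result {ι : Type u} {S : Scheme.{u}} {X : ι → Scheme.{u}} (f : ∀ i, X i ⟶ S)
    (hsurj : ∀ s : S, ∃ i, s ∈ Set.range (f i).base) (hsyn : ∀ i, Synt.IsSyntomicMor (f i)) (k : ℕ) :
    (IsLocallyNoetherian S ∧ ∀ s : S, LocCoh.HasSk k (S.presheaf.stalk s) (S.presheaf.stalk s)) ↔
      ∀ i, IsLocallyNoetherian (X i) ∧ ∀ x : X i, LocCoh.HasSk k ((X i).presheaf.stalk x) ((X i).presheaf.stalk x) := by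
  exact result_aux f hsurj hsyn k

end Groth.Agent.S9863
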