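import Groth.Statements.S9870
import Groth.Agent.Lib.Helper24.QuotRestrict

set_option autoImplicit false
universe u
open CategoryTheory CategoryTheory.Limits AlgebraicGeometry
open AlgSp

namespace Groth.Agent.S9870

open CategoryTheory CategoryTheory.Limits AlgebraicGeometry
open AlgSp
open Groth.Agent.Lib.Helper14.AS Groth.Agent.Lib.Helper24.QuotAtlas Groth.Agent.Lib.Helper24.QuotBridge Groth.Agent.Lib.Helper24.QuotRestrict


/-- Let `s, t : R ⟶ U` be a pre-relation on a scheme `U` over `S` which is an equivalence relation (on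
`T`-points, for every scheme `T` over `S`), with `s` and `t` surjective, flat and locally of finite
presentation, and let `g : U' ⟶ U` be flat and locally of finite presentation. Let `s', t' : R' ⟶
U'` be the restriction of the pre-relation to `U'`, i.e. `R'` with `(t', s')` and `R' ⟶ R` is the
fibre product of `U' ×_S U'` and `R` over `U ×_S U`. Then the map of fppf quotient sheaves `U'/R' ⟶
U/R` induced by `g` (the unique map under the quotient maps compatible with `h_g`) is representable
and an open immersion. -/
theorem result (S : Scheme.{u}) {R U R' U' : Over S} (s t : R ⟶ U)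
    (g : U' ⟶ U) (s' t' : R' ⟶ U') (r : R' ⟶ R)
    (hsq : IsPullback (prod.lift t' s') r (prod.map g g) (prod.lift t s))
    (hR : AlgSp.IsEqvRel s t)
    [Surjective s.left] [Flat s.left] [LocallyOfFinitePresentation s.left]
    [Surjective t.left] [Flat t.left] [LocallyOfFinitePresentation t.left]
    [Flat g.left] [LocallyOfFinitePresentation g.left]
    (φ : QuotSh.quot Scheme.fppfPrecoverage s' t' ⟶ QuotSh.quot Scheme.fppfPrecoverage s t)
    (hφ : QuotSh.quotπ Scheme.fppfPrecoverage s' t' ≫ φ = QuotSh.repMap Scheme.fppfPrecoverage g ≫ QuotSh.quotπ Scheme.fppfPrecoverage s t) :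
    AlgSp.RepWith @IsOpenImmersion φ := by
  have hpre := isPreEqvRelSp hR
  let φ' : Qs s' t' ⟶ Qs s t := (quotIso s' t').hom ≫ φ ≫ (quotIso s t).inv
  have hφ' : ps s' t' ≫ φ' = (yon S).map g ≫ ps s t := by
    have h1 : π' s t ≫ (quotIso s t).inv = ps s t := by
      rw [← quotSpπ_quotIso_hom, Category.assoc, Iso.hom_inv_id, Category.comp_id]
    change ps s' t' ≫ (quotIso s' t').hom ≫ φ ≫ (quotIso s t).inv = _
    rw [← Category.assoc, quotSpπ_quotIso_hom, π', Category.assoc, ← Category.assoc _ φ, hφ,
      Category.assoc, ← Category.assoc, ← repIso_inv_naturality, Category.assoc, ← h1, π',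
      Category.assoc]
  have hlift : ∀ (T : Over S) (a b : (yon S).obj T ⟶ (yon S).obj U')
      (r₀ : (yon S).obj T ⟶ (yon S).obj R),
      r₀ ≫ (yon S).map t = a ≫ (yon S).map g → r₀ ≫ (yon S).map s = b ≫ (yon S).map g →
      ∃ r' : (yon S).obj T ⟶ (yon S).obj R', r' ≫ (yon S).map t' = a ∧ r' ≫ (yon S).map s' = b := by
    intro T a b r₀ h1 h2
    obtain ⟨a, rfl⟩ := (yon S).map_surjective a
    obtain ⟨b, rfl⟩ := (yon S).map_surjective b
    obtain ⟨r₀, rfl⟩ := (yon S).map_surjective r₀
    rw [← Functor.map_comp, ← Functor.map_comp] at h1 h2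
    have e1 := (yon S).map_injective h1
    have e2 := (yon S).map_injective h2
    have hc : prod.lift a b ≫ prod.map g g = r₀ ≫ prod.lift t s := by
      apply Limits.prod.hom_ext
      · rw [Category.assoc, prod.map_fst, prod.lift_fst_assoc, Category.assoc, prod.lift_fst, e1]
      · rw [Category.assoc, prod.map_snd, prod.lift_snd_assoc, Category.assoc, prod.lift_snd, e2]
    refine ⟨(yon S).map (hsq.lift _ _ hc), ?_, ?_⟩
    · have := congrArg (· ≫ prod.fst) (hsq.lift_fst _ _ hc)
      simp only [Category.assoc, prod.lift_fst] at this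
      rw [← Functor.map_comp, this]
    · have := congrArg (· ≫ prod.snd) (hsq.lift_fst _ _ hc)
      simp only [Category.assoc, prod.lift_snd] at this
      rw [← Functor.map_comp, this]
  have hm : Mono φ' := mono_quot_map _ _ hpre _ _ _ hlift φ' hφ'
  have hrep := repWith_isOpenImmersion_quot_map hφ' hpre
  have e : φ = (quotIso s' t').inv ≫ φ' ≫ (quotIso s t).hom := by
    simp [φ']
  rw [e]
  exact (MorphismProperty.cancel_left_of_respectsIso (RepWith @IsOpenImmersion) _ _).2
    ((MorphismProperty.cancel_right_of_respectsIso (RepWith @IsOpenImmersion) _ _).2 hrep)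

end Groth.Agent.S9870
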