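import Groth.Statements.S9871
import Groth.Agent.Lib.Helper14.AlgSpSect

set_option autoImplicit false
universe u
open CategoryTheory CategoryTheory.Limits AlgebraicGeometry
open AlgSp

namespace Groth.Agent.S9871

open Groth.Agent.Lib.Helper14.AS

set_option backward.isDefEq.respectTransparency false in
/-- The restricted relation: `t'` is the base change of `g` along `R ×_U U' ⟶ R ⟶ U`. -/
theorem isPullback_restrict {C : Type*} [Category C] [HasPullbacks C] {R U R' U' : C}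
    (s t : R ⟶ U) (g : U' ⟶ U) (s' t' : R' ⟶ U') (r : R' ⟶ R)
    (h1 : t' ≫ g = r ≫ t) (h2 : s' ≫ g = r ≫ s)
    (hlift : ∀ (T : C) (a b : T ⟶ U') (ρ : T ⟶ R), a ≫ g = ρ ≫ t → b ≫ g = ρ ≫ s →
      ∃ z : T ⟶ R', z ≫ t' = a ∧ z ≫ s' = b ∧ z ≫ r = ρ)
    (huniq : ∀ (T : C) (z z' : T ⟶ R'), z ≫ t' = z' ≫ t' → z ≫ s' = z' ≫ s' → z ≫ r = z' ≫ r →
      z = z') :
    IsPullback t' (pullback.lift r s' h2.symm) g (pullback.fst s g ≫ t) := by
  refine isPullback_of_exists_unique ?_ ?_ ?_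
  · rw [pullback.lift_fst_assoc, h1]
  · intro T a b hab
    obtain ⟨z, hz1, hz2, hz3⟩ := hlift T a (b ≫ pullback.snd s g) (b ≫ pullback.fst s g)
      (by rw [hab, Category.assoc]) (by rw [Category.assoc, Category.assoc, pullback.condition])
    refine ⟨z, hz1, ?_⟩
    apply pullback.hom_ext
    · rw [Category.assoc, pullback.lift_fst, hz3]
    · rw [Category.assoc, pullback.lift_snd, hz2]
  · intro T z z' e1 e2
    refine huniq T z z' e1 ?_ ?_
    · have := congrArg (· ≫ pullback.snd s g) e2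
      simpa using this
    · have := congrArg (· ≫ pullback.fst s g) e2
      simpa using this

theorem Q_restrict {C : Type*} [Category C] [HasPullbacks C] (Q : MorphismProperty C)
    [Q.IsStableUnderBaseChange] [Q.IsStableUnderComposition] {R U R' U' : C}
    (s t : R ⟶ U) (g : U' ⟶ U) (s' t' : R' ⟶ U') (r : R' ⟶ R)
    (h1 : t' ≫ g = r ≫ t) (h2 : s' ≫ g = r ≫ s)
    (hlift : ∀ (T : C) (a b : T ⟶ U') (ρ : T ⟶ R), a ≫ g = ρ ≫ t → b ≫ g = ρ ≫ s →
      ∃ z : T ⟶ R', z ≫ t' = a ∧ z ≫ s' = b ∧ z ≫ r = ρ)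
    (huniq : ∀ (T : C) (z z' : T ⟶ R'), z ≫ t' = z' ≫ t' → z ≫ s' = z' ≫ s' → z ≫ r = z' ≫ r →
      z = z') (hg : Q g) (hs : Q s) : Q s' := by
  have sq := isPullback_restrict s t g s' t' r h1 h2 hlift huniq
  have e : s' = pullback.lift r s' h2.symm ≫ pullback.snd s g := (pullback.lift_snd _ _ _).symm
  rw [e]
  exact Q.comp_mem _ _ (Q.of_isPullback sq hg) (Q.pullback_snd _ _ hs)

set_option backward.isDefEq.respectTransparency false in
theorem aux (S : Scheme.{u}) {R U R' U' : Over S} (s t : R ⟶ U)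
    (g : U' ⟶ U) (s' t' : R' ⟶ U') (r : R' ⟶ R)
    (hsq : IsPullback (prod.lift t' s') r (prod.map g g) (prod.lift t s))
    (h : AlgSp.IsEtaleEqvRel s t) [Etale g.left] :
    AlgSp.IsEtaleEqvRel s' t' := by
  have h1 : t' ≫ g = r ≫ t := by
    have := congrArg (· ≫ prod.fst) hsq.w
    simpa using this
  have h2 : s' ≫ g = r ≫ s := by
    have := congrArg (· ≫ prod.snd) hsq.w
    simpa using this
  have hlift : ∀ (T : Over S) (a b : T ⟶ U') (ρ : T ⟶ R), a ≫ g = ρ ≫ t → b ≫ g = ρ ≫ s →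
      ∃ z : T ⟶ R', z ≫ t' = a ∧ z ≫ s' = b ∧ z ≫ r = ρ := by
    intro T a b ρ e1 e2
    have hc : prod.lift a b ≫ prod.map g g = ρ ≫ prod.lift t s := by
      apply Limits.prod.hom_ext
      · simp [e1]
      · simp [e2]
    refine ⟨hsq.lift _ _ hc, ?_, ?_, hsq.lift_snd _ _ _⟩
    · have := congrArg (· ≫ prod.fst) (hsq.lift_fst _ _ hc)
      simpa using this
    · have := congrArg (· ≫ prod.snd) (hsq.lift_fst _ _ hc)
      simpa using this
  have huniq : ∀ (T : Over S) (z z' : T ⟶ R'), z ≫ t' = z' ≫ t' → z ≫ s' = z' ≫ s' →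
      z ≫ r = z' ≫ r → z = z' := by
    intro T z z' e1 e2 e3
    apply hsq.hom_ext
    · apply Limits.prod.hom_ext
      · simpa using e1
      · simpa using e2
    · exact e3
  have hrel : ∀ (T : Over S) (a b : T ⟶ U'), (∃ ρ : T ⟶ R', ρ ≫ t' = a ∧ ρ ≫ s' = b) ↔
      (∃ ρ : T ⟶ R, ρ ≫ t = a ≫ g ∧ ρ ≫ s = b ≫ g) := by
    intro T a b
    constructor
    · rintro ⟨ρ, rfl, rfl⟩
      exact ⟨ρ ≫ r, by rw [Category.assoc, Category.assoc, h1],
        by rw [Category.assoc, Category.assoc, h2]⟩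
    · rintro ⟨ρ, e1, e2⟩
      obtain ⟨z, hz1, hz2, -⟩ := hlift T a b ρ e1.symm e2.symm
      exact ⟨z, hz1, hz2⟩
  have hg : (MorphismProperty.inverseImage @Etale (Over.forget S)) g := ‹Etale g.left›
  refine ⟨⟨?_, ?_⟩, ?_, ?_⟩
  · intro T z z' e1 e2
    refine huniq T z z' e1 e2 ?_
    apply h.injective
    · rw [Category.assoc, Category.assoc, ← h1, reassoc_of% e1]
    · rw [Category.assoc, Category.assoc, ← h2, reassoc_of% e2]
  · intro T
    have hE := h.equivalence T
    refine ⟨fun a => (hrel T a a).2 (hE.refl _), fun {a b} hab => (hrel T b a).2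
      (hE.symm ((hrel T a b).1 hab)), fun {a b c} hab hbc => (hrel T a c).2
      (hE.trans ((hrel T a b).1 hab) ((hrel T b c).1 hbc))⟩
  · exact Q_restrict (MorphismProperty.inverseImage @Etale (Over.forget S)) s t g s' t' r h1 h2
      hlift huniq hg h.etale_left
  · exact Q_restrict (MorphismProperty.inverseImage @Etale (Over.forget S)) t s g t' s' r h2 h1
      (fun T a b ρ e1 e2 => by
        obtain ⟨z, hz1, hz2, hz3⟩ := hlift T b a ρ e2 e1
        exact ⟨z, hz2, hz1, hz3⟩)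
      (fun T z z' e1 e2 e3 => huniq T z z' e2 e1 e3) hg h.etale_right

/-- Let `s, t : R ⟶ U` be an etale equivalence relation on a scheme `U` over `S` and let `g : U' ⟶ U` be
an etale morphism over `S`. Let `s', t' : R' ⟶ U'` be the restriction to `U'`: `R'`, with `(t', s')`
and `R' ⟶ R`, is the fibre product of `U' ×_S U'` and `R` over `U ×_S U`. Then `s', t'` is again an
etale equivalence relation. -/
theorem result (S : Scheme.{u}) {R U R' U' : Over S} (s t : R ⟶ U)
    (g : U' ⟶ U) (s' t' : R' ⟶ U') (r : R' ⟶ R)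
    (hsq : IsPullback (prod.lift t' s') r (prod.map g g) (prod.lift t s))
    (h : AlgSp.IsEtaleEqvRel s t) [Etale g.left] :
    AlgSp.IsEtaleEqvRel s' t' := by
  exact aux S s t g s' t' r hsq h

end Groth.Agent.S9871
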