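import Groth.Statements.S9892
import Mathlib.CategoryTheory.Limits.Types.Pullbacks

set_option autoImplicit false
universe u
open CategoryTheory CategoryTheory.Limits AlgebraicGeometry
open AlgSp

namespace Groth.Agent.S9892

open AlgSp Opposite in
theorem aux (S : Scheme.{u}) (F G : AlgSp.PSp S) (a : F ⟶ G)
    (ha : (AlgSp.pyon S).relativelyRepresentable a) (hG : Presheaf.IsSheaf (AlgSp.J S) G) :
    Presheaf.IsSheaf (AlgSp.J S) F := by
  rw [isSheaf_iff_isSheaf_of_type] at hG ⊢
  intro T R hR x hx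
  have hxG : (Presieve.FamilyOfElements.map x a).Compatible :=
    Presieve.FamilyOfElements.Compatible.map a hx
  obtain ⟨y, hy, hyuniq⟩ := hG R hR _ hxG
  obtain ⟨V, π, p1, sq⟩ := ha (uliftYonedaEquiv.symm y)
  have hV : Presieve.IsSheaf (AlgSp.J S) ((pyon S).obj V) :=
    (isSheaf_iff_isSheaf_of_type _ _).1 ((yon S).obj V).property
  have key : ∀ (W : Over S) (xx : F.obj (op W)) (f : W ⟶ T), a.app _ xx = G.map f.op y →
      ∃ v : W ⟶ V, v ≫ π = f ∧ p1.app (op W) ⟨v⟩ = xx := by
    intro W xx f hxx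
    have sqW := sq.map ((evaluation _ _).obj (op W))
    obtain ⟨⟨v⟩, h1, h2⟩ := Limits.Types.exists_of_isPullback sqW xx ⟨f⟩ (by simpa using hxx)
    refine ⟨v, ?_, h1⟩
    have := congrArg ULift.down h2
    simpa using this
  have keyu : ∀ (W : Over S) (v v' : W ⟶ V), v ≫ π = v' ≫ π →
      p1.app (op W) ⟨v⟩ = p1.app (op W) ⟨v'⟩ → v = v' := by
    intro W v v' h1 h2
    have sqW := sq.map ((evaluation _ _).obj (op W))
    have := Limits.Types.ext_of_isPullback sqW (x₁ := ⟨v⟩) (y₁ := ⟨v'⟩) h2 (by simp [h1])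
    exact congrArg ULift.down this
  have hnat : ∀ (W W0 : Over S) (g : W0 ⟶ W) (v : W ⟶ V),
      p1.app (op W0) ⟨g ≫ v⟩ = F.map g.op (p1.app (op W) ⟨v⟩) := by
    intro W W0 g v
    exact NatTrans.naturality_apply p1 g.op ⟨v⟩
  have hcond : ∀ ⦃W : Over S⦄ (f : W ⟶ T) (hf : R f), a.app _ (x f hf) = G.map f.op y :=
    fun W f hf => (hy f hf).symm
  choose v hv1 hv2 using fun (W : Over S) (f : W ⟶ T) (hf : R f) => key W (x f hf) f (hcond f hf)
  let xV : Presieve.FamilyOfElements ((pyon S).obj V) R.arrows := fun W f hf => ⟨v W f hf⟩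
  have hxV : xV.Compatible := by
    intro W1 W2 W0 g1 g2 f1 f2 h1 h2 hcomm
    have : g1 ≫ v _ f1 h1 = g2 ≫ v _ f2 h2 := by
      apply keyu
      · rw [Category.assoc, Category.assoc, hv1, hv1, hcomm]
      · rw [hnat, hnat, hv2, hv2]
        exact hx g1 g2 h1 h2 hcomm
    exact congrArg ULift.up this
  obtain ⟨⟨v0⟩, hv0, hv0u⟩ := hV R hR xV hxV
  have hv0' : ∀ ⦃W : Over S⦄ (f : W ⟶ T) (hf : R f), f ≫ v0 = v W f hf := fun W f hf =>
    congrArg ULift.down (hv0 f hf)
  refine ⟨p1.app (op T) ⟨v0⟩, ?_, ?_⟩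
  · intro W f hf
    rw [← hnat, hv0' f hf, hv2]
  · intro t' ht'
    have hat' : a.app _ t' = y := by
      apply hyuniq
      intro W f hf
      change G.map f.op _ = a.app _ (x f hf)
      rw [← ht' f hf]
      exact (NatTrans.naturality_apply a f.op t').symm
    obtain ⟨v', hv'1, hv'2⟩ := key T t' (𝟙 T) (by simpa using hat')
    have : (⟨v'⟩ : ((pyon S).obj V).obj (op T)) = ⟨v0⟩ := by
      apply hv0u
      intro W f hf
      have : f ≫ v' = v W f hf := by
        apply keyu
        · rw [Category.assoc, hv'1, Category.comp_id, hv1]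
        · rw [hnat, hv'2, hv2]
          exact ht' f hf
      exact congrArg ULift.up this
    rw [← hv'2, this]

/-- Let `a : F ⟶ G` be a map of presheaves of sets on schemes over `S` which is representable by
schemes. If `G` is a sheaf for the fppf topology, then so is `F`. -/
theorem result (S : Scheme.{u}) (F G : AlgSp.PSp S) (a : F ⟶ G)
    (ha : (AlgSp.pyon S).relativelyRepresentable a) (hG : Presheaf.IsSheaf (AlgSp.J S) G) :
    Presheaf.IsSheaf (AlgSp.J S) F := by
  exact aux S F G a ha hG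

end Groth.Agent.S9892
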