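import Groth.Statements.S9876
import Groth.Agent.S9892
import Groth.Agent.Lib.Helper14.AlgSpRepTo

set_option autoImplicit false
universe u
open CategoryTheory CategoryTheory.Limits AlgebraicGeometry
open AlgSp

namespace Groth.Agent.S9876

open Groth.Agent.Lib.Helper14.AS

/-- Let `X` be an algebraic space over `S` and `G` a presheaf of sets on schemes over `S` with a map `a
: G ⟶ X` of presheaves which is representable by schemes. Then `G` is an fppf sheaf and an algebraic
space over `S`. -/
theorem result (S : Scheme.{u}) (X : AlgSp.Space S)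
    (G : AlgSp.PSp S) (a : G ⟶ X.obj.obj) (ha : (AlgSp.pyon S).relativelyRepresentable a) :
    AlgSp.IsAlgSpaceP G := by
  have hG : Presheaf.IsSheaf (AlgSp.J S) G :=
    Groth.Agent.S9892.result S G X.obj.obj a ha X.obj.property
  refine ⟨hG, ?_⟩
  let G' : AlgSp.Sp S := ⟨G, hG⟩
  let a' : G' ⟶ X.obj := ObjectProperty.homMk a
  have ha' : Representable a' := by
    intro U ξ
    obtain ⟨V, π, p1, sq⟩ := ha ξ.hom
    refine ⟨V, π, (ObjectProperty.homMk p1 : (AlgSp.yon S).obj V ⟶ G'), ?_⟩
    exact IsPullback.of_map_of_faithful (sheafToPresheaf (AlgSp.J S) (Type (u + 1))) sq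
  exact isAlgSpace_of_representable_to X.property a' ha'

end Groth.Agent.S9876
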