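import Groth.Statements.S9879
import Groth.Agent.Lib.Helper24.CoprodSp

set_option autoImplicit false
universe u
open CategoryTheory CategoryTheory.Limits AlgebraicGeometry
open AlgSp

namespace Groth.Agent.S9879

open CategoryTheory CategoryTheory.Limits AlgebraicGeometry Opposite
open Groth.Agent.Lib.Helper24.CoprodSp


/-- Let `U` be a scheme over `S` and `F_i` a family of fppf sheaves of sets over `S` whose coproduct in
sheaves is isomorphic to `h_U`. Then each `F_i` is representable by a scheme `V_i` over `S` such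
that `V_i ⟶ U` (the morphism inducing `h_{V_i} ≅ F_i ⟶ ∐ F_i ≅ h_U`) is an open and closed
immersion, and `U` is the coproduct of the `V_i` in schemes. -/
theorem result (S : Scheme.{u}) (U : Over S) {ι : Type u}
    (F : ι → AlgSp.Sp S) (c : Cofan F) (hc : IsColimit c) (e : c.pt ≅ (AlgSp.yon S).obj U) :
    ∃ (V : ι → Over S) (g : ∀ i, V i ⟶ U) (ei : ∀ i, (AlgSp.yon S).obj (V i) ≅ F i),
      (∀ i, IsOpenImmersion (g i).left ∧ IsClosedImmersion (g i).left) ∧
      (∀ i, (ei i).hom ≫ c.inj i ≫ e.hom = (AlgSp.yon S).map (g i)) ∧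
      Nonempty (IsColimit (Cofan.mk U.left (fun i => (g i).left))) := by
  have hrep := fun i => repWith_clopen_inj hc i
  let V : ι → Over S := fun i => (hrep i).rep.pullback e.inv
  let g : ∀ i, V i ⟶ U := fun i => (hrep i).rep.snd e.inv
  let fst : ∀ i, (AlgSp.yon S).obj (V i) ⟶ F i := fun i => (hrep i).rep.fst e.inv
  have sq : ∀ i, IsPullback (fst i) ((AlgSp.yon S).map (g i)) (c.inj i) e.inv :=
    fun i => (hrep i).rep.isPullback e.inv
  have hiso : ∀ i, IsIso (fst i) := fun i => (sq i).isIso_fst_of_isIso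
  have hP : ∀ i, IsOpenImmersion (g i).left ∧ IsClosedImmersion (g i).left :=
    fun i => (hrep i).property_snd e.inv
  have hoi : ∀ i, IsOpenImmersion (g i).left := fun i => (hP i).1
  refine ⟨V, g, fun i => asIso (fst i), hP, fun i => ?_, ?_⟩
  · rw [asIso_hom, ← Category.assoc, (sq i).w, Category.assoc, Iso.inv_hom_id, Category.comp_id]
  · refine nonempty_isColimit_cofanMk_of (fun i => (g i).left) ?_ ?_
    · rw [eq_top_iff]
      intro x _
      obtain ⟨i, hi⟩ := exists_mem_range_snd hc e.inv fst g sq x
      exact TopologicalSpace.Opens.mem_iSup.2 ⟨i, hi⟩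
    · intro i j hij
      change Disjoint (g i).left.opensRange (g j).left.opensRange
      rw [disjoint_iff, TopologicalSpace.Opens.ext_iff]
      ext x
      simp only [TopologicalSpace.Opens.coe_inf, Scheme.Hom.coe_opensRange, Set.mem_inter_iff,
        Set.mem_range, TopologicalSpace.Opens.coe_bot, Set.mem_empty_iff_false, iff_false, not_and]
      rintro ⟨v, rfl⟩ ⟨v', hv'⟩
      exact ne_of_snd hc e.inv hij (sq i) (sq j) v v' hv'.symm

end Groth.Agent.S9879
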