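import Groth.Statements.S9890
import Groth.Agent.Lib.Helper24.FreeActSep

set_option autoImplicit false
universe u
open CategoryTheory CategoryTheory.Limits AlgebraicGeometry
open AlgSp

namespace Groth.Agent.S9890

open CategoryTheory CategoryTheory.Limits AlgebraicGeometry
open AlgSp
open Groth.Agent.Lib.Helper14.AS Groth.Agent.Lib.Helper24.FreeAct Groth.Agent.Lib.Helper24.FreeActSep
open Groth.Agent.Lib.Helper24

set_option backward.isDefEq.respectTransparency.types false in

/-- Let a finite group `G` act freely (no non-identity element fixes a point together with its residue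
field) by `S`-automorphisms on a scheme `U` over `S`, and let `s, t : R = ∐_{g ∈ G} U ⟶ U` be the
identity and the action. When `U ⟶ S` is quasi-separated, so is the quotient sheaf `U/G = U/R` over
`S`; when `U ⟶ S` is separated, `U/G` is also separated over `S`. -/
theorem result (S : Scheme.{u}) (U : Over S) (G : Type u) [Group G] [Finite G]
    (ρ : G →* Aut U)
    (hfree : ∀ (g : G) (x : U.left), g ≠ 1 →
      U.left.fromSpecResidueField x ≫ (ρ g).hom.left ≠ U.left.fromSpecResidueField x)
    (c : Cofan (fun _ : G => U)) (hc : IsColimit c) (s t : c.pt ⟶ U)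
    (hs : ∀ g, c.inj g ≫ s = 𝟙 U) (ht : ∀ g, c.inj g ≫ t = (ρ g).hom) :
    (QuasiSeparated U.hom → AlgSp.IsQuasiSeparatedSp (QuotSh.quot Scheme.fppfPrecoverage s t)) ∧
      (IsSeparated U.hom → AlgSp.IsSeparatedSp (QuotSh.quot Scheme.fppfPrecoverage s t)) := by
  have hE := isEtaleEqvRel ρ hfree c hc s t hs ht
  have hpres := QuotAtlas.isPresentation_ps hE
  have hF := QuotAtlas.isAlgSpace_quotSp hE
  constructor
  · intro h
    refine repWith_diag_of_iso @QuasiCompact (QuotBridge.quotIso s t) ?_
    exact (repWith_diag_iff_of_chart hF.diag hpres.etale hpres.surjective hpres.isPullback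
      @QuasiCompact).2 (quasiCompact_lift ρ c hc s t hs ht h)
  · intro h
    refine repWith_diag_of_iso @IsClosedImmersion (QuotBridge.quotIso s t) ?_
    exact (repWith_diag_iff_of_chart hF.diag hpres.etale hpres.surjective hpres.isPullback
      @IsClosedImmersion).2 (isClosedImmersion_lift ρ hfree c hc s t hs ht h)

end Groth.Agent.S9890
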