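import Groth.Statements.S9894
import Groth.Agent.Lib.Helper24.DescRep
import Groth.Agent.Lib.Helper14.AlgSpRepTo

set_option autoImplicit false
universe u
open CategoryTheory CategoryTheory.Limits AlgebraicGeometry
open AlgSp

namespace Groth.Agent.S9894

open CategoryTheory CategoryTheory.Limits AlgebraicGeometry
open AlgSp
open Groth.Agent.Lib.Helper24.DescBridge Groth.Agent.Lib.Helper24.DescRep Groth.Agent.Lib.Helper14.AS


/-- Let `P` be a property of morphisms of schemes which is stable under base change, fppf local on the
base, and such that morphisms of type `P` satisfy descent: for every surjective, flat, locally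
finitely presented `p : X' ⟶ S'` every descent datum relative to `p` whose scheme has structure
morphism in `P` is effective (descent is asked along single fppf covers, the case the argument
uses). Let `F` be an algebraic space over `S`, `G` an fppf sheaf of sets with a map `f : G ⟶ F`, and
`q : h_U ⟶ F` representable etale and surjective such that the base change of `f` along `q` is
represented by a scheme `V` over `S` with `g : V ⟶ U` having `P`. Then `G` is an algebraic space
over `S` and `f` is representable by schemes with property `P`. -/
theorem result (S : Scheme.{u}) (P : MorphismProperty Scheme.{u})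
    [P.IsStableUnderBaseChange] [P.IsLocalAtTarget Scheme.fppfPrecoverage]
    (hdesc : ∀ ⦃X' S' : Scheme.{u}⦄ (p : X' ⟶ S'), Surjective p → Flat p → LocallyOfFinitePresentation p →
      ∀ D : Desc.SchDD p, P D.obj.hom → (Desc.toDD p).essImage D)
    (F : AlgSp.Space S) (G : AlgSp.Sp S) (f : G ⟶ F.obj) {U V : Over S} (q : (AlgSp.yon S).obj U ⟶ F.obj)
    (hqe : AlgSp.RepWith @Etale q) (hqs : AlgSp.RepWith @Surjective q) (fst : (AlgSp.yon S).obj V ⟶ G)
    (g : V ⟶ U) (sq : IsPullback fst ((AlgSp.yon S).map g) f q) (hP : P g.left) :
    AlgSp.IsAlgSpace G ∧ AlgSp.RepWith P f := by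
  have hrep : AlgSp.RepWith P f := by
    refine MorphismProperty.relative.of_exists fun T t => ?_
    obtain ⟨T', V', c, a', r, b, fstV, sqT, sqV, sqE⟩ := exists_chart_sq f q hqe.rep fst g sq t
    have hce : Etale c.left := hqe.property t _ _ sqT
    have hcs : Surjective c.left := hqs.property t _ _ sqT
    have hr : P r.left := P.of_isPullback (sqV.map (Over.forget S)) hP
    obtain ⟨U₀, ⟨i⟩⟩ := hdesc c.left hcs inferInstance inferInstance (ddOfSq sqE) hr
    obtain ⟨fstW, hW⟩ := exists_isPullback_of_effective f t c r fstV sqE U₀ i
    refine ⟨descObj U₀, fstW, descProj U₀, hW, ?_⟩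
    change P U₀.hom
    obtain ⟨e, he⟩ := exists_iso_pullback sqE U₀ i
    refine MorphismProperty.IsLocalAtTarget.of_forall_pullbackSnd (K := Scheme.fppfPrecoverage)
      (Scheme.Hom.singleton_mem_fppfPrecoverage c.left) ?_
    intro W w _ hw
    cases hw
    rw [he]
    exact (P.cancel_left_of_respectsIso _ _).2 hr
  exact ⟨isAlgSpace_of_representable_to F.property f hrep.rep, hrep⟩

end Groth.Agent.S9894
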