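import Groth.Statements.S9903
import Groth.Agent.Lib.Helper14.AlgSpAffine

set_option autoImplicit false
universe u
open CategoryTheory CategoryTheory.Limits AlgebraicGeometry
open AlgSp

namespace Groth.Agent.S9903

open Groth.Agent.Lib.Helper14.AS

/-- (1) ⇔ (3): a morphism of algebraic spaces is separated (resp. quasi-separated) if and only if its
base change to every affine scheme over the target is. -/
theorem result {S : Scheme.{u}} {X Y : AlgSp.Space S} (f : X ⟶ Y) :
    (AlgSp.IsSeparatedMor f.hom ↔
      ∀ (Z : Over S), IsAffine Z.left → ∀ (g : (AlgSp.yon S).obj Z ⟶ Y.obj) (P : AlgSp.Sp S)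
        (fst : P ⟶ X.obj) (snd : P ⟶ (AlgSp.yon S).obj Z), IsPullback fst snd f.hom g →
        AlgSp.IsSeparatedMor snd) ∧
    (AlgSp.IsQuasiSeparatedMor f.hom ↔
      ∀ (Z : Over S), IsAffine Z.left → ∀ (g : (AlgSp.yon S).obj Z ⟶ Y.obj) (P : AlgSp.Sp S)
        (fst : P ⟶ X.obj) (snd : P ⟶ (AlgSp.yon S).obj Z), IsPullback fst snd f.hom g →
        AlgSp.IsQuasiSeparatedMor snd) := by
  have hΔ : Representable (pullback.diagonal f.hom) := representable_diagonal f.hom X.property.diag
  refine ⟨⟨fun h Z _ g P fst snd sq => ?_, fun h => ?_⟩, ⟨fun h Z _ g P fst snd sq => ?_, fun h => ?_⟩⟩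
  · exact MorphismProperty.of_isPullback
      (P := (RepWith (S := S) @IsClosedImmersion).diagonal) sq h
  · exact repWith_diagonal_of_affine_base_changes @IsClosedImmersion hΔ fun T hT x =>
      ⟨pullback f.hom x, pullback.fst _ _, pullback.snd _ _, IsPullback.of_hasPullback _ _,
        h T hT x _ _ _ (IsPullback.of_hasPullback _ _)⟩
  · exact MorphismProperty.of_isPullback
      (P := (RepWith (S := S) @QuasiCompact).diagonal) sq h
  · exact repWith_diagonal_of_affine_base_changes @QuasiCompact hΔ fun T hT x =>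
      ⟨pullback f.hom x, pullback.fst _ _, pullback.snd _ _, IsPullback.of_hasPullback _ _,
        h T hT x _ _ _ (IsPullback.of_hasPullback _ _)⟩

end Groth.Agent.S9903
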