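import Groth.Statements.S9915
import Groth.Agent.Lib.Helper14.AlgSpQCMor

set_option autoImplicit false
universe u
open CategoryTheory CategoryTheory.Limits AlgebraicGeometry
open AlgSp

namespace Groth.Agent.S9915

open Groth.Agent.Lib.Helper14.AS

/-- In a commutative triangle of algebraic spaces with f : X -> Y surjective, if X -> Z is quasi-compact
then Y -> Z is quasi-compact. -/
theorem result {S : Scheme.{u}} {X Y Z : AlgSp.Space S} (f : X ⟶ Y)
    (p : X ⟶ Z) (q : Y ⟶ Z) (comm : f ≫ q = p) (hf : AlgSp.IsSurjectiveMor f.hom)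
    (hp : AlgSp.IsQuasiCompactMor p.hom) : AlgSp.IsQuasiCompactMor q.hom := by
  subst comm
  exact isQuasiCompactMor_of_surjective_triangle Y.property (repDiag_of_isAlgSpace Z.property)
    f.hom q.hom hf hp

end Groth.Agent.S9915
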