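import Groth.Statements.S9931
import Groth.Agent.Lib.Helper24.ZarGlueRep

set_option autoImplicit false
universe u
open CategoryTheory CategoryTheory.Limits AlgebraicGeometry
open AlgSp

namespace Groth.Agent.S9931

open CategoryTheory CategoryTheory.Limits AlgebraicGeometry
open AlgSp
open Groth.Agent.Lib.Helper24.ZarGlueRep


/-- (3) ⇒ (1): for P = closed immersion, open immersion or immersion, a morphism of algebraic spaces
whose base change to every affine scheme over the target is representable with P is itself
representable with P. -/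
theorem result {S : Scheme.{u}} (P : MorphismProperty Scheme.{u})
    (hP : P = @IsClosedImmersion ∨ P = @IsOpenImmersion ∨ P = @IsImmersion) {X Y : AlgSp.Space S} (f : X ⟶ Y)
    (h : ∀ (Z : Over S), IsAffine Z.left → ∀ (g : (AlgSp.yon S).obj Z ⟶ Y.obj) (P₀ : AlgSp.Sp S)
      (fst : P₀ ⟶ X.obj) (snd : P₀ ⟶ (AlgSp.yon S).obj Z), IsPullback fst snd f.hom g → AlgSp.RepWith P snd) :
    AlgSp.RepWith P f.hom := by
  have hloc : IsZariskiLocalAtTarget P := by
    rcases hP with rfl | rfl | rfl <;> infer_instance
  refine repWith_of_affine_local P f.hom fun Z hZ g => ?_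
  have h1 := h Z hZ g (pullback f.hom g) (pullback.fst f.hom g) (pullback.snd f.hom g)
    (IsPullback.of_hasPullback f.hom g)
  have sq1 := h1.rep.isPullback (𝟙 ((yon S).obj Z))
  have hp : P (h1.rep.snd (𝟙 ((yon S).obj Z))).left := h1.property_snd _
  refine ⟨_, h1.rep.snd (𝟙 _), h1.rep.fst (𝟙 _) ≫ pullback.fst f.hom g, ?_, hp⟩
  have := sq1.paste_horiz (IsPullback.of_hasPullback f.hom g)
  rwa [Category.id_comp] at this

end Groth.Agent.S9931
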