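import Groth.Statements.S9932
import Groth.Agent.Lib.Helper24.RepLocal
import Groth.Agent.Lib.Helper25.ImmDescent

set_option autoImplicit false
universe u
open CategoryTheory CategoryTheory.Limits AlgebraicGeometry
open AlgSp

namespace Groth.Agent.S9932

open CategoryTheory CategoryTheory.Limits AlgebraicGeometry
open AlgSp
open Groth.Agent.Lib.Helper14.AS Opposite

set_option backward.isDefEq.respectTransparency.types false in
theorem core {S : Scheme.{u}} (P : MorphismProperty Scheme.{u}) [IsZariskiLocalAtTarget P]
    [P.IsStableUnderBaseChange]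
    [P.DescendsAlong (@Surjective ⊓ @Flat ⊓ @LocallyOfFinitePresentation)]
    (hP : ∀ ⦃X Y : Scheme.{u}⦄ (f : X ⟶ Y), P f →
      IsSeparated f ∧ LocallyQuasiFinite f ∧ LocallyOfFiniteType f)
    {X Y : Sp S} (f : X ⟶ Y)
    (V : Over S) (p : (yon S).obj V ⟶ Y) (hp : RepWith @Etale p) (hps : RepWith @Surjective p)
    {P₀ : Sp S} (fst : P₀ ⟶ X) (snd : P₀ ⟶ (yon S).obj V) (sq : IsPullback fst snd f p)
    (h : RepWith P snd) : RepWith P f := by
  refine Groth.Agent.Lib.Helper24.RepLocal.repWith_of_locally P hP f ?_
  intro T g₀ x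
  have hr := hp.rep
  -- the cover
  let W : Over S := hr.pullback g₀
  let w : W ⟶ T := hr.snd g₀
  let v : (yon S).obj W ⟶ (yon S).obj V := hr.fst g₀
  have sqW : IsPullback v ((yon S).map w) p g₀ := hr.isPullback g₀
  have hwe : Etale w.left := hp.property g₀ v w sqW
  have hws : Surjective w.left := hps.property g₀ v w sqW
  -- the pullback of snd along v
  have hr' := h.rep
  let V' : Over S := hr'.pullback v
  let r : V' ⟶ W := hr'.snd v
  let fstV' : (yon S).obj V' ⟶ P₀ := hr'.fst v
  have sqV' : IsPullback fstV' ((yon S).map r) snd v := hr'.isPullback v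
  have hPr : P r.left := h.property v fstV' r sqV'
  refine ⟨W, V', w, r, fstV' ≫ fst, ?_, inferInstance, inferInstance, hws.surj x, hPr⟩
  have := sqV'.paste_horiz sq
  rw [sqW.w] at this
  exact this

set_option backward.isDefEq.respectTransparency.types false in

/-- (4) ⇒ (1): for P = closed immersion, open immersion or immersion, being representable with P
descends along a surjective etale base change from a scheme. -/
theorem result {S : Scheme.{u}} (P : MorphismProperty Scheme.{u})
    (hP : P = @IsClosedImmersion ∨ P = @IsOpenImmersion ∨ P = @IsImmersion) {X Y : AlgSp.Space S} (f : X ⟶ Y)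
    (V : Over S) (p : (AlgSp.yon S).obj V ⟶ Y.obj) (hp : AlgSp.RepWith @Etale p) (hps : AlgSp.RepWith @Surjective p)
    {P₀ : AlgSp.Sp S} (fst : P₀ ⟶ X.obj) (snd : P₀ ⟶ (AlgSp.yon S).obj V) (sq : IsPullback fst snd f.hom p)
    (h : AlgSp.RepWith P snd) : AlgSp.RepWith P f.hom := by
  rcases hP with rfl | rfl | rfl
  · have := Groth.Agent.Lib.Helper25.ImmDescent.descendsAlong_isClosedImmersion_fppf.{u}
    exact core @IsClosedImmersion (fun X Y f hf => by
      have := hf
      exact ⟨inferInstance, inferInstance, inferInstance⟩) f.hom V p hp hps fst snd sq h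
  · exact core @IsOpenImmersion (fun X Y f hf => by
      have := hf
      exact ⟨inferInstance, inferInstance, inferInstance⟩) f.hom V p hp hps fst snd sq h
  · have := Groth.Agent.Lib.Helper25.ImmDescent.descendsAlong_isImmersion_fppf.{u}
    exact core @IsImmersion (fun X Y f hf => by
      have := hf
      exact ⟨inferInstance, inferInstance, inferInstance⟩) f.hom V p hp hps fst snd sq h

end Groth.Agent.S9932
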