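import Groth.Statements.S9943
import Groth.Agent.Lib.Helper24.DescBridge
import Groth.Agent.Lib.Helper24.DescRefine

set_option autoImplicit false
universe u
open CategoryTheory CategoryTheory.Limits AlgebraicGeometry
open AlgSp

namespace Groth.Agent.S9943

open CategoryTheory CategoryTheory.Limits AlgebraicGeometry
open AlgSp
open Groth.Agent.Lib.Helper24.DescBridge Groth.Agent.Lib.Helper24.DescAffine Groth.Agent.Lib.Helper24.DescRefine


/-- (4) ⇒ (2): being affine descends along a surjective etale base change from a scheme. -/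
theorem result {S : Scheme.{u}} {X Y : AlgSp.Space S} (f : X ⟶ Y) (V : Over S)
    (p : (AlgSp.yon S).obj V ⟶ Y.obj) (hp : AlgSp.RepWith @Etale p) (hps : AlgSp.RepWith @Surjective p)
    {P : AlgSp.Sp S} (fst : P ⟶ X.obj) (snd : P ⟶ (AlgSp.yon S).obj V) (sq : IsPullback fst snd f.hom p)
    (h : AlgSp.IsAffineMor snd) : AlgSp.IsAffineMor f.hom := by
  intro Z hZ g
  -- the etale cover of `Z`
  have hr := hp.rep
  obtain ⟨Z'', fst'', snd'', sq''⟩ : ∃ (Z'' : Over S) (fst'' : (yon S).obj Z'' ⟶ (yon S).obj V)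
      (snd'' : Z'' ⟶ Z), IsPullback fst'' ((yon S).map snd'') p g :=
    ⟨_, _, hr.snd g, hr.isPullback g⟩
  have he : Etale snd''.left := hp.property g _ _ sq''
  have hs : Surjective snd''.left := hps.property g _ _ sq''
  have : CompactSpace Z.left := inferInstance
  obtain ⟨Z'l, j, hZ', hj, hjs⟩ := exists_affine_refinement snd''.left
  let Z' : Over S := Over.mk (j ≫ Z''.hom)
  let j' : Z' ⟶ Z'' := Over.homMk j rfl
  let c : Z' ⟶ Z := j' ≫ snd''
  have hcl : c.left = j ≫ snd''.left := rfl
  have : Flat c.left := by rw [hcl]; infer_instance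
  have : Surjective c.left := by rw [hcl]; exact hjs
  have : LocallyOfFinitePresentation c.left := by rw [hcl]; infer_instance
  -- the affine scheme over `Z'`
  obtain ⟨W', r, fst', sq', hW'⟩ := h hZ' ((yon S).map j' ≫ fst'')
  -- the sheaf `E`
  let E : Sp S := pullback f.hom g
  let π : E ⟶ (yon S).obj Z := pullback.snd f.hom g
  have hcomm : ((yon S).map j' ≫ fst'') ≫ p = (yon S).map c ≫ g := by
    rw [Category.assoc, sq''.w, ← Category.assoc, ← Functor.map_comp]
  have houter : IsPullback (fst' ≫ fst) ((yon S).map r) f.hom ((yon S).map c ≫ g) := by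
    have := sq'.paste_horiz sq
    rw [hcomm] at this
    exact this
  let fstV : (yon S).obj W' ⟶ E := pullback.lift (fst' ≫ fst) ((yon S).map r ≫ (yon S).map c)
    (by rw [Category.assoc]; exact houter.w)
  have sqE : IsPullback fstV ((yon S).map r) π ((yon S).map c) := by
    refine IsPullback.of_right ?_ (pullback.lift_snd _ _ _) (IsPullback.of_hasPullback f.hom g)
    rw [pullback.lift_fst]
    exact houter
  -- the descent datum is effective
  have : IsAffine (ddOfSq sqE).obj.left := hW'
  have : IsAffine Z'.left := hZ'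
  obtain ⟨U₀, hU₀, ⟨i⟩⟩ := exists_iso_toDD_of_isAffine (p := c.left) (ddOfSq sqE)
  obtain ⟨e, -, he2⟩ := exists_iso_of_effective sqE U₀ i
  refine ⟨descObj U₀, descProj U₀, e.hom ≫ pullback.fst f.hom g, ?_, hU₀⟩
  refine IsPullback.of_iso (IsPullback.of_hasPullback f.hom g) e.symm (Iso.refl _) (Iso.refl _)
    (Iso.refl _) ?_ ?_ ?_ ?_
  · simp
  · simp only [Iso.symm_hom, Iso.refl_hom, Category.comp_id]
    rw [← he2, Iso.inv_hom_id_assoc]
  · simp
  · simp

end Groth.Agent.S9943
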