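import Groth.Statements.S9942
import Groth.Agent.S9943
import Groth.Agent.Lib.Helper24.DescBridge
import Groth.Agent.Lib.Helper24.DescRefine
import Groth.Agent.Lib.Helper24.ZarGlueRep
import Groth.Agent.Lib.Helper24.ZarGlueAff

set_option autoImplicit false
universe u
open CategoryTheory CategoryTheory.Limits AlgebraicGeometry
open AlgSp

namespace Groth.Agent.S9942

open CategoryTheory CategoryTheory.Limits AlgebraicGeometry
open AlgSp
open Groth.Agent.Lib.Helper24.DescBridge Groth.Agent.Lib.Helper24.DescAffine Groth.Agent.Lib.Helper24.DescRefine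
open Groth.Agent.Lib.Helper24.ZarGlue Groth.Agent.Lib.Helper24.ZarGlueRep Groth.Agent.Lib.Helper24.ZarGlueAff
open Groth.Agent.Lib.Helper14.AS

set_option backward.isDefEq.respectTransparency.types false in
lemma isZariskiLocalAtTarget_isAffineHom : IsZariskiLocalAtTarget @IsAffineHom.{u} := inferInstance

/-- an open subscheme of an etale chart is an etale chart -/
lemma repWith_etale_resOpen {S : Scheme.{u}} {Y : Sp S} {U₁ : Over S} (p : (yon S).obj U₁ ⟶ Y)
    (hp : RepWith @Etale p) (O : U₁.left.Opens) :
    RepWith @Etale ((yon S).map (resOpenι U₁ O) ≫ p) :=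
  have : (RepWith (S := S) @Etale).IsMultiplicative := repWith_isMultiplicative _
  MorphismProperty.comp_mem _ _ _
    ((repWith_yon_map_iff @Etale (resOpenι U₁ O)).2 (inferInstanceAs (Etale O.ι))) hp


/-- (3) ⇒ (2): if X x_Y V is an affine scheme for every affine scheme V etale over Y, then f : X -> Y is
affine. -/
theorem result {S : Scheme.{u}} {X Y : AlgSp.Space S} (f : X ⟶ Y)
    (h : ∀ (V : Over S), IsAffine V.left → ∀ (b : (AlgSp.yon S).obj V ⟶ Y.obj), AlgSp.RepWith @Etale b →
      ∀ (P : AlgSp.Sp S) (fst : P ⟶ X.obj) (snd : P ⟶ (AlgSp.yon S).obj V), IsPullback fst snd f.hom b →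
      ∃ (W : Over S), IsAffine W.left ∧ Nonempty ((AlgSp.yon S).obj W ≅ P)) :
    AlgSp.IsAffineMor f.hom := by
  obtain ⟨U₁, p, hpe, hps⟩ := Y.property.atlas
  -- Step 1: the base change to the atlas is an affine morphism
  have hsnd : IsAffineMor (pullback.snd f.hom p) := by
    have hloc := isZariskiLocalAtTarget_isAffineHom.{u}
    have hri : MorphismProperty.RespectsIso @IsAffineHom.{u} :=
      MorphismProperty.IsStableUnderBaseChange.respectsIso
    have hrep : RepWith @IsAffineHom (pullback.snd f.hom p) := by
      refine repWith_of_affine_local @IsAffineHom _ fun Z hZ g => ?_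
      obtain ⟨g', rfl⟩ := (yon S).map_surjective g
      -- cover `Z` by the preimages of affine opens of `U₁`
      let E : Sp S := pullback (pullback.snd f.hom p) ((yon S).map g')
      obtain ⟨U, ρ, e, he, hloc⟩ := exists_rep_of_locally
        (pullback.snd (pullback.snd f.hom p) ((yon S).map g'))
        (fun _ _ r => IsAffineHom r.left) (by
        intro z
        obtain ⟨O, hO, hzO, -⟩ := exists_isAffineOpen_mem_and_subset (x := g'.left z) (U := ⊤) trivial
        -- the affine chart `O ⊆ U₁`
        have hOa : IsAffine (resOpen U₁ O).left := hO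
        obtain ⟨W, hW, ⟨iW⟩⟩ := h (resOpen U₁ O) hOa ((yon S).map (resOpenι U₁ O) ≫ p)
          (repWith_etale_resOpen p hpe O) (pullback f.hom ((yon S).map (resOpenι U₁ O) ≫ p))
          (pullback.fst _ _) (pullback.snd _ _) (IsPullback.of_hasPullback _ _)
        -- `W ⟶ O`
        obtain ⟨w, hw⟩ := (yon S).map_surjective (iW.hom ≫ pullback.snd f.hom
          ((yon S).map (resOpenι U₁ O) ≫ p))
        have sqW : IsPullback (iW.hom ≫ pullback.fst f.hom ((yon S).map (resOpenι U₁ O) ≫ p))
            ((yon S).map w) f.hom ((yon S).map (resOpenι U₁ O) ≫ p) := by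
          refine IsPullback.of_iso (IsPullback.of_hasPullback f.hom
            ((yon S).map (resOpenι U₁ O) ≫ p)) iW.symm (Iso.refl _) (Iso.refl _) (Iso.refl _)
            ?_ ?_ ?_ ?_
          · simp
          · simp only [Iso.symm_hom, Iso.refl_hom, Category.comp_id]
            rw [hw, Iso.inv_hom_id_assoc]
          · simp
          · simp
        -- `h_W = (X ×_Y U₁) ×_{U₁} O`
        have sqW' := isPullback_lift_of_isPullback f.hom p (resOpenι U₁ O) w _ sqW
        -- base change to `g'⁻¹ O ⊆ Z`
        let Oz : Z.left.Opens := g'.left ⁻¹ᵁ O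
        let W' : Over S := pullback w (resMap g' O)
        have sqV : IsPullback (pullback.fst w (resMap g' O)) (pullback.snd w (resMap g' O)) w
            (resMap g' O) := IsPullback.of_hasPullback _ _
        have sqV' := sqV.map (yon S)
        have hcomp : (yon S).map (resMap g' O) ≫ (yon S).map (resOpenι U₁ O) =
            (yon S).map (resOpenι Z Oz) ≫ (yon S).map g' := by
          rw [← Functor.map_comp, ← Functor.map_comp, resMap_comp]
        have houter := sqV'.paste_horiz sqW'
        rw [hcomp] at houter
        refine ⟨Oz, hzO, W', pullback.snd w (resMap g' O), _,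
          isPullback_lift_of_isPullback _ _ (resOpenι Z Oz) _ _ houter, ?_⟩
        have : IsAffine W.left := hW
        have hwa : IsAffineHom w.left := isAffineHom_of_isAffine _
        exact MorphismProperty.of_isPullback (P := @IsAffineHom) (sqV.map (Over.forget S)) hwa)
      refine ⟨U, ρ, e.hom ≫ pullback.fst _ _, isPullback_of_iso_pullback _ _ ρ e he, ?_⟩
      refine IsZariskiLocalAtTarget.of_forall_exists_morphismRestrict fun x => ?_
      obtain ⟨O, hxO, X', r, fst, j, -, sq', hr⟩ := hloc x
      exact ⟨O, hxO, (morphismRestrict_iff_of_isPullback @IsAffineHom sq').2 hr⟩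
    intro Z hZ g
    have sq := hrep.rep.isPullback g
    have : IsAffineHom (hrep.rep.snd g).left := hrep.property_snd g
    exact ⟨_, hrep.rep.snd g, hrep.rep.fst g, sq, isAffine_of_isAffineHom (hrep.rep.snd g).left⟩
  exact Groth.Agent.S9943.result f U₁ p hpe hps (pullback.fst f.hom p) (pullback.snd f.hom p)
    (IsPullback.of_hasPullback _ _) hsnd

end Groth.Agent.S9942
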