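import Groth.Statements.S9945
import Groth.Agent.Lib.Helper24.DescAffMor
import Groth.Agent.Lib.Helper14.AlgSpQSepCharts
import Groth.Agent.Lib.Helper14.EtaleLQF

set_option autoImplicit false
universe u
open CategoryTheory CategoryTheory.Limits AlgebraicGeometry
open AlgSp

namespace Groth.Agent.S9945

open CategoryTheory CategoryTheory.Limits AlgebraicGeometry Opposite AlgSp
open Groth.Agent.Lib.Helper14.AS Groth.Agent.Lib.Helper24.DescAffMor Groth.Agent.Lib.Helper24.DescBridge

/-- A scheme locally quasi-finite over the spectrum of an Artinian ring is discrete. -/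
theorem discreteTopology_of_lqf_artinian {P : Scheme.{u}} {A : Type u} [CommRing A]
    [IsArtinianRing A] (f : P ⟶ Spec (CommRingCat.of A)) [LocallyQuasiFinite f] :
    DiscreteTopology ↥P := by
  have hd := f.isDiscrete_preimage_singleton
  have hA : DiscreteTopology ↥(Spec (CommRingCat.of A)) :=
    inferInstanceAs (DiscreteTopology (PrimeSpectrum A))
  rw [discreteTopology_iff_isOpen_singleton]
  intro w
  have hs : IsOpen (f ⁻¹' {f w}) := (isOpen_discrete _).preimage f.continuous
  have h2 := (isDiscrete_iff_discreteTopology.1 (hd (f w)))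
  have h3 : IsOpen ({⟨w, rfl⟩} : Set ↥(f ⁻¹' {f w})) := isOpen_discrete _
  have h4 := hs.isOpenMap_subtype_val _ h3
  rwa [Set.image_singleton] at h4

set_option backward.isDefEq.respectTransparency.types false in

/-- Over a base scheme with quasi-separated underlying space, every morphism from the spectrum of an
Artinian ring to an algebraic space quasi-separated over S is affine. (The published statement
assumes X quasi-separated in the absolute sense over any base; this row assumes the base
quasi-separated and X quasi-separated over it, which on such bases is the same condition.) -/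
theorem result {S : Scheme.{u}} [QuasiSeparatedSpace ↥S] (X : AlgSp.Space S)
    (hX : AlgSp.IsQuasiSeparatedSp X.obj) (A : Type u) [CommRing A] [IsArtinianRing A]
    (str : Spec (CommRingCat.of A) ⟶ S) (a : (AlgSp.yon S).obj (Over.mk str) ⟶ X.obj) :
    AlgSp.IsAffineMor a := by
  obtain ⟨V, p, hp, hps⟩ := X.2.atlas
  have sq := hp.rep.isPullback a
  have het : Etale (hp.rep.snd a).left := hp.property_snd a
  obtain ⟨q, hq⟩ := (yon S).map_surjective (hp.rep.fst a)
  rw [← hq] at sq
  have hlqf : LocallyQuasiFinite (hp.rep.snd a).left := etale_locallyQuasiFinite _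
  have hdisc : DiscreteTopology ↥(hp.rep.pullback a).left :=
    discreteTopology_of_lqf_artinian (A := A) (hp.rep.snd a).left
  have haff : IsAffineHom q.left := by
    constructor
    intro V' hV'
    -- the open subscheme as an object over S and the pullback square
    let P' : Over S := Over.mk ((q.left ⁻¹ᵁ V').ι ≫ (hp.rep.pullback a).hom)
    let V'' : Over S := Over.mk (V'.ι ≫ V.hom)
    let ιP : P' ⟶ hp.rep.pullback a := Over.homMk (q.left ⁻¹ᵁ V').ι rfl
    let ιV : V'' ⟶ V := Over.homMk V'.ι rfl
    let q' : P' ⟶ V'' := Over.homMk (q.left ∣_ V') (by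
      change (q.left ∣_ V') ≫ V'.ι ≫ V.hom = (q.left ⁻¹ᵁ V').ι ≫ (hp.rep.pullback a).hom
      rw [← Category.assoc, morphismRestrict_ι, Category.assoc, Over.w q])
    have comm : q' ≫ ιV = ιP ≫ q := by
      ext
      exact morphismRestrict_ι _ _
    have sqO : IsPullback q' ιP ιV q :=
      IsPullback.of_map (Over.forget S) comm (isPullback_morphismRestrict q.left V')
    have sqY := (sqO.map (yon S)).paste_vert sq
    have : CompactSpace ↥V''.left := isCompact_iff_compactSpace.1 hV'.isCompact
    have : CompactSpace ↥(Over.mk str).left :=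
      inferInstanceAs (CompactSpace ↥(Spec (CommRingCat.of A)))
    have hcomp : CompactSpace ↥P'.left := by
      rw [← Functor.map_comp] at sqY
      exact compactSpace_of_isPullback_of_isQuasiSeparatedSp hX sqY
    have hdisc' : DiscreteTopology ↥P'.left :=
      inferInstanceAs (DiscreteTopology ↥(q.left ⁻¹ᵁ V'))
    have : Finite ↥P'.left := finite_of_compact_of_discrete
    exact (inferInstance : IsAffine P'.left)
  intro Z hZ g
  have h : ∀ ⦃Z' : Over S⦄, IsAffine Z'.left → ∀ (g' : (yon S).obj Z' ⟶ (yon S).obj V),
      ∃ (W' : Over S) (r : W' ⟶ Z') (fst' : (yon S).obj W' ⟶ (yon S).obj (hp.rep.pullback a)),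
        IsPullback fst' ((yon S).map r) ((yon S).map q) g' ∧ IsAffine W'.left ∧
          (⊤ : MorphismProperty Scheme.{u}) r.left := by
    intro Z' hZ' g'
    obtain ⟨γ, rfl⟩ := (yon S).map_surjective g'
    have sqZ := IsPullback.of_hasPullback q γ
    refine ⟨pullback q γ, pullback.snd q γ, (yon S).map (pullback.fst q γ), sqZ.map (yon S), ?_,
      trivial⟩
    have h1 : IsAffineHom (pullback.snd q γ).left :=
      MorphismProperty.of_isPullback (P := @IsAffineHom) (sqZ.map (Over.forget S)) haff
    exact isAffine_of_isAffineHom (pullback.snd q γ).left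
  obtain ⟨U₀, fstW, sqW, hU₀, -⟩ := exists_affine_descent ⊤ a p hp hps
    ((yon S).map (hp.rep.snd a)) ((yon S).map q) sq.flip h hZ g
  exact ⟨descObj U₀, descProj U₀, fstW, sqW, hU₀⟩

end Groth.Agent.S9945
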