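import Groth.Statements.S9946
import Groth.Agent.Lib.Helper24.DescQAffMor
import Groth.Agent.Lib.Helper24.ZarGlueRep

set_option autoImplicit false
universe u
open CategoryTheory CategoryTheory.Limits AlgebraicGeometry
open AlgSp

namespace Groth.Agent.S9946

open CategoryTheory CategoryTheory.Limits AlgebraicGeometry
open AlgSp
open Groth.Agent.Lib.Helper24.DescBridge Groth.Agent.Lib.Helper24.DescQAffMor
open Groth.Agent.Lib.Helper24.ZarGlueRep


/-- (3) ⇒ (1): if the base change of f along a surjective etale map from a scheme is quasi-affine, then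
f is representable by schemes and quasi-affine. -/
theorem result {S : Scheme.{u}} {X Y : AlgSp.Space S} (f : X ⟶ Y)
    (V : Over S) (p : (AlgSp.yon S).obj V ⟶ Y.obj) (hp : AlgSp.RepWith @Etale p) (hps : AlgSp.RepWith @Surjective p)
    {P : AlgSp.Sp S} (fst : P ⟶ X.obj) (snd : P ⟶ (AlgSp.yon S).obj V) (sq : IsPullback fst snd f.hom p)
    (h : AlgSp.IsQuasiAffineMor snd) : AlgSp.Representable f.hom ∧ AlgSp.IsQuasiAffineMor f.hom := by
  have key : AlgSp.IsQuasiAffineMor f.hom := by
    intro Z hZ g
    obtain ⟨U₀, fstW, hW, hU₀⟩ := exists_quasiAffine_descent f.hom p hp hps fst snd sq h hZ g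
    exact ⟨descObj U₀, descProj U₀, fstW, hW, hU₀⟩
  refine ⟨?_, key⟩
  have : RepWith ⊤ f.hom := by
    apply repWith_of_affine_local
    intro Z hZ g
    obtain ⟨W, i, fstW, hW, _⟩ := key hZ g
    exact ⟨W, i, fstW, hW, trivial⟩
  exact this.rep

end Groth.Agent.S9946
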