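import Groth.Statements.S9957
import Groth.Agent.Lib.Helper14.AlgSpLocP
import Groth.Agent.Lib.Helper14.AlgSpQCMor2

set_option autoImplicit false
universe u
open CategoryTheory CategoryTheory.Limits AlgebraicGeometry
open AlgSp

namespace Groth.Agent.S9957

open Groth.Agent.Lib.Helper14.AS

set_option backward.isDefEq.respectTransparency false in
theorem diag_eq_diagonal_comp {C : Type*} [Category C] [HasPullbacks C] [HasBinaryProducts C]
    {X Y : C} (f : X ⟶ Y) :
    Limits.diag X = pullback.diagonal f ≫ prod.lift (pullback.fst f f) (pullback.snd f f) := by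
  apply Limits.prod.hom_ext <;> simp [Limits.diag]

theorem isQuasiSeparatedSp_of_isQuasiSeparatedMor {S : Scheme.{u}} {X Y : AlgSp.Sp S} (f : X ⟶ Y)
    (hf : AlgSp.IsQuasiSeparatedMor f) (hY : AlgSp.IsQuasiSeparatedSp Y) :
    AlgSp.IsQuasiSeparatedSp X := by
  have magic := isPullback_diag_of_isPullback' (IsPullback.of_hasPullback f f)
  have hj : AlgSp.RepWith @QuasiCompact (prod.lift (pullback.fst f f) (pullback.snd f f)) :=
    repWith_of_isPullback _ magic hY
  change AlgSp.RepWith @QuasiCompact (Limits.diag X)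
  rw [diag_eq_diagonal_comp f]
  exact repWith_comp _ hf hj

/-- The source of a morphism of finite presentation whose target is Noetherian is itself Noetherian,
Noetherian meaning quasi-compact, quasi-separated over S and locally Noetherian. (The published
statement uses quasi-separatedness in the absolute sense; this row uses quasi-separatedness over S
in hypothesis and conclusion.) -/
theorem result {S : Scheme.{u}} {X Y : AlgSp.Space S} (f : X ⟶ Y)
    (hf : AlgSp.IsFinitePresentationMor f.hom)
    (hY : AlgSp.IsQuasiCompactSp Y.obj ∧ AlgSp.IsQuasiSeparatedSp Y.obj ∧ AlgSp.IsLocNoethSp Y.obj) :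
    AlgSp.IsQuasiCompactSp X.obj ∧ AlgSp.IsQuasiSeparatedSp X.obj ∧ AlgSp.IsLocNoethSp X.obj := by
  obtain ⟨hlfp, hqc, hqs⟩ := hf
  obtain ⟨hYc, hYs, hYn⟩ := hY
  refine ⟨hqc Y.property hYc (𝟙 _) (𝟙 _) f.hom (IsPullback.of_horiz_isIso ⟨by simp⟩),
    isQuasiSeparatedSp_of_isQuasiSeparatedMor f.hom hqs hYs, ?_⟩
  refine isLocNoethSp_of_locP_lft X.property f.hom ?_ hYn
  intro U V a b h ha hb comm
  have : LocallyOfFinitePresentation h.left := hlfp a b h ha hb comm
  infer_instance

end Groth.Agent.S9957
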