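import Groth.Statements.S9958
import Groth.Agent.Lib.Helper14.AlgSpLocP
import Groth.Agent.Lib.Helper14.NoethDescent

set_option autoImplicit false
universe u
open CategoryTheory CategoryTheory.Limits AlgebraicGeometry
open AlgSp

namespace Groth.Agent.S9958

open Groth.Agent.Lib.Helper14.AS

set_option backward.isDefEq.respectTransparency.types false in
theorem isLocallyNoetherian_of_etale_chart {S : Scheme.{u}} {Y : AlgSp.Sp S}
    (hY : AlgSp.IsLocNoethSp Y) {V : Over S} (b : (AlgSp.yon S).obj V ⟶ Y)
    (hb : AlgSp.RepWith @Etale b) : IsLocallyNoetherian V.left := by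
  obtain ⟨V0, b0, h0e, h0s, hV0⟩ := hY
  have sq := h0e.rep.isPullback b
  have h1 : Etale (h0e.rep.snd b).left := h0e.property_snd b
  have h2 : Surjective (h0e.rep.snd b).left := h0s.property _ _ _ sq
  obtain ⟨w1, hw1⟩ := (AlgSp.yon S).map_surjective (h0e.rep.fst b)
  rw [← hw1] at sq
  have h3 : Etale w1.left := hb.property _ _ _ sq.flip
  have : IsLocallyNoetherian V0.left := hV0
  have hW : IsLocallyNoetherian (h0e.rep.pullback b).left :=
    LocallyOfFiniteType.isLocallyNoetherian w1.left
  exact isLocallyNoetherian_of_flat_surjective (h0e.rep.snd b).left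

/-- Over a locally Noetherian algebraic space, locally of finite type implies locally of finite
presentation. -/
theorem result {S : Scheme.{u}} {X Y : AlgSp.Space S} (f : X ⟶ Y)
    (hY : AlgSp.IsLocNoethSp Y.obj) (hf : AlgSp.LocP @LocallyOfFiniteType f.hom) :
    AlgSp.LocP @LocallyOfFinitePresentation f.hom := by
  intro U V a b h ha hb comm
  have h1 : LocallyOfFiniteType h.left := hf a b h ha hb comm
  have : IsLocallyNoetherian V.left := isLocallyNoetherian_of_etale_chart hY b hb
  exact LocallyOfFinitePresentation.iff_locallyOfFiniteType.2 h1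

end Groth.Agent.S9958
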