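import Groth.Statements.S9975
import Groth.Agent.Lib.Helper14.AlgSpFtPt
import Groth.Agent.Lib.Helper14.EtaleLQF
import Groth.Agent.Lib.Helper6.FTPointsMap

set_option autoImplicit false
universe u
open CategoryTheory CategoryTheory.Limits AlgebraicGeometry
open AlgSp

namespace Groth.Agent.S9975

open CategoryTheory CategoryTheory.Limits AlgebraicGeometry Opposite AlgSp
open Groth.Agent.Lib.Helper14.AS

set_option backward.isDefEq.respectTransparency.types false in

/-- A point of an algebraic space is a finite type point (represented by a locally finite type morphism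
from the spectrum of a field) exactly when it is the image of a closed point of some etale scheme
chart. -/
theorem result {S : Scheme.{u}} (X : AlgSp.Space S) (x : AlgSp.Points X.obj) :
    (∃ (k : Type u) (_ : Field k) (str : Spec (CommRingCat.of k) ⟶ S) (ξ : (AlgSp.yon S).obj (Over.mk str) ⟶ X.obj),
        AlgSp.LocP @LocallyOfFiniteType ξ ∧ AlgSp.Points.ofPt ξ (IsLocalRing.closedPoint k) = x) ↔
      ∃ (U : Over S) (φ : (AlgSp.yon S).obj U ⟶ X.obj) (u : ↥U.left), AlgSp.RepWith @Etale φ ∧
        IsClosed ({u} : Set ↥U.left) ∧ AlgSp.Points.ofPt φ u = x := by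
  constructor
  · rintro ⟨k, _, str, ξ, hξ, rfl⟩
    obtain ⟨U₀, φ₀, hφe, hφs⟩ := X.2.atlas
    have sq := hφs.rep.isPullback ξ
    have hsurj : Surjective (hφs.rep.snd ξ).left := hφs.property_snd ξ
    have het : Etale (hφs.rep.snd ξ).left := hφe.property ξ _ _ sq
    obtain ⟨q, hq⟩ := (yon S).map_surjective (hφs.rep.fst ξ)
    have hqlft : LocallyOfFiniteType q.left :=
      hξ ((yon S).map (hφs.rep.snd ξ)) φ₀ q ((repWith_yon_map_iff _ _).2 het) hφe
        (by rw [hq]; exact sq.w.symm)
    obtain ⟨w, hw⟩ := (hφs.rep.snd ξ).left.surjective (IsLocalRing.closedPoint k)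
    have hlqf : LocallyQuasiFinite (hφs.rep.snd ξ).left := etale_locallyQuasiFinite _
    have hdisc : DiscreteTopology ↥(hφs.rep.pullback ξ).left := by
      have hd := (hφs.rep.snd ξ).left.isDiscrete_preimage_singleton
      have h1 : (hφs.rep.snd ξ).left ⁻¹' {(hφs.rep.snd ξ).left w} = Set.univ := by
        ext v
        simp only [Set.mem_preimage, Set.mem_singleton_iff, Set.mem_univ, iff_true]
        exact @Subsingleton.elim (PrimeSpectrum k) inferInstance _ _
      have h2 := hd ((hφs.rep.snd ξ).left w)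
      rw [h1] at h2
      rw [← isDiscrete_univ_iff]
      exact h2
    have hwc : IsClosed ({w} : Set ↥(hφs.rep.pullback ξ).left) := isClosed_discrete _
    have hci : IsClosedImmersion ((hφs.rep.pullback ξ).left.fromSpecResidueField w) :=
      isClosed_singleton_iff_isClosedImmersion.1 hwc
    have hft : LocallyOfFiniteType (U₀.left.fromSpecResidueField (q.left w)) :=
      Groth.Agent.Lib.Helper6.ftPoint_map q.left w inferInstance
    obtain ⟨V, hV, hs, hcl⟩ := Groth.Agent.Lib.Helper6.exists_affine_isClosed_of_ftPoint (q.left w) hft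
    refine ⟨Over.mk (V.ι ≫ U₀.hom), (yon S).map (Over.homMk V.ι rfl) ≫ φ₀, ⟨q.left w, hs⟩, ?_, hcl, ?_⟩
    · exact repWith_comp _ ((repWith_yon_map_iff _ _).2 (inferInstanceAs (Etale V.ι))) hφe
    · rw [ofPt_yon_map_comp]
      change Points.ofPt φ₀ (q.left w) = _
      rw [← ofPt_yon_map_comp, hq, sq.w, ofPt_yon_map_comp, hw]
  · rintro ⟨U, φ, u, hφ, hu, rfl⟩
    have hu' : IsClosed ({⟨u, trivial⟩} : Set ↥(⊤ : U.left.Opens)) := by
      have := hu.preimage (continuous_subtype_val (p := fun z => z ∈ (⊤ : U.left.Opens)))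
      convert this using 1
      ext ⟨z, hz⟩
      simp [Subtype.ext_iff]
    exact isFtPt_of_closed φ hφ ⊤ ⟨u, trivial⟩ hu'

end Groth.Agent.S9975
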