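import Groth.Statements.S9978
import Groth.Agent.Lib.Helper14.AlgSpLocP
import Groth.Agent.S9833
import Groth.Agent.S0566

set_option autoImplicit false
universe u
open CategoryTheory CategoryTheory.Limits AlgebraicGeometry
open AlgSp

namespace Groth.Agent.S9978

open CategoryTheory AlgebraicGeometry AlgSp Groth.Agent.Lib.Helper14.AS

theorem nagata_of_lft {U V : Scheme.{u}} (h : U ⟶ V) [LocallyOfFiniteType h]
    (hV : ∀ W : V.Opens, IsAffineOpen W → CAlg.IsNagata ↑Γ(V, W)) :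
    ∀ W : U.Opens, IsAffineOpen W → CAlg.IsNagata ↑Γ(U, W) := by
  have key : ∀ u : U, ∃ W : U.Opens, u ∈ W ∧ IsAffineOpen W ∧ CAlg.IsNagata ↑Γ(U, W) := by
    intro u
    obtain ⟨_, ⟨V₁, hV₁, rfl⟩, huV₁, -⟩ := V.isBasis_affineOpens.exists_subset_of_mem_open
      (Set.mem_univ (h u)) isOpen_univ
    obtain ⟨_, ⟨U₁, hU₁, rfl⟩, huU₁, hUV⟩ := U.isBasis_affineOpens.exists_subset_of_mem_open
      (show u ∈ (h ⁻¹ᵁ V₁ : Set U) from huV₁) (h ⁻¹ᵁ V₁).2
    refine ⟨U₁, huU₁, hU₁, ?_⟩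
    have hft : (h.appLE V₁ U₁ hUV).hom.FiniteType :=
      HasRingHomProperty.appLE (P := @LocallyOfFiniteType) h inferInstance ⟨V₁, hV₁⟩ ⟨U₁, hU₁⟩ hUV
    algebraize [(h.appLE V₁ U₁ hUV).hom]
    exact Groth.Agent.S0566.result ↑Γ(V, V₁) (hV V₁ hV₁) ↑Γ(U, U₁)
  choose W hW hWa hWN using key
  have hcov : iSup W = ⊤ := by
    rw [eq_top_iff]
    intro x _
    exact TopologicalSpace.Opens.mem_iSup.mpr ⟨x, hW x⟩
  exact fun W' hW' => Groth.Agent.S9833.result U W hcov hWa hWN W' hW'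


/-- An algebraic space locally of finite type over a Nagata algebraic space is Nagata. -/
theorem result {S : Scheme.{u}} {X Y : AlgSp.Space S} (f : X ⟶ Y)
    (hf : AlgSp.LocP @LocallyOfFiniteType f.hom)
    (hY : AlgSp.EtaleLocally (fun U => ∀ V : U.Opens, IsAffineOpen V → CAlg.IsNagata ↑Γ(U, V)) Y.obj) :
    AlgSp.EtaleLocally (fun U => ∀ V : U.Opens, IsAffineOpen V → CAlg.IsNagata ↑Γ(U, V)) X.obj := by
  obtain ⟨V, b, hbe, hbs, hV⟩ := hY
  obtain ⟨U, a, h, hae, has, comm⟩ := exists_chart_diagram X.property f.hom b hbe hbs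
  have : LocallyOfFiniteType h.left := hf a b h hae hbe comm
  exact ⟨U, a, hae, has, nagata_of_lft h.left hV⟩

end Groth.Agent.S9978
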