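import Groth.Statements.S9980
import Groth.Agent.Lib.Helper24.ResidChart
import Groth.Agent.Lib.Helper24.FtPtChart
import Groth.Agent.Lib.Helper14.AlgSpFtPt

set_option autoImplicit false
universe u
open CategoryTheory CategoryTheory.Limits AlgebraicGeometry
open AlgSp

namespace Groth.Agent.S9980

open CategoryTheory CategoryTheory.Limits AlgebraicGeometry Opposite AlgSp
open Groth.Agent.Lib.Helper14.AS Groth.Agent.Lib.Helper24.ResidChart Groth.Agent.Lib.Helper24.FtPtClosed

set_option backward.isDefEq.respectTransparency.types false in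
theorem part_a_mp {S : Scheme.{u}} (X : AlgSp.Space S) (x : AlgSp.Points X.obj)
    (h : IsFtPt X.obj x) :
    ∃ (Z : AlgSp.Space S) (f : Z ⟶ X), Nonempty (Unique (AlgSp.Points Z.obj)) ∧
        AlgSp.LocP @LocallyOfFiniteType f.hom ∧ Set.range (AlgSp.Points.map f.hom) = {x} := by
  obtain ⟨k, _, str, ξ, hξ, hx⟩ := h
  let Z : AlgSp.Space S := ⟨(yon S).obj (Over.mk str), IsAlgSpace.yon_obj _⟩
  let f : Z ⟶ X := ObjectProperty.homMk ξ
  let e : Spec (CommRingCat.of k) ≃ Points ((yon S).obj (Over.mk str)) :=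
    Points.schemeEquiv (Over.mk str)
  haveI : Unique (Spec (CommRingCat.of k)) := inferInstanceAs (Unique (PrimeSpectrum k))
  refine ⟨Z, f, ⟨e.symm.unique⟩, hξ, ?_⟩
  have hall : ∀ z : Points Z.obj, Points.map ξ z = x := by
    intro z
    obtain ⟨t, rfl⟩ := e.surjective z
    change Points.map ξ (Points.ofScheme _ t) = x
    rw [← Points.ofPt_eq_map_ofScheme, ← hx]
    congr 1
    exact Subsingleton.elim (α := Spec (CommRingCat.of k)) _ _
  apply subset_antisymm
  · rintro _ ⟨z, rfl⟩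
    exact hall z
  · rintro _ rfl
    exact ⟨e (IsLocalRing.closedPoint k), hall _⟩

theorem part_a_mpr {S : Scheme.{u}} (X : AlgSp.Space S) (x : AlgSp.Points X.obj)
    (h : ∃ (Z : AlgSp.Space S) (f : Z ⟶ X), Nonempty (Unique (AlgSp.Points Z.obj)) ∧
        AlgSp.LocP @LocallyOfFiniteType f.hom ∧ Set.range (AlgSp.Points.map f.hom) = {x}) :
    IsFtPt X.obj x := by
  obtain ⟨Z, f, ⟨hU⟩, hf, hr⟩ := h
  obtain ⟨z, -, k, _, str, ξ, hξ, hz⟩ :=
    exists_isFtPt_of_isLocallyClosed Z.property Set.univ isOpen_univ.isLocallyClosed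
      ⟨hU.default, trivial⟩
  refine ⟨k, inferInstance, str, ξ ≫ f.hom, ?_, ?_⟩
  · exact locP_comp etLocal_lft (IsAlgSpace.yon_obj _) Z.property X.property ξ f.hom hξ hf
  · have : Points.map f.hom (Points.ofPt ξ (IsLocalRing.closedPoint k)) ∈
        Set.range (Points.map f.hom) := ⟨_, rfl⟩
    rw [hr] at this
    rw [← Points.map_ofPt]
    exact this

set_option backward.isDefEq.respectTransparency.types false in
theorem part_b_mp {S : Scheme.{u}} (X : AlgSp.Space S) (x : AlgSp.Points X.obj)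
    (h : IsFtPt X.obj x) :
    ∃ (Z : AlgSp.Space S) (f : Z ⟶ X) (k : Type u) (_ : Field k) (str : Spec (CommRingCat.of k) ⟶ S)
        (z : (AlgSp.yon S).obj (Over.mk str) ⟶ Z.obj), AlgSp.RepWith @Etale z ∧ AlgSp.RepWith @Surjective z ∧
        AlgSp.LocP @LocallyOfFiniteType f.hom ∧ Mono f.hom ∧
        AlgSp.Points.ofPt (z ≫ f.hom) (IsLocalRing.closedPoint k) = x := by
  obtain ⟨U, φ, u, hφe, hu, hx⟩ := exists_closed_chart_of_isFtPt X.property x h
  obtain ⟨Z, hZ, i, hmono, π, hπe, hπs, hπi⟩ := exists_residual_space_chart X.property φ hφe u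
  have hci : IsClosedImmersion (U.left.fromSpecResidueField u) :=
    isClosed_singleton_iff_isClosedImmersion.1 hu
  have hg₀ : LocallyOfFiniteType (U.left.fromSpecResidueField u) := inferInstance
  have hc : LocP @LocallyOfFiniteType (π ≫ i) := by
    rw [hπi]
    refine locP_of_repWith etale_le_lft (repWith_comp _ ?_ (repWith_mono etale_le_lft hφe))
    rw [repWith_yon_map_iff]
    exact hg₀
  have hi : LocP @LocallyOfFiniteType i :=
    locP_of_source_cover etLocal_lft X.property i π hπe hπs hc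
  refine ⟨⟨Z, hZ⟩, ObjectProperty.homMk i, ↑(U.left.residueField u), inferInstance, _, π, hπe, hπs,
    hi, hmono, ?_⟩
  change Points.ofPt (π ≫ i) _ = x
  rw [hπi, ofPt_yon_map_comp, ← hx]
  congr 1
  exact Scheme.fromSpecResidueField_apply _ _

theorem part_b_mpr {S : Scheme.{u}} (X : AlgSp.Space S) (x : AlgSp.Points X.obj)
    (h : ∃ (Z : AlgSp.Space S) (f : Z ⟶ X) (k : Type u) (_ : Field k) (str : Spec (CommRingCat.of k) ⟶ S)
        (z : (AlgSp.yon S).obj (Over.mk str) ⟶ Z.obj), AlgSp.RepWith @Etale z ∧ AlgSp.RepWith @Surjective z ∧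
        AlgSp.LocP @LocallyOfFiniteType f.hom ∧ Mono f.hom ∧
        AlgSp.Points.ofPt (z ≫ f.hom) (IsLocalRing.closedPoint k) = x) :
    IsFtPt X.obj x := by
  obtain ⟨Z, f, k, _, str, z, hze, -, hf, -, hx⟩ := h
  refine ⟨k, inferInstance, str, z ≫ f.hom, ?_, hx⟩
  exact locP_comp etLocal_lft (IsAlgSpace.yon_obj _) Z.property X.property z f.hom
    (locP_of_repWith etale_le_lft (repWith_mono etale_le_lft hze)) hf


/-- Characterizations of finite type points via one-point algebraic spaces locally of finite type over X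
and via monomorphisms from quotients of spectra of fields. -/
theorem result {S : Scheme.{u}} (X : AlgSp.Space S) (x : AlgSp.Points X.obj) :
    ((∃ (k : Type u) (_ : Field k) (str : Spec (CommRingCat.of k) ⟶ S) (ξ : (AlgSp.yon S).obj (Over.mk str) ⟶ X.obj),
        AlgSp.LocP @LocallyOfFiniteType ξ ∧ AlgSp.Points.ofPt ξ (IsLocalRing.closedPoint k) = x) ↔
      ∃ (Z : AlgSp.Space S) (f : Z ⟶ X), Nonempty (Unique (AlgSp.Points Z.obj)) ∧
        AlgSp.LocP @LocallyOfFiniteType f.hom ∧ Set.range (AlgSp.Points.map f.hom) = {x}) ∧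
    ((∃ (k : Type u) (_ : Field k) (str : Spec (CommRingCat.of k) ⟶ S) (ξ : (AlgSp.yon S).obj (Over.mk str) ⟶ X.obj),
        AlgSp.LocP @LocallyOfFiniteType ξ ∧ AlgSp.Points.ofPt ξ (IsLocalRing.closedPoint k) = x) ↔
      ∃ (Z : AlgSp.Space S) (f : Z ⟶ X) (k : Type u) (_ : Field k) (str : Spec (CommRingCat.of k) ⟶ S)
        (z : (AlgSp.yon S).obj (Over.mk str) ⟶ Z.obj), AlgSp.RepWith @Etale z ∧ AlgSp.RepWith @Surjective z ∧
        AlgSp.LocP @LocallyOfFiniteType f.hom ∧ Mono f.hom ∧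
        AlgSp.Points.ofPt (z ≫ f.hom) (IsLocalRing.closedPoint k) = x) := by
  exact ⟨⟨part_a_mp X x, part_a_mpr X x⟩, ⟨part_b_mp X x, part_b_mpr X x⟩⟩

end Groth.Agent.S9980
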