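import Groth.Statements.S9981
import Groth.Agent.Lib.Helper14.LocConstr
import Groth.Agent.Lib.Helper14.AlgSpPoints

set_option autoImplicit false
universe u
open CategoryTheory CategoryTheory.Limits AlgebraicGeometry
open AlgSp

namespace Groth.Agent.S9981

/-- The inverse image of an etale locally constructible subset under a morphism of algebraic spaces is
etale locally constructible. -/
theorem result {S : Scheme.{u}} {X Y : AlgSp.Space S} (f : X ⟶ Y)
    (E : Set (AlgSp.Points Y.obj))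
    (hE : (∀ (U : Over S) (φ : (AlgSp.yon S).obj U ⟶ Y.obj), AlgSp.RepWith @Etale φ →
        Topology.IsLocallyConstructible (AlgSp.Points.ofPt φ ⁻¹' E))) :
    (∀ (U : Over S) (φ : (AlgSp.yon S).obj U ⟶ X.obj), AlgSp.RepWith @Etale φ →
        Topology.IsLocallyConstructible (AlgSp.Points.ofPt φ ⁻¹' (AlgSp.Points.map f.hom ⁻¹' E))) := by
  intro U φ hφ
  obtain ⟨V, q, hq, hqs⟩ := Y.2.atlas
  have sq := hq.rep.isPullback' (φ ≫ f.hom)
  have het2 : Etale (hq.rep.snd (φ ≫ f.hom)).left := hq.property_snd _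
  have hsurj2 : Surjective (hq.rep.snd (φ ≫ f.hom)).left := hqs.property_snd _
  have h1 := Groth.Agent.Lib.Helper14.AS.isLocallyConstructible_preimage
    (hq.rep.fst' (φ ≫ f.hom)).left (hE V q hq)
  have e : (hq.rep.fst' (φ ≫ f.hom)).left ⁻¹' (AlgSp.Points.ofPt q ⁻¹' E) =
      (hq.rep.snd (φ ≫ f.hom)).left ⁻¹'
        (AlgSp.Points.ofPt φ ⁻¹' (AlgSp.Points.map f.hom ⁻¹' E)) := by
    ext w
    simp only [Set.mem_preimage]
    rw [AlgSp.Points.map_ofPt, ← Groth.Agent.Lib.Helper14.AS.ofPt_yon_map_comp,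
      ← Groth.Agent.Lib.Helper14.AS.ofPt_yon_map_comp, sq.w]
  rw [e] at h1
  exact Groth.Agent.Lib.Helper14.AS.isLocallyConstructible_of_preimage
    (hq.rep.snd (φ ≫ f.hom)).left (hq.rep.snd (φ ≫ f.hom)).left.isOpenMap hsurj2.surj h1

end Groth.Agent.S9981
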