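import Groth.Statements.S9982
import Groth.Agent.Lib.Helper14.LocConstr
import Groth.Agent.Lib.Helper14.AlgSpPoints
import Groth.Agent.Lib.Helper14.SchImg1

set_option autoImplicit false
universe u
open CategoryTheory CategoryTheory.Limits AlgebraicGeometry
open AlgSp

namespace Groth.Agent.S9982

/-- A quasi-compact morphism locally of finite presentation between algebraic spaces maps etale locally
constructible sets to etale locally constructible sets. -/
theorem result {S : Scheme.{u}} {X Y : AlgSp.Space S} (f : X ⟶ Y)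
    (hq : AlgSp.IsQuasiCompactMor f.hom) (hfp : AlgSp.LocP @LocallyOfFinitePresentation f.hom)
    (E : Set (AlgSp.Points X.obj))
    (hE : (∀ (U : Over S) (φ : (AlgSp.yon S).obj U ⟶ X.obj), AlgSp.RepWith @Etale φ →
        Topology.IsLocallyConstructible (AlgSp.Points.ofPt φ ⁻¹' E))) :
    (∀ (U : Over S) (φ : (AlgSp.yon S).obj U ⟶ Y.obj), AlgSp.RepWith @Etale φ →
        Topology.IsLocallyConstructible (AlgSp.Points.ofPt φ ⁻¹' (AlgSp.Points.map f.hom '' E))) := by
  intro U φ hφ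
  refine Topology.IsLocallyConstructible.of_isOpenCover
    (U := fun i : U.left.affineOpens => (i.1 : U.left.Opens)) ?_ ?_
  · rw [TopologicalSpace.IsOpenCover]
    exact AlgebraicGeometry.iSup_affineOpens_eq_top _
  rintro ⟨U₀, hU₀⟩
  let U₀' : Over S := Over.mk (U₀.ι ≫ U.hom)
  let ι' : U₀' ⟶ U := Over.homMk U₀.ι rfl
  have hι' : AlgSp.RepWith @Etale ((AlgSp.yon S).map ι') :=
    (AlgSp.repWith_yon_map_iff _ _).2 (show Etale U₀.ι from inferInstance)
  have hb : AlgSp.RepWith @Etale ((AlgSp.yon S).map ι' ≫ φ) :=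
    (AlgSp.RepWith @Etale).comp_mem _ _ hι' hφ
  have haff : IsAffine U₀'.left := hU₀
  have hcpt : CompactSpace ↥U₀'.left := inferInstance
  obtain ⟨V, p, hpe, hps, hV⟩ := hq (AlgSp.IsAlgSpace.yon_obj U₀')
    (Groth.Agent.Lib.Helper14.AS.isQuasiCompactSp_yon U₀') ((AlgSp.yon S).map ι' ≫ φ)
    (pullback.fst f.hom ((AlgSp.yon S).map ι' ≫ φ)) (pullback.snd f.hom ((AlgSp.yon S).map ι' ≫ φ))
    (IsPullback.of_hasPullback _ _)
  obtain ⟨g, hg⟩ := (AlgSp.yon S).map_surjective (p ≫ pullback.snd f.hom ((AlgSp.yon S).map ι' ≫ φ))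
  have hfst : AlgSp.RepWith @Etale (pullback.fst f.hom ((AlgSp.yon S).map ι' ≫ φ)) :=
    MorphismProperty.of_isPullback (P := AlgSp.RepWith @Etale)
      (IsPullback.of_hasPullback f.hom ((AlgSp.yon S).map ι' ≫ φ)).flip hb
  have ha : AlgSp.RepWith @Etale (p ≫ pullback.fst f.hom ((AlgSp.yon S).map ι' ≫ φ)) :=
    (AlgSp.RepWith @Etale).comp_mem _ _ hpe hfst
  have hcomm : (p ≫ pullback.fst f.hom ((AlgSp.yon S).map ι' ≫ φ)) ≫ f.hom =
      (AlgSp.yon S).map g ≫ ((AlgSp.yon S).map ι' ≫ φ) := by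
    rw [Category.assoc, pullback.condition, ← Category.assoc, hg]
  have hglfp : LocallyOfFinitePresentation g.left := hfp _ _ g ha hb hcomm
  have hgqc : QuasiCompact g.left := by
    rw [HasAffineProperty.iff_of_isAffine (P := @QuasiCompact)]
    exact hV
  have h1 := hE V _ ha
  have h2 := g.left.isLocallyConstructible_image h1
  refine (congrArg (Topology.IsLocallyConstructible (X := ↥U₀'.left)) ?_).mpr h2
  ext ⟨u, hu⟩
  have hofu : AlgSp.Points.ofPt φ u = AlgSp.Points.ofPt ((AlgSp.yon S).map ι' ≫ φ) ⟨u, hu⟩ := by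
    rw [Groth.Agent.Lib.Helper14.AS.ofPt_yon_map_comp]
    rfl
  simp only [Set.mem_preimage, Set.mem_image]
  constructor
  · rintro ⟨e, heE, he⟩
    rw [hofu, AlgSp.Points.ofPt_eq_map_ofScheme] at he
    obtain ⟨z, hz1, hz2⟩ := Groth.Agent.Lib.Helper14.AS.points_exists_of_isPullback
      (IsPullback.of_hasPullback f.hom ((AlgSp.yon S).map ι' ≫ φ)) e _ he
    obtain ⟨v, rfl⟩ := Groth.Agent.Lib.Helper14.AS.ofPt_surjective_of_repWith hps z
    refine ⟨v, ?_, ?_⟩
    · show AlgSp.Points.ofPt (p ≫ pullback.fst f.hom ((AlgSp.yon S).map ι' ≫ φ)) v ∈ E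
      rw [← AlgSp.Points.map_ofPt, hz1]
      exact heE
    · rw [AlgSp.Points.map_ofPt, ← hg] at hz2
      have := congrArg (AlgSp.Points.toScheme U₀') hz2
      rw [AlgSp.Points.toScheme_ofPt, AlgSp.Points.toScheme_ofScheme] at this
      exact this
  · rintro ⟨v, hvE, hv⟩
    refine ⟨_, hvE, ?_⟩
    rw [hofu, AlgSp.Points.map_ofPt, hcomm, Groth.Agent.Lib.Helper14.AS.ofPt_yon_map_comp]
    exact congrArg _ hv

end Groth.Agent.S9982
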